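import Groth.Agent.Lib.LinkGr.Equidim

/-!
# Irreducible components through a point of a linked Grassmannian
-/

open AlgebraicGeometry CategoryTheory W4c1limliniiii TensorProduct

universe u

namespace Groth.Agent.Lib.LinkGr

variable {k : Type u} [Field k] {d r n : ℕ} {f g : Fin n → ((Fin d → k) →ₗ[k] (Fin d → k))} {s : k}
  {X : Over (Spec (CommRingCat.of k))}

/-- The rank of `φ₀` on a member. -/
noncomputable def imrk {K : Type u} [Field K] [Algebra k K] (φ₀ : (Fin d → k) →ₗ[k] (Fin d → k))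
    (G : Module.Grassmannian K (E k d K) (d - r)) : ℕ :=
  Module.finrank K (Submodule.map (φ₀.baseChange K) G.toSubmodule)

theorem imrk_eq_FA {K : Type u} [Field K] [Algebra k K] (i : Fin n)
    (G : Module.Grassmannian K (E k d K) (d - r)) :
    imrk (f i) G = Module.finrank K (Submodule.map (FA K f i) G.toSubmodule) :=
  congrArg (fun F => Module.finrank K ↥(Submodule.map F G.toSubmodule)) (FA_apply i).symm

theorem imrk_le_of_units {A K L : Type u} [CommRing A] [Algebra k A] [Field K] [Algebra k K] [Field L]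
    [Algebra k L] (π : A →ₐ[k] K) (hπ : Function.Surjective π) (hu : ∀ a, π a ≠ 0 → IsUnit a)
    (σ : A →ₐ[k] L) (φ₀ : (Fin d → k) →ₗ[k] (Fin d → k)) (G : Module.Grassmannian A (E k d A) (d - r)) :
    imrk φ₀ (Module.Grassmannian.map π G) ≤ imrk φ₀ (Module.Grassmannian.map σ G) := by
  obtain ⟨z, hz, hzi⟩ := exists_witness (φ₀.baseChange K) (Module.Grassmannian.map π G).toSubmodule
  choose w hw hw' using fun l => exists_mem_Phi_eq π hπ G (hz l)
  obtain ⟨Lm, hL⟩ := exists_mnr_ne_zero hzi
  have h : π (mnr Lm fun l => φ₀.baseChange A (w l)) ≠ 0 := by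
    rw [← mnr_Phi]
    simp only [Phi_baseChange, hw']
    exact hL
  have h2 := (hu _ h).map σ
  rw [← mnr_Phi] at h2
  simp only [Phi_baseChange] at h2
  exact card_le_finrank _ (linearIndependent_of_mnr h2)
    fun l => Submodule.mem_map_of_mem (Phi_mem_map σ G (hw l))

theorem imrk_map {K L : Type u} [Field K] [Algebra k K] [Field L] [Algebra k L] (σ : K →ₐ[k] L)
    (φ₀ : (Fin d → k) →ₗ[k] (Fin d → k)) (G : Module.Grassmannian K (E k d K) (d - r)) :
    imrk φ₀ (Module.Grassmannian.map σ G) = imrk φ₀ G := by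
  refine le_antisymm ?_ ?_
  · let b := basisOf (G.toSubmodule.map (φ₀.baseChange K)) rfl
    let w := fun l => Phi σ (b l : E k d K)
    have hle : (Module.Grassmannian.map σ G).toSubmodule.map (φ₀.baseChange L) ≤
        Submodule.span L (Set.range w) := by
      rw [Submodule.map_le_iff_le_comap]
      refine (map_le_span σ G).trans (Submodule.span_le.2 ?_)
      rintro _ ⟨z, hz, rfl⟩
      rw [SetLike.mem_coe, Submodule.mem_comap, ← Phi_baseChange]
      obtain ⟨c, hc⟩ := eq_sum_basisOf (V := G.toSubmodule.map (φ₀.baseChange K)) rfl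
        (Submodule.mem_map_of_mem (f := φ₀.baseChange K) hz)
      rw [hc, Phi_linearCombination]
      exact Submodule.sum_mem _ fun l _ => Submodule.smul_mem _ _ (Submodule.subset_span ⟨l, rfl⟩)
    exact (Submodule.finrank_mono hle).trans ((finrank_range_le_card w).trans (Fintype.card_fin _).le)
  · have h := imrk_le_of_units (AlgHom.id k K) Function.surjective_id (fun a ha => IsUnit.mk0 a ha) σ φ₀ G
    have hid : Module.Grassmannian.map (AlgHom.id k K) G = G :=
      Module.Grassmannian.map_id (d - r) (CommAlgCat.of k K) G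
    rwa [hid] at h

/-- The local ring at a point with its residue field. -/
structure LocalPt (X : Over (Spec (CommRingCat.of k))) (pt : X.left) where
  /-- The local ring. -/
  A : Type u
  /-- The residue field. -/
  K : Type u
  [cA : CommRing A]
  [aA : Algebra k A]
  [fK : Field K]
  [aK : Algebra k K]
  /-- The canonical map. -/
  iA : Spec (CommRingCat.of A) ⟶ X.left
  hA : iA ≫ X.hom = str k A
  /-- The residue map. -/
  π : A →ₐ[k] K
  surj : Function.Surjective π
  units : ∀ a, π a ≠ 0 → IsUnit a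
  res : IsResiduePt (k := k) (Spec.map (CommRingCat.ofHom π.toRingHom) ≫ iA) pt
  gen : ∀ η, η ⤳ pt → η ∈ Set.range iA

attribute [instance] LocalPt.cA LocalPt.aA LocalPt.fK LocalPt.aK

theorem nonempty_localPt (X : Over (Spec (CommRingCat.of k))) (pt : X.left) : Nonempty (LocalPt X pt) := by
  let A := X.left.presheaf.stalk pt
  let alg : Algebra k ↥A := RingHom.toAlgebra (R := k) (S := ↥A) (Spec.preimage (X.left.fromSpecStalk pt ≫ X.hom)).hom
  have hA : X.left.fromSpecStalk pt ≫ X.hom = str k A := (Spec.map_preimage _).symm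
  let π := IsScalarTower.toAlgHom k A (IsLocalRing.ResidueField A)
  refine ⟨{ A := ↥A, K := IsLocalRing.ResidueField A, cA := inferInstance, aA := alg, fK := inferInstance,
            aK := inferInstance, iA := X.left.fromSpecStalk pt, hA := hA, π := π
            surj := IsLocalRing.residue_surjective, units := fun a ha => ?_, res := ⟨?_, ?_, ?_⟩, gen := fun η hη => ?_ }⟩
  · exact (IsLocalRing.residue_ne_zero_iff_isUnit a).1 ha
  · rw [Category.assoc, hA]; exact str_comp π
  · exact fun q => Scheme.fromSpecResidueField_apply (X := X.left) pt q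
  · intro L _ z q hq
    obtain rfl : q = IsLocalRing.closedPoint L := Subsingleton.elim _ _
    subst hq
    exact ⟨_, (Scheme.descResidueField_stalkClosedPointTo_fromSpecResidueField L X.left z).symm⟩
  · rw [Scheme.range_fromSpecStalk]; exact hη

variable
  (e : ∀ A : CommAlgCat.{u} k,
    (Over.mk (Spec.map (CommRingCat.ofHom (algebraMap k A))) ⟶ X) ≃ LGPoints k d r n f g A)

/-- A chosen local ring at a point. -/
noncomputable def lpt (pt : X.left) : LocalPt X pt := Classical.choice (nonempty_localPt X pt)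

/-- The rank of `φ₀` on the `l`-th member at a point. -/
noncomputable def ptRank (φ₀ : (Fin d → k) →ₗ[k] (Fin d → k)) (l : Fin (n + 1)) (pt : X.left) : ℕ :=
  imrk φ₀ ((tuple e (Spec.map (CommRingCat.ofHom (lpt pt).π.toRingHom) ≫ (lpt pt).iA) (lpt pt).res.str_eq).1 l)

variable (he : ∀ (A B : CommAlgCat.{u} k) (φ : A ⟶ B)
      (x : Over.mk (Spec.map (CommRingCat.ofHom (algebraMap k A))) ⟶ X)
      (x' : Over.mk (Spec.map (CommRingCat.ofHom (algebraMap k B))) ⟶ X),
      x'.left = Spec.map (CommRingCat.ofHom φ.hom.toRingHom) ≫ x.left →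
        ∀ i, (e B x').1 i = Module.Grassmannian.map φ.hom ((e A x).1 i))

include he in
theorem ptRank_eq {L : Type u} [Field L] [Algebra k L] (z : Spec (CommRingCat.of L) ⟶ X.left)
    (hz : z ≫ X.hom = str k L) (q : Spec (CommRingCat.of L)) {pt : X.left} (hq : z q = pt)
    (φ₀ : (Fin d → k) →ₗ[k] (Fin d → k)) (l : Fin (n + 1)) :
    ptRank e φ₀ l pt = imrk φ₀ ((tuple e z hz).1 l) := by
  obtain ⟨σ, hσ⟩ := exists_residue_algHom (lpt pt).res z hz q hq
  rw [tuple_map e he σ _ (lpt pt).res.str_eq z hz hσ l, imrk_map]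
  rfl

include he in
theorem ptRank_mono {η pt : X.left} (h : η ⤳ pt) (φ₀ : (Fin d → k) →ₗ[k] (Fin d → k)) (l : Fin (n + 1)) :
    ptRank e φ₀ l pt ≤ ptRank e φ₀ l η := by
  let D := lpt pt
  obtain ⟨q, rfl⟩ := D.gen η h
  let p : PrimeSpectrum D.A := q
  let σ := IsScalarTower.toAlgHom k D.A p.asIdeal.ResidueField
  let z := Spec.map (CommRingCat.ofHom σ.toRingHom) ≫ D.iA
  have hz : z ≫ X.hom = str k p.asIdeal.ResidueField := by rw [Category.assoc, D.hA]; exact str_comp σ
  let q0 : PrimeSpectrum p.asIdeal.ResidueField := ⟨⊥, Ideal.isPrime_bot⟩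
  have hq : z q0 = D.iA q := by
    show D.iA (Spec.map (CommRingCat.ofHom σ.toRingHom) q0) = _
    congr 1
    refine PrimeSpectrum.ext (Ideal.ext fun a => ?_)
    show σ a ∈ (⊥ : Ideal p.asIdeal.ResidueField) ↔ a ∈ p.asIdeal
    rw [Ideal.mem_bot]
    exact Ideal.algebraMap_residueField_eq_zero
  rw [ptRank_eq e he z hz q0 hq, tuple_map e he σ D.iA D.hA z hz rfl l]
  show imrk φ₀ ((tuple e _ (lpt pt).res.str_eq).1 l) ≤ _
  rw [tuple_map e he D.π D.iA D.hA _ D.res.str_eq rfl l]
  exact imrk_le_of_units D.π D.surj D.units σ φ₀ _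

theorem imrk_add_le (hrd : r ≤ d) (hI : ∀ i, (g i).comp (f i) = (0 : k) • LinearMap.id) {K : Type u} [Field K]
    [Algebra k K] {u : Fin (n + 1) → Module.Grassmannian K (E k d K) (d - r)} (hu : u ∈ LGPoints k d r n f g K)
    (i : Fin n) : imrk (f i) (u i.castSucc) + imrk (g i) (u i.succ) ≤ r := by
  have hle : (u i.castSucc).toSubmodule.map (FA K f i) ≤ LinearMap.ker (FA K g i) ⊓ (u i.succ).toSubmodule :=
    le_inf (by
      rintro _ ⟨z, -, rfl⟩
      rw [LinearMap.mem_ker, smul_eq (f := g) (g := f) hI K i.isLt, map_zero, zero_smul])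
      (by rw [FA_apply]; exact (hu i).1)
  have h1 := finrank_map_add_ker (FA K g i) (u i.succ).toSubmodule
  rw [finrank_eq hrd] at h1
  have h2 := Submodule.finrank_mono hle
  rw [imrk_eq_FA, imrk_eq_FA]
  omega

include he in
theorem exists_generization (hrd : r ≤ d)
    (hI : ∀ i, (f i).comp (g i) = (0 : k) • LinearMap.id ∧ (g i).comp (f i) = (0 : k) • LinearMap.id)
    (hII : ∀ i, d ≤ Module.finrank k (LinearMap.range (f i)) + Module.finrank k (LinearMap.range (g i)))
    (hIII : ∀ i j : Fin n, i.val + 1 = j.val →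
      LinearMap.range (f i) ⊓ LinearMap.ker (f j) = ⊥ ∧ LinearMap.range (g j) ⊓ LinearMap.ker (g i) = ⊥)
    (pt : X.left) (i : Fin n) (hi : ptRank e (f i) i.castSucc pt + ptRank e (g i) i.succ pt < r) :
    ∃ η, η ⤳ pt ∧ ptRank e (g i) i.succ η = ptRank e (g i) i.succ pt ∧
      ∑ l : Fin n, ptRank e (f l) l.castSucc pt < ∑ l : Fin n, ptRank e (f l) l.castSucc η := by
  classical
  let D := lpt pt
  let u := tuple e (Spec.map (CommRingCat.ofHom D.π.toRingHom) ≫ D.iA) D.res.str_eq
  have hfail : ¬ (LinearMap.ker (FA D.K g i) ⊓ mem u.1 (i + 1) ≤ (mem u.1 i).map (FA D.K f i) ∧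
      LinearMap.ker (FA D.K f i) ⊓ mem u.1 i ≤ (mem u.1 (i + 1)).map (FA D.K g i)) := by
    rintro ⟨h, -⟩
    rw [ker_le_iff (fun z => by rw [smul_eq (f := g) (g := f) (fun i => (hI i).2) D.K i.isLt, map_zero, zero_smul])
      ((mem_linked u.2).1 i i.isLt) (finrank_eq hrd _)] at h
    rw [show (i : ℕ) = ((i.castSucc : Fin (n + 1)) : ℕ) from rfl, mem_val,
      show ((i.castSucc : Fin (n + 1)) : ℕ) + 1 = ((i.succ : Fin (n + 1)) : ℕ) from rfl, mem_val] at h
    simp only [Fin.val_castSucc] at h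
    rw [← imrk_eq_FA, ← imrk_eq_FA] at h
    exact absurd h (not_le.2 hi)
  have hex : ¬ IsExact k d r n f g D.K u.1 := fun h => hfail (by
    have h' := h i
    rw [← mem_val, ← mem_val, Fin.val_succ, Fin.val_castSucc, ← FA_apply, ← FA_apply] at h'
    exact h')
  obtain ⟨h, h0, W, hW, q, hq, hW0, hWrk⟩ := exists_curve hrd hI hII hIII u.2 hex
  obtain ⟨y, hy, hy'⟩ := exists_tuple e (⟨W, hW⟩ : LGPoints k d r n f g (Localization.Away h))
  let P := Polynomial D.K
  let L := FractionRing P
  let ev : P →ₐ[k] D.K := (Polynomial.aeval (0 : D.K)).restrictScalars k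
  let φ₀ : Localization.Away h →ₐ[k] D.K := IsLocalization.liftAlgHom (M := Submonoid.powers h) (f := ev) (by
    rintro ⟨_, m, rfl⟩
    rw [map_pow]
    exact (IsUnit.mk0 _ (by simpa [ev] using h0)).pow m)
  let φη : Localization.Away h →ₐ[k] L := IsLocalization.liftAlgHom (M := Submonoid.powers h)
    (f := IsScalarTower.toAlgHom k P L) (by
    rintro ⟨_, m, rfl⟩
    have hh : algebraMap P L h ≠ 0 :=
      fun hh => h0 (by rw [(IsFractionRing.injective P L) (hh.trans (map_zero _).symm), Polynomial.eval_zero])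
    rw [map_pow]
    exact (IsUnit.mk0 _ hh).pow m)
  have hφ₀ : ∀ p : P, φ₀ (algebraMap P _ p) = p.eval 0 := fun p => by
    rw [IsLocalization.liftAlgHom_apply, IsLocalization.lift_eq]
    simp [ev]
  have hφη : ∀ p : P, φη (algebraMap P _ p) = algebraMap P L p := fun p => by
    rw [IsLocalization.liftAlgHom_apply, IsLocalization.lift_eq]
    rfl
  have hy0 : Spec.map (CommRingCat.ofHom φ₀.toRingHom) ≫ y =
      Spec.map (CommRingCat.ofHom D.π.toRingHom) ≫ D.iA := by
    have h1 : (Spec.map (CommRingCat.ofHom φ₀.toRingHom) ≫ y) ≫ X.hom = str k D.K := by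
      rw [Category.assoc, hy]; exact str_comp _
    refine tuple_injective e (h := h1) (h' := D.res.str_eq) fun l => ?_
    rw [tuple_map e he φ₀ y hy _ h1 rfl l, hy']
    exact hW0 φ₀ hφ₀ l
  let zη := Spec.map (CommRingCat.ofHom φη.toRingHom) ≫ y
  have hzη : zη ≫ X.hom = str k L := by rw [Category.assoc, hy]; exact str_comp _
  let qL : Spec (CommRingCat.of L) := IsLocalRing.closedPoint L
  let qK : Spec (CommRingCat.of D.K) := IsLocalRing.closedPoint D.K
  have hspec : Spec.map (CommRingCat.ofHom φη.toRingHom) qL ⤳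
      Spec.map (CommRingCat.ofHom φ₀.toRingHom) qK := by
    refine (PrimeSpectrum.le_iff_specializes _ _).1 fun b hb => ?_
    have hb' : φη b ∈ IsLocalRing.maximalIdeal L := hb
    rw [IsLocalRing.maximalIdeal_eq_bot, Ideal.mem_bot] at hb'
    obtain ⟨⟨p, _, m, rfl⟩, hp⟩ := IsLocalization.surj (Submonoid.powers h) b
    have h1 := congrArg φη hp
    rw [map_mul, hb', zero_mul, hφη] at h1
    have hp0 : p = 0 := IsFractionRing.injective P L (h1.symm.trans (map_zero _).symm)
    have h2 := congrArg φ₀ hp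
    rw [map_mul, hφ₀, hφ₀, hp0, Polynomial.eval_zero, mul_eq_zero,
      or_iff_left (by simpa using pow_ne_zero m h0)] at h2
    show φ₀ b ∈ IsLocalRing.maximalIdeal D.K
    rw [h2]; exact zero_mem _
  obtain ⟨hlt, hfix⟩ := hWrk L φη (by
    rw [hφη]; exact fun hh => hq (IsFractionRing.injective P L (hh.trans (map_zero _).symm)))
  refine ⟨zη qL, ?_, ?_, ?_⟩
  · have h1 : zη qL ⤳ y (Spec.map (CommRingCat.ofHom φ₀.toRingHom) qK) := hspec.map y.continuous
    have h2 : y (Spec.map (CommRingCat.ofHom φ₀.toRingHom) qK) = pt := by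
      show (Spec.map (CommRingCat.ofHom φ₀.toRingHom) ≫ y).base _ = pt
      rw [hy0]
      exact D.res.apply_eq _
    rwa [h2] at h1
  · rw [ptRank_eq e he zη hzη _ rfl, tuple_map e he φη y hy zη hzη rfl, hy',
      hfix i hfail i.succ (Nat.lt_succ_self _), imrk_map]
    rfl
  · have hsum : ∀ {K : Type u} [Field K] [Algebra k K] (v : Fin (n + 1) → Module.Grassmannian K (E k d K) (d - r)),
        rk f v = ∑ l : Fin n, imrk (f l) (v l.castSucc) := by
      intro K _ _ v
      rw [rk, ← Fin.sum_univ_eq_sum_range (fun i => Module.finrank K ((mem v i).map (FA K f i)))]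
      refine Finset.sum_congr rfl fun l _ => ?_
      rw [show mem v (l : ℕ) = (v l.castSucc).toSubmodule from mem_val v l.castSucc, FA_apply]
      rfl
    rw [hsum, hsum] at hlt
    refine lt_of_eq_of_lt ?_ (lt_of_lt_of_eq hlt ?_)
    · rfl
    · refine Finset.sum_congr rfl fun l _ => ?_
      rw [ptRank_eq e he zη hzη _ rfl, tuple_map e he φη y hy zη hzη rfl, hy']

include he in
theorem rank_generic_eq (hrd : r ≤ d)
    (hI : ∀ i, (f i).comp (g i) = (0 : k) • LinearMap.id ∧ (g i).comp (f i) = (0 : k) • LinearMap.id)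
    (hII : ∀ i, d ≤ Module.finrank k (LinearMap.range (f i)) + Module.finrank k (LinearMap.range (g i)))
    (hIII : ∀ i j : Fin n, i.val + 1 = j.val →
      LinearMap.range (f i) ⊓ LinearMap.ker (f j) = ⊥ ∧ LinearMap.range (g j) ⊓ LinearMap.ker (g i) = ⊥)
    {pt ξ : X.left} (hξ : ∀ η, η ⤳ pt → ξ ⤳ η) (i : Fin n) :
    ptRank e (g i) i.succ ξ = ptRank e (g i) i.succ pt ∧
      r ≤ ptRank e (f i) i.castSucc ξ + ptRank e (g i) i.succ ξ := by
  classical
  let T := fun η => ∑ l : Fin n, ptRank e (f l) l.castSucc η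
  let P : ℕ → Prop := fun m => ∃ η, η ⤳ pt ∧ ptRank e (g i) i.succ η = ptRank e (g i) i.succ pt ∧ m ≤ T η
  have hbound : ∀ η, T η ≤ n * r := fun η =>
    (Finset.sum_le_card_nsmul _ _ r fun l _ => (Submodule.finrank_map_le _ _).trans (finrank_eq hrd _).le).trans
      (by simp)
  obtain ⟨η, hη, hηb, hm⟩ : P (Nat.findGreatest P (n * r)) :=
    Nat.findGreatest_spec (Nat.zero_le _) ⟨pt, specializes_rfl, rfl, Nat.zero_le _⟩
  have hge : r ≤ ptRank e (f i) i.castSucc η + ptRank e (g i) i.succ η := by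
    by_contra! hlt
    obtain ⟨η', h1, h2, h3⟩ := exists_generization e he hrd hI hII hIII η i hlt
    have := Nat.le_findGreatest (P := P) (hbound η') ⟨η', h1.trans hη, h2.trans hηb, le_rfl⟩
    simp only [T] at hm this
    omega
  have hf := ptRank_mono e he (hξ η hη) (f i) i.castSucc
  have hg := ptRank_mono e he (hξ η hη) (g i) i.succ
  have hle : ptRank e (f i) i.castSucc ξ + ptRank e (g i) i.succ ξ ≤ r :=
    imrk_add_le hrd (fun i => (hI i).2) (tuple e _ (lpt ξ).res.str_eq).2 i
  omega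

end Groth.Agent.Lib.LinkGr
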