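import Groth.Agent.Lib.LinkGr.Equidim
import Groth.Agent.Lib.LinkGr.Two
import Groth.Agent.Lib.Brauer.BaseChangeRank
import Mathlib.AlgebraicGeometry.Pullbacks

/-!
# The linked Grassmannian after base change to a field

Tuples over an algebra of a field `k` over `R` are the same for the maps over `R` and for their base
changes to `k`.
-/

open AlgebraicGeometry CategoryTheory TensorProduct W4c1limliniiii CategoryTheory.Limits

universe u

namespace Groth.Agent.Lib.LinkGr

variable {R : Type u} [CommRing R] {d r n : ℕ}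

section Maps

variable (k : Type u) [Field k] [Algebra R k]

/-- `k^d` as a base change. -/
noncomputable def coK (d : ℕ) : E R d k ≃ₗ[k] (Fin d → k) := TensorProduct.piScalarRight R k k (Fin d)

theorem coK_tmul (a : k) (v : Fin d → R) : coK k d (a ⊗ₜ v) = fun i => v i • a := by
  funext i
  simp [coK]

/-- The maps over `k`. -/
noncomputable def bcMap (f : Fin n → ((Fin d → R) →ₗ[R] (Fin d → R))) (i : Fin n) :
    (Fin d → k) →ₗ[k] (Fin d → k) :=
  (coK k d).toLinearMap ∘ₗ (f i).baseChange k ∘ₗ (coK k d).symm.toLinearMap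

variable {k}

theorem bcMap_apply (f : Fin n → ((Fin d → R) →ₗ[R] (Fin d → R))) (i : Fin n) (v : Fin d → R) :
    bcMap k f i (fun t => algebraMap R k (v t)) = fun t => algebraMap R k (f i v t) := by
  have h : ∀ w : Fin d → R, coK k d (1 ⊗ₜ w) = fun t => algebraMap R k (w t) := fun w => by
    rw [coK_tmul]
    funext t
    rw [Algebra.algebraMap_eq_smul_one]
  rw [← h, ← h]
  simp [bcMap]

theorem bcMap_comp {f g : Fin n → ((Fin d → R) →ₗ[R] (Fin d → R))} {s : R} (i : Fin n)
    (h : (f i).comp (g i) = s • LinearMap.id) :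
    (bcMap k f i).comp (bcMap k g i) = algebraMap R k s • LinearMap.id := by
  refine LinearMap.ext fun z => (coK (R := R) k d).symm.injective ?_
  simp only [LinearMap.comp_apply, bcMap, LinearEquiv.coe_coe, LinearEquiv.symm_apply_apply]
  rw [← LinearMap.comp_apply, ← LinearMap.baseChange_comp, h]
  simp only [LinearMap.baseChange_smul, LinearMap.baseChange_id, LinearMap.smul_apply, LinearMap.id_apply,
    algebraMap_smul]
  exact ((coK (R := R) k d).symm.toLinearMap.map_smul_of_tower s z).symm

theorem finrank_range_bcMap (f : Fin n → ((Fin d → R) →ₗ[R] (Fin d → R))) (i : Fin n) :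
    Module.finrank k (LinearMap.range (bcMap k f i)) =
      Module.finrank k (LinearMap.range ((f i).baseChange k)) := by
  rw [bcMap, LinearMap.range_comp, LinearMap.range_comp, LinearEquiv.range, Submodule.map_top]
  exact (LinearEquiv.finrank_map_eq (coK k d) _)

theorem range_inf_ker_bcMap (f : Fin n → ((Fin d → R) →ₗ[R] (Fin d → R))) (i j : Fin n)
    (h : LinearMap.range ((f i).baseChange k) ⊓ LinearMap.ker ((f j).baseChange k) = ⊥) :
    LinearMap.range (bcMap k f i) ⊓ LinearMap.ker (bcMap k f j) = ⊥ := by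
  rw [Submodule.eq_bot_iff]
  rintro _ ⟨⟨w, rfl⟩, hz⟩
  simp only [SetLike.mem_coe, LinearMap.mem_ker, bcMap, LinearMap.comp_apply, LinearEquiv.coe_coe,
    LinearEquiv.symm_apply_apply, LinearEquiv.map_eq_zero_iff] at hz ⊢
  rw [← Submodule.mem_bot k, ← h]
  exact ⟨⟨_, rfl⟩, hz⟩

end Maps

section Field

/-- Disjointness of range and kernel is kept by extension of scalars. -/
theorem disjoint_baseChange {κ L : Type u} [Field κ] [Field L] [Algebra κ L] {V W Y : Type u}
    [AddCommGroup V] [Module κ V] [AddCommGroup W] [Module κ W] [AddCommGroup Y] [Module κ Y]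
    (φ : V →ₗ[κ] W) (ψ : W →ₗ[κ] Y) (h : LinearMap.range φ ⊓ LinearMap.ker ψ = ⊥) :
    LinearMap.range (φ.baseChange L) ⊓ LinearMap.ker (ψ.baseChange L) = ⊥ := by
  have h1 : LinearMap.ker (ψ ∘ₗ φ) = LinearMap.ker φ := by
    refine le_antisymm (fun v hv => ?_) (fun v hv => ?_)
    · rw [LinearMap.mem_ker, ← Submodule.mem_bot κ, ← h]
      exact ⟨⟨v, rfl⟩, hv⟩
    · rw [LinearMap.mem_ker, LinearMap.comp_apply, LinearMap.mem_ker.1 hv, map_zero]
  have hex : Function.Exact ((LinearMap.ker φ).subtype.lTensor L) ((ψ ∘ₗ φ).lTensor L) :=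
    Module.Flat.lTensor_exact L (LinearMap.exact_iff.2 (by rw [h1, Submodule.range_subtype]))
  rw [Submodule.eq_bot_iff]
  rintro _ ⟨⟨w, rfl⟩, hz⟩
  obtain ⟨t, ht⟩ := (hex w).1 (by rw [LinearMap.lTensor_comp, LinearMap.comp_apply]; exact hz)
  show φ.lTensor L w = 0
  rw [← ht, ← LinearMap.comp_apply, ← LinearMap.lTensor_comp, LinearMap.comp_ker_subtype,
    LinearMap.lTensor_zero, LinearMap.zero_apply]

/-- Extension of scalars between fields keeps the hypotheses on a pair of maps. -/
theorem extend_field {κ L : Type u} [Field κ] [Field L] [Algebra R κ] [Algebra R L] [Algebra κ L]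
    [IsScalarTower R κ L] (φ ψ : (Fin d → R) →ₗ[R] (Fin d → R)) :
    Module.finrank L (LinearMap.range (φ.baseChange L)) =
        Module.finrank κ (LinearMap.range (φ.baseChange κ)) ∧
      (LinearMap.range (φ.baseChange κ) ⊓ LinearMap.ker (ψ.baseChange κ) = ⊥ →
        LinearMap.range (φ.baseChange L) ⊓ LinearMap.ker (ψ.baseChange L) = ⊥) := by
  obtain ⟨c, hc⟩ : ∃ c : L ⊗[κ] (κ ⊗[R] (Fin d → R)) ≃ₗ[L] L ⊗[R] (Fin d → R),
      ∀ χ : (Fin d → R) →ₗ[R] (Fin d → R), ∀ z,
        c ((χ.baseChange κ).baseChange L z) = χ.baseChange L (c z) := by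
    refine ⟨AlgebraTensorModule.cancelBaseChange R κ L L (Fin d → R), fun χ z => ?_⟩
    induction z using TensorProduct.induction_on with
    | zero => simp
    | tmul a b =>
      induction b using TensorProduct.induction_on with
      | zero => simp
      | tmul a' v => simp
      | add x y hx hy => simp only [tmul_add, map_add, hx, hy]
    | add x y hx hy => simp only [map_add, hx, hy]
  have hr : LinearMap.range (φ.baseChange L) =
      (LinearMap.range ((φ.baseChange κ).baseChange L)).map c.toLinearMap := by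
    rw [← LinearMap.range_comp, show c.toLinearMap ∘ₗ (φ.baseChange κ).baseChange L =
      (φ.baseChange L).comp c.toLinearMap from LinearMap.ext (hc φ), LinearMap.range_comp,
      LinearEquiv.range, Submodule.map_top]
  constructor
  · rw [hr, LinearEquiv.finrank_map_eq, Groth.Agent.Lib.Brauer.BaseChangeRank.finrank_range_baseChange]
  intro h
  have h2 := disjoint_baseChange (L := L) _ _ h
  rw [Submodule.eq_bot_iff]
  rintro _ ⟨⟨w, rfl⟩, hz⟩
  obtain ⟨w, rfl⟩ := c.surjective w
  rw [SetLike.mem_coe, LinearMap.mem_ker, ← hc φ w, ← hc ψ, LinearEquiv.map_eq_zero_iff] at hz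
  rw [← hc φ w, LinearEquiv.map_eq_zero_iff, ← Submodule.mem_bot L, ← h2]
  exact ⟨⟨w, rfl⟩, hz⟩

/-- The hypotheses on residue fields hold at all fields over `R`. -/
theorem hyp_field {f g : Fin n → ((Fin d → R) →ₗ[R] (Fin d → R))}
    (hII : ∀ (P : Ideal R) [P.IsPrime], ∀ i,
      d ≤ Module.finrank P.ResidueField (LinearMap.range ((f i).baseChange P.ResidueField)) +
        Module.finrank P.ResidueField (LinearMap.range ((g i).baseChange P.ResidueField)))
    (hIII : ∀ (P : Ideal R) [P.IsPrime], ∀ i j : Fin n, i.val + 1 = j.val →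
      LinearMap.range ((f i).baseChange P.ResidueField) ⊓
          LinearMap.ker ((f j).baseChange P.ResidueField) = ⊥ ∧
        LinearMap.range ((g j).baseChange P.ResidueField) ⊓
          LinearMap.ker ((g i).baseChange P.ResidueField) = ⊥)
    (L : Type u) [Field L] [Algebra R L] :
    (∀ i, d ≤ Module.finrank L (LinearMap.range ((f i).baseChange L)) +
      Module.finrank L (LinearMap.range ((g i).baseChange L))) ∧
    ∀ i j : Fin n, i.val + 1 = j.val →
      LinearMap.range ((f i).baseChange L) ⊓ LinearMap.ker ((f j).baseChange L) = ⊥ ∧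
        LinearMap.range ((g j).baseChange L) ⊓ LinearMap.ker ((g i).baseChange L) = ⊥ := by
  let P := RingHom.ker (algebraMap R L)
  have : P.IsPrime := RingHom.ker_isPrime _
  let σ : P.ResidueField →ₐ[R] L := Ideal.ResidueField.liftₐ P (Algebra.ofId R L) le_rfl (by
    intro a ha
    exact (IsUnit.mk0 _ ha))
  let : Algebra P.ResidueField L := σ.toAlgebra
  have : IsScalarTower R P.ResidueField L := IsScalarTower.of_algHom σ
  refine ⟨fun i => ?_, fun i j h => ?_⟩
  · rw [(extend_field (κ := P.ResidueField) (L := L) (f i) (f i)).1,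
      (extend_field (κ := P.ResidueField) (L := L) (g i) (g i)).1]
    exact hII P i
  · exact ⟨(extend_field (κ := P.ResidueField) (L := L) (f i) (f j)).2 (hIII P i j h).1,
      (extend_field (κ := P.ResidueField) (L := L) (g j) (g i)).2 (hIII P i j h).2⟩

end Field

section Tuples

variable {k : Type u} [Field k] [Algebra R k]
variable {A : Type u} [CommRing A] [Algebra R A] [Algebra k A] [IsScalarTower R k A]

variable (k A) in
/-- The identification `A ⊗ R^d ≃ A ⊗ k^d`. -/
noncomputable def tauE (d : ℕ) : E R d A ≃ₗ[A] E k d A :=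
  (TensorProduct.piScalarRight R A A (Fin d)).trans (TensorProduct.piScalarRight k A A (Fin d)).symm

theorem tauE_tmul (a : A) (v : Fin d → R) :
    tauE k A d (a ⊗ₜ v) = a ⊗ₜ[k] (fun t => algebraMap R k (v t)) := by
  rw [tauE, LinearEquiv.trans_apply, LinearEquiv.symm_apply_eq]
  funext t
  simp [algebraMap_smul]

theorem tauE_baseChange (f : Fin n → ((Fin d → R) →ₗ[R] (Fin d → R))) (i : Fin n) (z : E R d A) :
    tauE k A d ((f i).baseChange A z) = (bcMap k f i).baseChange A (tauE k A d z) := by
  induction z using TensorProduct.induction_on with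
  | zero => simp
  | tmul a v => simp [tauE_tmul, bcMap_apply]
  | add x y hx hy => simp only [map_add, hx, hy]

theorem tauE_symm_baseChange (f : Fin n → ((Fin d → R) →ₗ[R] (Fin d → R))) (i : Fin n) (z : E k d A) :
    (tauE k A d).symm ((bcMap k f i).baseChange A z) =
      (f i).baseChange A ((tauE (R := R) k A d).symm z) := by
  rw [LinearEquiv.symm_apply_eq, tauE_baseChange, LinearEquiv.apply_symm_apply]

variable (k A) in
/-- The identification of Grassmannians. -/
noncomputable def tauG (d r : ℕ) :
    Module.Grassmannian A (E R d A) (d - r) ≃ Module.Grassmannian A (E k d A) (d - r) where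
  toFun G :=
    let e := Submodule.Quotient.equiv G.toSubmodule (G.toSubmodule.map (tauE k A d).toLinearMap) (tauE k A d) rfl
    { toSubmodule := G.toSubmodule.map (tauE k A d).toLinearMap
      finite_quotient := Module.Finite.equiv e
      projective_quotient := Module.Projective.of_equiv e
      rankAtStalk_eq := fun p => by rw [← Module.rankAtStalk_eq_of_equiv e]; exact G.rankAtStalk_eq p }
  invFun G :=
    let e := Submodule.Quotient.equiv G.toSubmodule (G.toSubmodule.map (tauE (R := R) k A d).symm.toLinearMap)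
      (tauE k A d).symm rfl
    { toSubmodule := G.toSubmodule.map (tauE (R := R) k A d).symm.toLinearMap
      finite_quotient := Module.Finite.equiv e
      projective_quotient := Module.Projective.of_equiv e
      rankAtStalk_eq := fun p => by rw [← Module.rankAtStalk_eq_of_equiv e]; exact G.rankAtStalk_eq p }
  left_inv G := Module.Grassmannian.ext (by
    show (G.toSubmodule.map _).map _ = _
    rw [← Submodule.map_comp, LinearEquiv.symm_comp, Submodule.map_id])
  right_inv G := Module.Grassmannian.ext (by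
    show (G.toSubmodule.map _).map _ = _
    rw [← Submodule.map_comp, LinearEquiv.comp_symm, Submodule.map_id])

theorem mem_tauG {G : Module.Grassmannian A (E R d A) (d - r)} {z : E R d A} :
    tauE k A d z ∈ (tauG k A d r G).toSubmodule ↔ z ∈ G.toSubmodule :=
  ⟨fun ⟨w, hw, h⟩ => (tauE k A d).injective h ▸ hw, fun h => ⟨z, h, rfl⟩⟩

variable {f g : Fin n → ((Fin d → R) →ₗ[R] (Fin d → R))}

variable (k A f g) in
/-- Linked tuples over `R` and over `k`. -/
noncomputable def tauLG :
    LGPoints R d r n f g A ≃ LGPoints k d r n (bcMap k f) (bcMap k g) A where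
  toFun u := ⟨fun i => tauG k A d r (u.1 i), fun i => by
    constructor <;>
    · rintro _ ⟨z, hz, rfl⟩
      obtain ⟨z, rfl⟩ := (tauE (R := R) k A d).surjective z
      rw [← tauE_baseChange]
      refine mem_tauG.2 ?_
      first
        | exact (u.2 i).1 (Submodule.mem_map_of_mem (mem_tauG.1 hz))
        | exact (u.2 i).2 (Submodule.mem_map_of_mem (mem_tauG.1 hz))⟩
  invFun u := ⟨fun i => (tauG k A d r).symm (u.1 i), fun i => by
    constructor <;>
    · rintro _ ⟨_, ⟨z, hz, rfl⟩, rfl⟩
      rw [LinearEquiv.coe_coe, ← tauE_symm_baseChange]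
      first
        | exact ⟨_, (u.2 i).1 (Submodule.mem_map_of_mem hz), rfl⟩
        | exact ⟨_, (u.2 i).2 (Submodule.mem_map_of_mem hz), rfl⟩⟩
  left_inv u := Subtype.ext (funext fun i => (tauG k A d r).symm_apply_apply (u.1 i))
  right_inv u := Subtype.ext (funext fun i => (tauG k A d r).apply_symm_apply (u.1 i))

theorem tauG_map {B : Type u} [CommRing B] [Algebra R B] [Algebra k B] [IsScalarTower R k B] (φ : A →ₐ[k] B)
    (G : Module.Grassmannian A (E R d A) (d - r)) :
    tauG k B d r (Module.Grassmannian.map (φ.restrictScalars R) G) =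
      Module.Grassmannian.map φ (tauG k A d r G) := by
  have hc : ∀ z, tauE k B d (Phi (φ.restrictScalars R) z) = Phi φ (tauE k A d z) := fun z => by
    induction z using TensorProduct.induction_on with
    | zero => simp
    | tmul a v => simp [tauE_tmul]
    | add x y hx hy => simp only [map_add, hx, hy]
  refine Module.Grassmannian.ext (le_antisymm ?_ ((map_le_span φ _).trans (Submodule.span_le.2 ?_)))
  · rintro _ ⟨z, hz, rfl⟩
    have h := map_le_span (φ.restrictScalars R) G hz
    refine (Submodule.span_le (p := (Module.Grassmannian.map φ (tauG k A d r G)).toSubmodule.comap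
      (tauE k B d).toLinearMap)).2 ?_ h
    rintro _ ⟨w, hw, rfl⟩
    rw [SetLike.mem_coe, Submodule.mem_comap, LinearEquiv.coe_coe, hc]
    exact Phi_mem_map φ _ (mem_tauG.2 hw)
  · rintro _ ⟨_, ⟨w, hw, rfl⟩, rfl⟩
    rw [LinearEquiv.coe_coe, ← hc]
    exact mem_tauG.2 (Phi_mem_map _ _ hw)

theorem isExact_of_tauLG {u : LGPoints R d r n f g A}
    (h : IsExact k d r n (bcMap k f) (bcMap k g) A (tauLG k A f g u).1) : IsExact R d r n f g A u.1 := by
  intro i
  constructor
  · rintro z ⟨hz, hz'⟩
    obtain ⟨_, ⟨w, hw, rfl⟩, hw'⟩ := (h i).1 (show tauE k A d z ∈ _ from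
      ⟨by rw [SetLike.mem_coe, LinearMap.mem_ker, ← tauE_baseChange, LinearMap.mem_ker.1 hz, map_zero],
        mem_tauG.2 hz'⟩)
    refine ⟨w, hw, (tauE k A d).injective ?_⟩
    rw [tauE_baseChange]
    exact hw'
  · rintro z ⟨hz, hz'⟩
    obtain ⟨_, ⟨w, hw, rfl⟩, hw'⟩ := (h i).2 (show tauE k A d z ∈ _ from
      ⟨by rw [SetLike.mem_coe, LinearMap.mem_ker, ← tauE_baseChange, LinearMap.mem_ker.1 hz, map_zero],
        mem_tauG.2 hz'⟩)
    refine ⟨w, hw, (tauE k A d).injective ?_⟩
    rw [tauE_baseChange]
    exact hw'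

end Tuples

section Fibre

variable {f g : Fin n → ((Fin d → R) →ₗ[R] (Fin d → R))}
  {X : Over (Spec (CommRingCat.of R))}
  (e : ∀ A : CommAlgCat.{u} R,
    (Over.mk (Spec.map (CommRingCat.ofHom (algebraMap R A))) ⟶ X) ≃ LGPoints R d r n f g A)
  (he : ∀ (A B : CommAlgCat.{u} R) (φ : A ⟶ B)
      (x : Over.mk (Spec.map (CommRingCat.ofHom (algebraMap R A))) ⟶ X)
      (x' : Over.mk (Spec.map (CommRingCat.ofHom (algebraMap R B))) ⟶ X),
      x'.left = Spec.map (CommRingCat.ofHom φ.hom.toRingHom) ≫ x.left →
        ∀ i, (e B x').1 i = Module.Grassmannian.map φ.hom ((e A x).1 i))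
  (k : Type u) [Field k] [Algebra R k]

/-- The fibre. -/
noncomputable abbrev fib : Over (Spec (CommRingCat.of k)) := Over.mk (pullback.snd X.hom (str R k))

theorem str_tower {A : Type u} [CommRing A] [Algebra R A] [Algebra k A] [IsScalarTower R k A] :
    str k A ≫ str R k = str R A := by
  rw [str, str, str, ← Spec.map_comp, ← CommRingCat.ofHom_comp, ← IsScalarTower.algebraMap_eq]

/-- The bijections on points of the fibre. -/
noncomputable def fibEquiv (A : Type u) [CommRing A] [Algebra R A] [Algebra k A] [IsScalarTower R k A] :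
    (Over.mk (str k A) ⟶ fib (X := X) k) ≃ LGPoints R d r n f g A where
  toFun z := tuple e (z.left ≫ pullback.fst X.hom (str R k)) (by
    rw [Category.assoc, pullback.condition, ← Category.assoc]
    exact (congrArg (· ≫ str R k) (Over.w z)).trans (str_tower k))
  invFun u :=
    let z := (e (CommAlgCat.of R A)).symm u
    Over.homMk (pullback.lift z.left (str k A) ((Over.w z).trans (str_tower k).symm)) (pullback.lift_snd _ _ _)
  left_inv z := by
    ext
    refine pullback.hom_ext ?_ ?_
    · simp only [Over.homMk_left, pullback.lift_fst]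
      exact congrArg (fun q : Over.mk _ ⟶ X => q.left) ((e (CommAlgCat.of R A)).symm_apply_apply _)
    · simp only [Over.homMk_left, pullback.lift_snd]
      exact (Over.w z).symm
  right_inv u := by
    simp only [tuple, Over.homMk_left, pullback.lift_fst]
    exact (e (CommAlgCat.of R A)).apply_symm_apply u

/-- The representation of the fibre. -/
noncomputable def fibRep (A : CommAlgCat.{u} k) :
    (Over.mk (Spec.map (CommRingCat.ofHom (algebraMap k A))) ⟶ fib (X := X) k) ≃
      LGPoints k d r n (bcMap k f) (bcMap k g) A :=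
  letI : Algebra R A := ((algebraMap k A).comp (algebraMap R k)).toAlgebra
  haveI : IsScalarTower R k A := IsScalarTower.of_algebraMap_eq fun _ => rfl
  (fibEquiv e k A).trans (tauLG k A f g)

include he in
theorem fibRep_map (A B : CommAlgCat.{u} k) (φ : A ⟶ B)
    (x : Over.mk (Spec.map (CommRingCat.ofHom (algebraMap k A))) ⟶ fib (X := X) k)
    (x' : Over.mk (Spec.map (CommRingCat.ofHom (algebraMap k B))) ⟶ fib (X := X) k)
    (h : x'.left = Spec.map (CommRingCat.ofHom φ.hom.toRingHom) ≫ x.left) (i : Fin (n + 1)) :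
    (fibRep e k B x').1 i = Module.Grassmannian.map φ.hom ((fibRep e k A x).1 i) := by
  let : Algebra R A := ((algebraMap k A).comp (algebraMap R k)).toAlgebra
  let : Algebra R B := ((algebraMap k B).comp (algebraMap R k)).toAlgebra
  have : IsScalarTower R k A := IsScalarTower.of_algebraMap_eq fun _ => rfl
  have : IsScalarTower R k B := IsScalarTower.of_algebraMap_eq fun _ => rfl
  refine Eq.trans (congrArg (tauG k B d r) (tuple_map e he (φ.hom.restrictScalars R)
    (x.left ≫ pullback.fst X.hom (str R k)) (by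
      rw [Category.assoc, pullback.condition, ← Category.assoc]
      exact (congrArg (· ≫ str R k) (Over.w x)).trans (str_tower k)) _ _ ?_ i)) (tauG_map φ.hom _)
  show _ = Spec.map (CommRingCat.ofHom φ.hom.toRingHom) ≫ _
  rw [h, Category.assoc]

include he in
/-- Every component generic point is an exact point. -/
theorem exists_exact_point {s : R} (hrd : r ≤ d)
    (hI : ∀ i, (f i).comp (g i) = s • LinearMap.id ∧ (g i).comp (f i) = s • LinearMap.id)
    (hII : ∀ (P : Ideal R) [P.IsPrime], ∀ i,
      d ≤ Module.finrank P.ResidueField (LinearMap.range ((f i).baseChange P.ResidueField)) +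
        Module.finrank P.ResidueField (LinearMap.range ((g i).baseChange P.ResidueField)))
    (hIII : ∀ (P : Ideal R) [P.IsPrime], ∀ i j : Fin n, i.val + 1 = j.val →
      LinearMap.range ((f i).baseChange P.ResidueField) ⊓
          LinearMap.ker ((f j).baseChange P.ResidueField) = ⊥ ∧
        LinearMap.range ((g j).baseChange P.ResidueField) ⊓
          LinearMap.ker ((g i).baseChange P.ResidueField) = ⊥)
    {ξ : X.left} (hξ : ∀ η : X.left, η ⤳ ξ → η = ξ) :
    ∃ (L : Type u) (_ : Field L) (_ : Algebra R L) (z : Spec (CommRingCat.of L) ⟶ X.left)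
      (hz : z ≫ X.hom = str R L), (∀ q, z q = ξ) ∧ IsExact R d r n f g L (tuple e z hz).1 := by
  let k := X.left.residueField ξ
  let : Algebra R k :=
    RingHom.toAlgebra (R := R) (S := ↥k) (Spec.preimage (X.left.fromSpecResidueField ξ ≫ X.hom)).hom
  let z₀ : Spec k ⟶ X.left := X.left.fromSpecResidueField ξ
  have hz₀ : z₀ ≫ X.hom = str R k := (Spec.map_preimage _).symm
  let x₀ : Spec k ⟶ (fib (X := X) k).left := pullback.lift z₀ (𝟙 _) (by rw [hz₀]; exact (Category.id_comp _).symm)
  let q₀ : Spec k := IsLocalRing.closedPoint k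
  let pt := x₀ q₀
  let Z := irreducibleComponent pt
  have hZ : Z ∈ irreducibleComponents _ := irreducibleComponent_mem_irreducibleComponents _
  obtain ⟨ζ, hζ⟩ : ∃ ζ, IsGenericPoint ζ Z :=
    QuasiSober.sober hZ.1 (isClosed_of_mem_irreducibleComponents Z hZ)
  let D := lpt (X := fib (X := X) k) ζ
  obtain ⟨hII', hIII'⟩ := hyp_field hII hIII k
  have hex := isExact_genericPoint (fibRep e k) (fibRep_map e he k) hrd
    (fun i => ⟨bcMap_comp i (hI i).1, bcMap_comp i (hI i).2⟩)
    (fun i => by rw [finrank_range_bcMap, finrank_range_bcMap]; exact hII' i)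
    (fun i j h => ⟨range_inf_ker_bcMap f i j (hIII' i j h).1, range_inf_ker_bcMap g j i (hIII' i j h).2⟩)
    hZ hζ D.res
  let : Algebra R D.K := ((algebraMap k D.K).comp (algebraMap R k)).toAlgebra
  have : IsScalarTower R k D.K := IsScalarTower.of_algebraMap_eq fun _ => rfl
  let w := (Spec.map (CommRingCat.ofHom D.π.toRingHom) ≫ D.iA) ≫ pullback.fst X.hom (str R k)
  have hw : w ≫ X.hom = str R D.K := by
    rw [Category.assoc, pullback.condition, ← Category.assoc]
    exact (congrArg (· ≫ str R k) D.res.str_eq).trans (str_tower k)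
  refine ⟨D.K, inferInstance, inferInstance, w, hw, fun q => ?_, isExact_of_tauLG hex⟩
  refine hξ _ ?_
  have h1 : ζ ⤳ pt := hζ.specializes mem_irreducibleComponent
  have h2 := h1.map (pullback.fst X.hom (str R k)).continuous
  have h3 : (pullback.fst X.hom (str R k)) pt = ξ := by
    show (x₀ ≫ pullback.fst X.hom (str R k)).base q₀ = ξ
    rw [pullback.lift_fst]
    exact Scheme.fromSpecResidueField_apply ξ q₀
  rw [h3] at h2
  have h4 := D.res.apply_eq q
  show (pullback.fst X.hom (str R k)) ((Spec.map (CommRingCat.ofHom D.π.toRingHom) ≫ D.iA) q) ⤳ ξ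
  exact (specializes_of_eq (congrArg _ h4)).trans h2

end Fibre

end Groth.Agent.Lib.LinkGr
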