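import Mathlib.LinearAlgebra.FiniteDimensional.Lemmas
import Mathlib.LinearAlgebra.Dimension.StrongRankCondition
import Mathlib.LinearAlgebra.Dimension.Constructions
import Mathlib.LinearAlgebra.Dimension.OrzechProperty

/-!
# Transport in a linked chain of modules

For maps `F i` forward and `G i` backward with both composites a scalar `s`, the transport from `j` to `i`,
and a frame of a linked chain of subspaces which is exact.
-/

universe u v w

namespace Groth.Agent.Lib.LinkGr

section Transport

variable {R : Type u} [CommRing R] {M : Type v} [AddCommGroup M] [Module R M]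

/-- Forward composite from `j` to `j + t`. -/
def up (F : ℕ → M →ₗ[R] M) (j : ℕ) : ℕ → M →ₗ[R] M
  | 0 => LinearMap.id
  | t + 1 => F (j + t) ∘ₗ up F j t

/-- Backward composite from `i + t` to `i`. -/
def down (G : ℕ → M →ₗ[R] M) : ℕ → ℕ → M →ₗ[R] M
  | _, 0 => LinearMap.id
  | i, t + 1 => G i ∘ₗ down G (i + 1) t

/-- Transport from `j` to `i`. -/
def tr (F G : ℕ → M →ₗ[R] M) (j i : ℕ) : M →ₗ[R] M :=
  if j ≤ i then up F j (i - j) else down G i (j - i)

@[simp]
theorem tr_self (F G : ℕ → M →ₗ[R] M) (j : ℕ) : tr F G j j = LinearMap.id := by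
  simp [tr, up]

variable {F G : ℕ → M →ₗ[R] M} {s : R}

theorem forward_tr {i : ℕ} (hFG : ∀ z, F i (G i z) = s • z) (j : ℕ) :
    ∃ a : R, ∀ z, F i (tr F G j i z) = a • tr F G j (i + 1) z := by
  rcases le_or_gt j i with h | h
  · refine ⟨1, fun z => ?_⟩
    rw [one_smul, tr, tr, if_pos h, if_pos (h.trans i.le_succ), show i + 1 - j = (i - j) + 1 by omega, up,
      show j + (i - j) = i by omega]
    rfl
  · refine ⟨s, fun z => ?_⟩
    rw [tr, if_neg (not_le.2 h), show j - i = (j - (i + 1)) + 1 by omega, down, LinearMap.comp_apply, hFG]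
    congr 1
    rw [tr]
    split
    · next h' => rw [show j - (i + 1) = 0 by omega, show i + 1 - j = 0 by omega]; rfl
    · rfl

theorem backward_tr {i : ℕ} (hGF : ∀ z, G i (F i z) = s • z) (j : ℕ) :
    ∃ a : R, ∀ z, G i (tr F G j (i + 1) z) = a • tr F G j i z := by
  rcases le_or_gt j i with h | h
  · refine ⟨s, fun z => ?_⟩
    rw [tr, tr, if_pos (h.trans i.le_succ), if_pos h, show i + 1 - j = (i - j) + 1 by omega, up,
      show j + (i - j) = i by omega, LinearMap.comp_apply, hGF]
  · refine ⟨1, fun z => ?_⟩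
    rw [one_smul, tr, tr, if_neg (not_le.2 h), show j - i = (j - (i + 1)) + 1 by omega, down]
    split
    · next h' => rw [show j - (i + 1) = 0 by omega, show i + 1 - j = 0 by omega]; rfl
    · rfl

theorem tr_mem {V : ℕ → Submodule R M} {n : ℕ} (hF : ∀ i < n, (V i).map (F i) ≤ V (i + 1))
    (hG : ∀ i < n, (V (i + 1)).map (G i) ≤ V i) {j i : ℕ} (hj : j ≤ n) (hi : i ≤ n) {z : M} (hz : z ∈ V j) :
    tr F G j i z ∈ V i := by
  rw [tr]
  split
  · next h =>
    obtain ⟨t, rfl⟩ := Nat.exists_eq_add_of_le h
    rw [Nat.add_sub_cancel_left]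
    clear h
    induction t with
    | zero => simpa [up] using hz
    | succ t ih =>
      rw [up, LinearMap.comp_apply, ← Nat.add_assoc]
      exact hF _ (by omega) (Submodule.mem_map_of_mem (ih (by omega)))
  · next h =>
    obtain ⟨t, rfl⟩ := Nat.exists_eq_add_of_le (le_of_not_ge h)
    rw [Nat.add_sub_cancel_left]
    clear h
    induction t generalizing i with
    | zero => simpa [down] using hz
    | succ t ih =>
      rw [down, LinearMap.comp_apply]
      refine hG _ (by omega) (Submodule.mem_map_of_mem (ih (by omega) (by omega) ?_))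
      rwa [show i + 1 + t = i + (t + 1) by omega]

theorem map_tr {R' : Type w} [CommRing R'] {M' : Type v} [AddCommGroup M'] [Module R' M']
    {F' G' : ℕ → M' →ₗ[R'] M'} (Φ : M → M') (hF : ∀ i z, Φ (F i z) = F' i (Φ z))
    (hG : ∀ i z, Φ (G i z) = G' i (Φ z)) (j i : ℕ) (z : M) :
    Φ (tr F G j i z) = tr F' G' j i (Φ z) := by
  have hup : ∀ t, Φ (up F j t z) = up F' j t (Φ z) := by
    intro t
    induction t with
    | zero => rfl
    | succ t ih => simp [up, hF, ih]
  have hdown : ∀ t i, Φ (down G i t z) = down G' i t (Φ z) := by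
    intro t
    induction t with
    | zero => exact fun _ => rfl
    | succ t ih => intro i; simp [down, hG, ih]
  unfold tr
  split
  · exact hup _
  · exact hdown _ _

end Transport

section Frame

variable {k : Type u} [Field k] {M : Type v} [AddCommGroup M] [Module k M] [FiniteDimensional k M]

/-- An exact linked chain of `r`-dimensional subspaces has a frame: `r` vectors from given spanning sets of
the members of the chain whose transports form a basis of every member. -/
theorem exists_frame_of_spanning {F G : ℕ → M →ₗ[k] M} {s : k} {n r : ℕ} {V : ℕ → Submodule k M}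
    (hFG : ∀ i < n, ∀ z, F i (G i z) = s • z) (hGF : ∀ i < n, ∀ z, G i (F i z) = s • z)
    (hF : ∀ i < n, (V i).map (F i) ≤ V (i + 1)) (hG : ∀ i < n, (V (i + 1)).map (G i) ≤ V i)
    (hdim : ∀ i ≤ n, Module.finrank k (V i) = r)
    (hex : ∀ i < n, LinearMap.ker (F i) ⊓ V i ≤ (V (i + 1)).map (G i))
    (hdisj : ∀ i, i + 1 < n → LinearMap.range (F i) ⊓ LinearMap.ker (F (i + 1)) = ⊥)
    (T : ℕ → Set M) (hT : ∀ i ≤ n, Submodule.span k (T i) = V i) :
    ∃ (j : Fin r → ℕ) (c : Fin r → M), (∀ l, j l ≤ n ∧ c l ∈ T (j l)) ∧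
      ∀ i ≤ n, LinearIndependent k (fun l => tr F G (j l) i (c l)) := by
  classical
  let K : ℕ → Submodule k M := fun i => if i < n then LinearMap.ker (F i) ⊓ V i else ⊥
  let Q : ℕ → Submodule k M := fun i => if i = 0 then ⊥ else (V (i - 1)).map (F (i - 1))
  let b : ℕ → ℕ := fun m => if m = 0 then 0 else if m ≤ n then Module.finrank k ((V (m - 1)).map (F (m - 1))) else r
  have hQV : ∀ i ≤ n, Q i ≤ V i := by
    intro i hi
    rcases i with _ | i
    · simp [Q]
    · simpa [Q] using hF i (by omega)
  have hKV : ∀ i, K i ≤ V i := fun i => by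
    simp only [K]; split
    · exact inf_le_right
    · exact bot_le
  have hQK : ∀ i ≤ n, Q i ⊓ K i = ⊥ := by
    intro i hi
    rcases i with _ | i
    · simp [Q]
    · simp only [Q, K, Nat.succ_ne_zero, if_false, Nat.add_sub_cancel]
      split
      · next h =>
        exact le_bot_iff.1 ((inf_le_inf (LinearMap.map_le_range) inf_le_left).trans (hdisj i h).le)
      · simp
  have hKdim : ∀ i ≤ n, Module.finrank k (K i) + b (i + 1) = r := by
    intro i hi
    rcases lt_or_eq_of_le hi with h | rfl
    · rw [show K i = LinearMap.ker (F i) ⊓ V i from if_pos h]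
      simp only [b, if_true, Nat.succ_ne_zero, if_false, Nat.add_sub_cancel, show i + 1 ≤ n from h]
      have := LinearMap.finrank_range_add_finrank_ker ((F i).domRestrict (V i))
      rw [LinearMap.range_domRestrict, hdim i hi] at this
      rw [← this, add_comm]
      congr 1
      refine LinearEquiv.finrank_eq ((Submodule.comapSubtypeEquivOfLe (inf_le_right (a := LinearMap.ker (F i))
        (b := V i))).symm.trans (LinearEquiv.ofEq _ _ (SetLike.ext fun z => ?_)))
      simp [z.2]
    · simp [K, b]
  have hcompl : ∀ i, ∃ (C : Submodule k M) (v : Fin (Module.finrank k C) → M), i ≤ n →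
      (Q i ⊔ K i ⊔ C = V i ∧ Module.finrank k C + b i = b (i + 1)) ∧ (∀ l, v l ∈ T i) ∧
        Submodule.span k (Set.range v) = C := by
    intro i
    by_cases hi : i ≤ n
    · let W := Q i ⊔ K i
      obtain ⟨w, hw, hwspan, hwli⟩ := Submodule.exists_fun_fin_finrank_span_eq k (W.mkQ '' T i)
      choose v hv hv' using hw
      let C := Submodule.span k (Set.range v)
      have hli : LinearIndependent k v := LinearIndependent.of_comp W.mkQ (by
        rw [show W.mkQ ∘ v = w from funext hv']; exact hwli)
      have hCdim : Module.finrank k C = Module.finrank k (Submodule.span k (W.mkQ '' T i)) :=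
        (finrank_span_eq_card hli).trans (Fintype.card_fin _)
      refine ⟨C, fun l => v (Fin.cast hCdim l), fun _ => ⟨?_, fun l => hv _, ?_⟩⟩
      · have hCV : C ≤ V i := Submodule.span_le.2 (by
          rintro _ ⟨l, rfl⟩; rw [← hT i hi]; exact Submodule.subset_span (hv l))
        have hsup : W ⊔ C = V i := by
          refine le_antisymm (sup_le (sup_le (hQV i hi) (hKV i)) hCV) ?_
          rw [← hT i hi, Submodule.span_le]
          intro z hz
          have h1 : W.mkQ z ∈ Submodule.span k (Set.range w) := by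
            rw [hwspan]; exact Submodule.subset_span ⟨z, hz, rfl⟩
          rw [show w = W.mkQ ∘ v from (funext hv').symm, Set.range_comp, ← Submodule.map_span] at h1
          obtain ⟨y, hy, hyz⟩ := h1
          rw [Submodule.mkQ_apply, Submodule.mkQ_apply, Submodule.Quotient.eq] at hyz
          rw [show z = -(y - z) + y by abel]
          exact add_mem (Submodule.mem_sup_left (neg_mem hyz)) (Submodule.mem_sup_right hy)
        have hinf : W ⊓ C = ⊥ := by
          rw [Submodule.eq_bot_iff]
          rintro z ⟨hzW, hzC⟩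
          obtain ⟨a, rfl⟩ := (Submodule.mem_span_range_iff_exists_fun k).1 hzC
          have h2 : ∑ l, a l • w l = 0 := by
            rw [show ∑ l, a l • w l = W.mkQ (∑ l, a l • v l) by simp only [map_sum, map_smul, hv']]
            exact (Submodule.Quotient.mk_eq_zero W).2 hzW
          simp [Fintype.linearIndependent_iff.1 hwli a h2]
        refine ⟨hsup, ?_⟩
        have h1 := Submodule.finrank_sup_add_finrank_inf_eq (Q i) (K i)
        rw [hQK i hi, finrank_bot, add_zero] at h1
        have h2 := Submodule.finrank_sup_add_finrank_inf_eq W C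
        rw [hsup, hinf, finrank_bot, add_zero, hdim i hi, h1] at h2
        have h3 := hKdim i hi
        have h4 : Module.finrank k (Q i) = b i := by
          rcases i with _ | i
          · simp [Q, b]
          · simp only [Q, b, Nat.succ_ne_zero, if_false, if_pos hi]; rfl
        omega
      · show Submodule.span k (Set.range (v ∘ ⇑(finCongr hCdim))) = C
        rw [(finCongr hCdim).surjective.range_comp v]
    · exact ⟨⊥, 0, fun h => absurd h hi⟩
  choose C v hCv using hcompl
  have hC : ∀ i ≤ n, Q i ⊔ K i ⊔ C i = V i ∧ Module.finrank k (C i) + b i = b (i + 1) := fun i hi => (hCv i hi).1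
  have hsum : ∀ m ≤ n + 1, ∑ i ∈ Finset.range m, Module.finrank k (C i) = b m := by
    intro m hm
    induction m with
    | zero => simp [b]
    | succ m ih => rw [Finset.sum_range_succ, ih (by omega)]; have := (hC m (by omega)).2; omega
  let ι := Σ i : Fin (n + 1), Fin (Module.finrank k (C i))
  have hcard : Fintype.card ι = r := by
    rw [Fintype.card_sigma]
    simp only [Fintype.card_fin]
    rw [Fin.sum_univ_eq_sum_range (fun i => Module.finrank k (C i)), hsum (n + 1) le_rfl]
    simp [b]
  let eι : Fin r ≃ ι := (Fintype.equivFinOfCardEq hcard).symm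
  let cv : ι → M := fun q => v q.1 q.2
  let S : ℕ → Submodule k M := fun i => Submodule.span k (Set.range fun q : ι => tr F G (q.1 : ℕ) i (cv q))
  have hCS : ∀ i ≤ n, C i ≤ S i := by
    intro i hi
    have h1 := (hCv i hi).2.2
    refine h1.symm.le.trans (Submodule.span_le.2 ?_)
    rintro _ ⟨l, rfl⟩
    exact Submodule.subset_span ⟨⟨⟨i, by omega⟩, l⟩, by simp [cv]⟩
  have hSF : ∀ i < n, (S i).map (F i) ≤ S (i + 1) := by
    intro i hi
    rw [Submodule.map_span, Submodule.span_le]
    rintro _ ⟨_, ⟨q, rfl⟩, rfl⟩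
    obtain ⟨a, ha⟩ := forward_tr (G := G) (hFG i hi) q.1
    simp only [ha]
    exact Submodule.smul_mem _ _ (Submodule.subset_span ⟨q, rfl⟩)
  have hSG : ∀ i < n, (S (i + 1)).map (G i) ≤ S i := by
    intro i hi
    rw [Submodule.map_span, Submodule.span_le]
    rintro _ ⟨_, ⟨q, rfl⟩, rfl⟩
    obtain ⟨a, ha⟩ := backward_tr (F := F) (hGF i hi) q.1
    simp only [ha]
    exact Submodule.smul_mem _ _ (Submodule.subset_span ⟨q, rfl⟩)
  have hQS : ∀ i ≤ n, Q i ≤ S i := by
    intro i
    induction i with
    | zero => intro; simp [Q]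
    | succ i ih =>
      intro hi
      have h1 := (hC i (by omega)).1
      simp only [Q, Nat.succ_ne_zero, if_false, Nat.add_sub_cancel]
      rw [← h1, Submodule.map_sup, Submodule.map_sup]
      refine sup_le (sup_le ((Submodule.map_mono (ih (by omega))).trans (hSF i (by omega))) ?_)
        ((Submodule.map_mono (hCS i (by omega))).trans (hSF i (by omega)))
      rintro _ ⟨z, hz, rfl⟩
      simp only [K, show i < n by omega, if_true] at hz
      simp [LinearMap.mem_ker.1 hz.1]
  have hKS : ∀ t i, i + t = n → K i ≤ S i := by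
    intro t
    induction t with
    | zero => intro i hi; simp [K, show ¬ i < n by omega]
    | succ t ih =>
      intro i hi z hz
      simp only [K, show i < n by omega, if_true] at hz
      obtain ⟨v, hv, rfl⟩ := hex i (by omega) hz
      by_cases hs : s = 0
      · have hv' := (hC (i + 1) (by omega)).1.symm.le hv
        obtain ⟨v1, hv1, v3, hv3, rfl⟩ := Submodule.mem_sup.1 hv'
        obtain ⟨v0, hv0, v2, hv2, rfl⟩ := Submodule.mem_sup.1 hv1
        simp only [Q, Nat.succ_ne_zero, if_false, Nat.add_sub_cancel] at hv0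
        obtain ⟨y, -, rfl⟩ := hv0
        rw [map_add, map_add, hGF i (by omega), hs, zero_smul, zero_add]
        exact add_mem (hSG i (by omega) (Submodule.mem_map_of_mem (ih (i + 1) (by omega) hv2)))
          (hSG i (by omega) (Submodule.mem_map_of_mem (hCS (i + 1) (by omega) hv3)))
      · have h := hGF i (by omega) (G i v)
        rw [LinearMap.mem_ker.1 hz.1, map_zero, eq_comm, smul_eq_zero, or_iff_right hs] at h
        simp [h]
  refine ⟨fun l => ((eι l).1 : ℕ), fun l => cv (eι l), fun l => ⟨Nat.le_of_lt_succ (eι l).1.isLt, ?_⟩, fun i hi => ?_⟩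
  · exact (hCv ((eι l).1 : ℕ) (Nat.le_of_lt_succ (eι l).1.isLt)).2.1 _
  · have hle : V i ≤ S i := by
      rw [← (hC i hi).1]
      exact sup_le (sup_le (hQS i hi) (hKS (n - i) i (by omega))) (hCS i hi)
    have hr : Set.range (fun l => tr F G ((eι l).1 : ℕ) i (cv (eι l))) =
        Set.range fun q : ι => tr F G (q.1 : ℕ) i (cv q) := by
      ext z
      exact ⟨fun ⟨l, h⟩ => ⟨eι l, h⟩, fun ⟨q, h⟩ => ⟨eι.symm q, by simpa using h⟩⟩
    rw [linearIndependent_iff_card_le_finrank_span, Fintype.card_fin, Set.finrank, hr, ← hdim i hi]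
    exact Submodule.finrank_mono hle

/-- An exact linked chain of `r`-dimensional subspaces has a frame: `r` vectors of members of the chain
whose transports form a basis of every member. -/
theorem exists_frame {F G : ℕ → M →ₗ[k] M} {s : k} {n r : ℕ} {V : ℕ → Submodule k M}
    (hFG : ∀ i < n, ∀ z, F i (G i z) = s • z) (hGF : ∀ i < n, ∀ z, G i (F i z) = s • z)
    (hF : ∀ i < n, (V i).map (F i) ≤ V (i + 1)) (hG : ∀ i < n, (V (i + 1)).map (G i) ≤ V i)
    (hdim : ∀ i ≤ n, Module.finrank k (V i) = r)
    (hex : ∀ i < n, LinearMap.ker (F i) ⊓ V i ≤ (V (i + 1)).map (G i))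
    (hdisj : ∀ i, i + 1 < n → LinearMap.range (F i) ⊓ LinearMap.ker (F (i + 1)) = ⊥) :
    ∃ (j : Fin r → ℕ) (c : Fin r → M), (∀ l, j l ≤ n ∧ c l ∈ V (j l)) ∧
      ∀ i ≤ n, LinearIndependent k (fun l => tr F G (j l) i (c l)) :=
  exists_frame_of_spanning hFG hGF hF hG hdim hex hdisj (fun i => (V i : Set M))
    fun i _ => Submodule.span_eq (V i)

end Frame

end Groth.Agent.Lib.LinkGr
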