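import Groth.Agent.Lib.LinkGr.Curve
import Mathlib.RingTheory.AlgebraicIndependent.TranscendenceBasis
import Mathlib.LinearAlgebra.Basis.Basic
import Mathlib.RingTheory.TensorProduct.Free

/-!
# Affine charts at exact field-valued points of a linked Grassmannian
-/

open TensorProduct W4c1limliniiii

universe u

namespace Groth.Agent.Lib.LinkGr

variable {k : Type u} [Field k] {d r n : ℕ} {f g : Fin n → ((Fin d → k) →ₗ[k] (Fin d → k))} {s : k}

theorem isExact_of_ne_zero (hI : ∀ i, (f i).comp (g i) = s • LinearMap.id ∧ (g i).comp (f i) = s • LinearMap.id)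
    (hs : s ≠ 0) {K : Type u} [Field K] [Algebra k K]
    (u : Fin (n + 1) → Module.Grassmannian K (E k d K) (d - r)) : IsExact k d r n f g K u := by
  intro i
  rw [← mem_val, ← mem_val, Fin.val_succ, Fin.val_castSucc, ← FA_apply, ← FA_apply]
  have hs' : algebraMap k K s ≠ 0 := by simpa using hs
  constructor
  · rintro z ⟨hz, -⟩
    have h := smul_eq (fun i => (hI i).1) K i.isLt z
    rw [LinearMap.mem_ker.1 hz, map_zero, eq_comm, smul_eq_zero, or_iff_right hs'] at h
    rw [h]; exact zero_mem _
  · rintro z ⟨hz, -⟩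
    have h := smul_eq (f := g) (g := f) (fun i => (hI i).2) K i.isLt z
    rw [LinearMap.mem_ker.1 hz, map_zero, eq_comm, smul_eq_zero, or_iff_right hs'] at h
    rw [h]; exact zero_mem _

/-- Spans of frames are linked. -/
theorem spanPt_frame_mem {k : Type u} [CommRing k] {f g : Fin n → ((Fin d → k) →ₗ[k] (Fin d → k))} {s : k}
    (hI : ∀ i, (f i).comp (g i) = s • LinearMap.id ∧ (g i).comp (f i) = s • LinearMap.id)
    {A : Type u} [CommRing A] [Algebra k A] (j : Fin r → ℕ) (c : Fin r → E k d A)
    {L : Fin (n + 1) → ((Fin d → k) →ₗ[k] (Fin r → k))}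
    (h : ∀ i : Fin (n + 1), IsUnit (mnr (L i) (frame f g j c i))) :
    (fun i => spanPt (h i)) ∈ LGPoints k d r n f g A := by
  intro i
  constructor <;>
  · rw [Submodule.map_le_iff_le_comap]
    refine Submodule.span_le.2 ?_
    rintro _ ⟨l, rfl⟩
    simp only [SetLike.mem_coe, Submodule.mem_comap, spanPt, ← FA_apply, Fin.val_castSucc, Fin.val_succ, frame]
    first
      | obtain ⟨a, ha⟩ := forward_tr (G := FA A g) (smul_eq (fun i => (hI i).1) A i.isLt) (j l)
        rw [ha]
        exact Submodule.smul_mem _ _ (Submodule.subset_span ⟨l, rfl⟩)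
      | obtain ⟨a, ha⟩ := backward_tr (F := FA A f) (smul_eq (f := g) (g := f) (fun i => (hI i).2) A i.isLt) (j l)
        rw [ha]
        exact Submodule.smul_mem _ _ (Submodule.subset_span ⟨l, rfl⟩)

theorem eq_of_crd_eq {A : Type u} [CommRing A] [Algebra k A] {L : (Fin d → k) →ₗ[k] (Fin r → k)}
    {M : Fin r → E k d A} {G : Module.Grassmannian A (E k d A) (d - r)} (hM : ∀ b, M b ∈ G.toSubmodule)
    (h : IsUnit (mnr L M)) {z w : E k d A} (hz : z ∈ G.toSubmodule) (hw : w ∈ G.toSubmodule)
    (he : crd A L z = crd A L w) : z = w := by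
  have hzw : z - w ∈ G.toSubmodule := sub_mem hz hw
  rw [eq_span G hM h] at hzw
  obtain ⟨c, hc⟩ := exists_eq_sum_of_mem_span hzw
  have hc0 : c = 0 := by
    let X : Matrix (Fin r) (Fin r) A := Matrix.of fun a b => crd A L (M b) a
    have h1 : X.mulVec c = crd A L (∑ b, c b • M b) := by
      ext a; simp [X, Matrix.mulVec, dotProduct, mul_comm]
    rw [hc, map_sub, he, sub_self] at h1
    exact Matrix.mulVec_injective_of_isUnit ((Matrix.isUnit_iff_isUnit_det X).2 h)
      (h1.trans (Matrix.mulVec_zero X).symm)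
  rw [hc0] at hc
  simpa [sub_eq_zero, eq_comm] using hc

theorem exists_crd_eq {A : Type u} [CommRing A] [Algebra k A] {L : (Fin d → k) →ₗ[k] (Fin r → k)}
    {M : Fin r → E k d A} {G : Submodule A (E k d A)} (hM : ∀ b, M b ∈ G) (h : IsUnit (mnr L M))
    (v : Fin r → A) : ∃ z ∈ G, crd A L z = v := by
  let X : Matrix (Fin r) (Fin r) A := Matrix.of fun a b => crd A L (M b) a
  refine ⟨∑ b, X⁻¹.mulVec v b • M b, Submodule.sum_mem _ fun b _ => Submodule.smul_mem _ _ (hM b), ?_⟩
  have h1 : crd A L (∑ b, X⁻¹.mulVec v b • M b) = X.mulVec (X⁻¹.mulVec v) := by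
    ext a; simp [X, Matrix.mulVec, dotProduct, mul_comm]
  rw [h1, Matrix.mulVec_mulVec, Matrix.mul_nonsing_inv X h, Matrix.one_mulVec]

variable {K : Type u} [Field K] [Algebra k K]

theorem surjective_of_mnr {L : (Fin d → k) →ₗ[k] (Fin r → k)} {M : Fin r → E k d K} (h : mnr L M ≠ 0) :
    Function.Surjective L := by
  rw [← LinearMap.range_eq_top]
  by_contra hne
  obtain ⟨φ, hφ0, hφ⟩ := Submodule.exists_dual_map_eq_bot_of_lt_top (lt_top_iff_ne_top.2 hne) inferInstance
  have hall : ∀ z : E k d K, ∑ a, crd K L z a * algebraMap k K (φ (Pi.single a 1)) = 0 := by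
    intro z
    induction z using TensorProduct.induction_on with
    | zero => simp
    | tmul c v =>
      have h1 : φ (L v) = 0 := by
        have : φ (L v) ∈ (LinearMap.range L).map φ := Submodule.mem_map_of_mem ⟨v, rfl⟩
        rwa [hφ, Submodule.mem_bot] at this
      rw [pi_eq_sum_univ (L v), map_sum] at h1
      simp only [map_smul, smul_eq_mul] at h1
      have h2 := congrArg (fun t => c * algebraMap k K t) h1
      simp only [map_sum, map_mul, map_zero, mul_zero, Finset.mul_sum] at h2
      refine Eq.trans ?_ h2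
      refine Finset.sum_congr rfl fun a _ => ?_
      rw [crd_tmul, Algebra.smul_def, show (fun j => if a = j then (1 : k) else 0) = Pi.single a 1 from
        funext fun j => by rcases eq_or_ne a j with rfl | hne <;> simp [*, Ne.symm]]
      ring
    | add x y hx hy => simp only [map_add, Pi.add_apply, add_mul, Finset.sum_add_distrib, hx, hy, add_zero]
  apply hφ0
  refine LinearMap.ext fun v => ?_
  rw [LinearMap.zero_apply, pi_eq_sum_univ v, map_sum]
  refine Finset.sum_eq_zero fun a _ => ?_
  obtain ⟨S, hS⟩ := exists_leftInverse h.isUnit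
  let X : Matrix (Fin r) (Fin r) K := Matrix.of fun a b => crd K L (M b) a
  have h1 : Matrix.vecMul (fun a => algebraMap k K (φ (Pi.single a 1))) X = 0 := by
    ext b
    simpa [X, Matrix.vecMul, dotProduct, mul_comm] using hall (M b)
  have h2 := congrFun (Matrix.vecMul_injective_of_isUnit ((Matrix.isUnit_iff_isUnit_det X).2 h.isUnit)
    (h1.trans (Matrix.zero_vecMul X).symm)) a
  rw [map_smul, show (fun j => if a = j then (1 : k) else 0) = Pi.single a 1 from
    funext fun j => by rcases eq_or_ne a j with rfl | hne <;> simp [*, Ne.symm]]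
  simp only [Pi.zero_apply, map_eq_zero_iff _ (algebraMap k K).injective] at h2
  rw [h2, smul_zero]

/-- An affine chart of dimension `r (d - r)` at an exact point with values in a field. -/
theorem exists_affine_chart (hrd : r ≤ d)
    (hI : ∀ i, (f i).comp (g i) = s • LinearMap.id ∧ (g i).comp (f i) = s • LinearMap.id)
    (hIII : ∀ i j : Fin n, i.val + 1 = j.val → LinearMap.range (f i) ⊓ LinearMap.ker (f j) = ⊥)
    {u : Fin (n + 1) → Module.Grassmannian K (E k d K) (d - r)} (hu : u ∈ LGPoints k d r n f g K)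
    (hex : IsExact k d r n f g K u) :
    ∃ h : MvPolynomial (Fin r × Fin (d - r)) k, ∃ W ∈ LGPoints k d r n f g (Localization.Away h),
      ∃ β : Localization.Away h →ₐ[k] K, (∀ i, Module.Grassmannian.map β (W i) = u i) ∧
        (∀ (L : Type u) [Field L] [Algebra k L] (σ : K →ₐ[k] L) (φ : Localization.Away h →ₐ[k] L),
          (∀ i, Module.Grassmannian.map φ (W i) = Module.Grassmannian.map σ (u i)) →
            ∀ t, φ (algebraMap (MvPolynomial (Fin r × Fin (d - r)) k) (Localization.Away h) (MvPolynomial.X t)) =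
              σ (β (algebraMap (MvPolynomial (Fin r × Fin (d - r)) k) (Localization.Away h) (MvPolynomial.X t)))) ∧
        ∀ (A : Type u) [CommRing A] [Algebra k A] (π : A →ₐ[k] K), Function.Surjective π →
          (∀ a, π a ≠ 0 → IsUnit a) →
          ∀ uA ∈ LGPoints k d r n f g A, (∀ i, Module.Grassmannian.map π (uA i) = u i) →
            ∃ βA : Localization.Away h →ₐ[k] A, ∀ i, Module.Grassmannian.map βA (W i) = uA i := by
  classical
  obtain ⟨hF, hG⟩ := mem_linked hu
  have hdim : ∀ i : Fin (n + 1), Module.finrank K (mem u i) = r := fun i => finrank_eq hrd _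
  choose L hL using fun i : Fin (n + 1) => exists_mnr_ne_zero (linearIndependent_basisOf (mem u i) (hdim i))
  have hmem : ∀ (i : Fin (n + 1)) b, (basisOf (mem u i) (hdim i) b : E k d K) ∈ mem u i :=
    fun i b => (basisOf (mem u i) (hdim i) b).2
  choose bT hbT hbT' using fun (i : Fin (n + 1)) (a : Fin r) =>
    exists_crd_eq (hmem i) (hL i).isUnit (Pi.single a 1)
  have hinj : ∀ (i : Fin (n + 1)) {z w : E k d K}, z ∈ mem u i → w ∈ mem u i →
      crd K (L i) z = crd K (L i) w → z = w := by
    intro i z w hz hw he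
    rw [mem_val] at hz hw
    exact eq_of_crd_eq (fun b => (mem_val u i).le (hmem i b)) (hL i).isUnit hz hw he
  let T : ℕ → Set (E k d K) := fun i => if h : i ≤ n then Set.range (bT ⟨i, by omega⟩) else ∅
  have hT : ∀ i ≤ n, Submodule.span K (T i) = mem u i := by
    intro i hi
    simp only [T, dif_pos hi]
    refine le_antisymm (Submodule.span_le.2 (by rintro _ ⟨a, rfl⟩; exact hbT ⟨i, _⟩ a)) fun z hz => ?_
    have h1 : z = ∑ a, crd K (L ⟨i, by omega⟩) z a • bT ⟨i, by omega⟩ a := by
      refine hinj ⟨i, by omega⟩ hz (Submodule.sum_mem _ fun a _ => Submodule.smul_mem _ _ (hbT _ a)) ?_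
      ext b
      simp [hbT', Pi.single_apply, Finset.sum_apply]
    rw [h1]
    exact Submodule.sum_mem _ fun a _ => Submodule.smul_mem _ _ (Submodule.subset_span ⟨a, rfl⟩)
  obtain ⟨j, c, hjc, hli⟩ := exists_frame_of_spanning (F := FA K f) (G := FA K g) (V := mem u) (n := n) (r := r)
    (fun i hi => smul_eq (fun i => (hI i).1) K (i := i) hi)
    (fun i hi => smul_eq (f := g) (g := f) (fun i => (hI i).2) K (i := i) hi)
    hF hG (fun i _ => finrank_eq hrd _) (fun i hi => by
      have h := (hex ⟨i, hi⟩).2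
      rw [← mem_val, ← mem_val, ← FA_apply, ← FA_apply] at h
      exact h)
    (fun i hi => FA_disjoint f ⟨i, by omega⟩ ⟨i + 1, hi⟩ (hIII ⟨i, by omega⟩ ⟨i + 1, hi⟩ rfl)) T hT
  let jF : Fin r → Fin (n + 1) := fun l => ⟨j l, Nat.lt_succ_of_le (hjc l).1⟩
  have hcT : ∀ l, ∃ a, bT (jF l) a = c l := fun l => by
    have h := (hjc l).2
    simp only [T, dif_pos (hjc l).1] at h
    exact h
  choose al hal using hcT
  have hcmem : ∀ l, c l ∈ mem u (j l) := fun l => by rw [← hal]; exact hbT (jF l) _
  have hfr : ∀ i : Fin (n + 1), mnr (L i) (frame f g j c i) ≠ 0 := by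
    intro i
    rw [mnr, ← isUnit_iff_ne_zero, ← Matrix.isUnit_iff_isUnit_det, ← Matrix.linearIndependent_cols_iff_isUnit]
    rw [show (Matrix.of fun a b => crd K (L i) (frame f g j c i b) a).col = crd K (L i) ∘ frame f g j c i from rfl]
    refine Fintype.linearIndependent_iff.2 fun a ha => Fintype.linearIndependent_iff.1 (hli i (Nat.le_of_lt_succ i.isLt)) a ?_
    have hz : ∑ l, a l • frame f g j c i l ∈ mem u i := Submodule.sum_mem _ fun l _ =>
      Submodule.smul_mem _ _ (tr_mem hF hG (hjc l).1 (Nat.le_of_lt_succ i.isLt) (hcmem l))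
    exact hinj i hz (zero_mem _) (by simp only [map_sum, map_smul, map_zero]; exact ha)
  -- coordinates
  have hsurj : ∀ i, Function.Surjective (L i) := fun i => surjective_of_mnr (hL i)
  choose sec hsec using fun i => LinearMap.exists_rightInverse_of_surjective (L i)
    (LinearMap.range_eq_top.2 (hsurj i))
  have hker : ∀ i, Module.finrank k (LinearMap.ker (L i)) = d - r := fun i => by
    have := LinearMap.finrank_range_add_finrank_ker (L i)
    rw [LinearMap.range_eq_top.2 (hsurj i), finrank_top, Module.finrank_fin_fun, Module.finrank_fin_fun] at this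
    omega
  let kb := fun i => Module.finBasisOfFinrankEq k (LinearMap.ker (L i)) (hker i)
  let kap : Fin (n + 1) → ((Fin (d - r) → k) →ₗ[k] (Fin d → k)) := fun i =>
    (LinearMap.ker (L i)).subtype ∘ₗ (kb i).equivFun.symm.toLinearMap
  have hkrange : ∀ i, LinearMap.range (kap i) = LinearMap.ker (L i) := fun i => by
    rw [LinearMap.range_comp, LinearEquiv.range, Submodule.map_top, Submodule.range_subtype]
  choose L' hL' using fun i => LinearMap.exists_leftInverse_of_injective (kap i)
    (LinearMap.ker_eq_bot.2 (Subtype.val_injective.comp (kb i).equivFun.symm.injective))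
  let R := MvPolynomial (Fin r × Fin (d - r)) k
  let cR : Fin r → E k d R := fun l =>
    (1 : R) ⊗ₜ sec (jF l) (Pi.single (al l) 1) +
      ∑ b, (MvPolynomial.X (l, b) : R) • ((1 : R) ⊗ₜ[k] kap (jF l) (Pi.single b 1))
  have hyA : ∀ (A : Type u) [CommRing A] [Algebra k A] (l : Fin r) (z : E k d A),
      crd A (L (jF l)) z = Pi.single (al l) 1 → ∃ y : Fin (d - r) → A,
        z = (1 : A) ⊗ₜ sec (jF l) (Pi.single (al l) 1) +
          ∑ b, y b • ((1 : A) ⊗ₜ[k] kap (jF l) (Pi.single b 1)) := by
    intro A _ _ l z hz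
    have h0 : (L (jF l)).baseChange A (z - (1 : A) ⊗ₜ sec (jF l) (Pi.single (al l) 1)) = 0 := by
      apply (TensorProduct.piScalarRight k A A (Fin r)).injective
      rw [map_zero]
      show crd A (L (jF l)) _ = 0
      rw [map_sub, hz]
      ext a
      have := congrFun (LinearMap.congr_fun (hsec (jF l)) (Pi.single (al l) 1)) a
      simp only [LinearMap.comp_apply, LinearMap.id_apply] at this
      simp only [Pi.sub_apply, crd_tmul, this, Pi.zero_apply]
      rcases eq_or_ne a (al l) with rfl | hne <;> simp [*]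
    have hex' : Function.Exact ((kap (jF l)).lTensor A) ((L (jF l)).lTensor A) :=
      Module.Flat.lTensor_exact A (LinearMap.exact_iff.2 (hkrange (jF l)).symm)
    obtain ⟨w, hw⟩ := (hex' _).1 h0
    refine ⟨fun b => (Algebra.TensorProduct.basis A (Pi.basisFun k (Fin (d - r)))).repr w b, ?_⟩
    rw [← sub_eq_iff_eq_add', ← hw]
    conv_lhs => rw [← (Algebra.TensorProduct.basis A (Pi.basisFun k (Fin (d - r)))).sum_repr w]
    show (kap (jF l)).baseChange A _ = _
    rw [map_sum]
    refine Finset.sum_congr rfl fun b _ => ?_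
    rw [map_smul, Algebra.TensorProduct.basis_apply, LinearMap.baseChange_tmul, Pi.basisFun_apply]
  have hy : ∀ l, ∃ y : Fin (d - r) → K, c l = (1 : K) ⊗ₜ sec (jF l) (Pi.single (al l) 1) +
      ∑ b, y b • ((1 : K) ⊗ₜ[k] kap (jF l) (Pi.single b 1)) :=
    fun l => hyA K l (c l) (by rw [← hal]; exact hbT' (jF l) (al l))
  choose y hy using hy
  let β₀ : R →ₐ[k] K := MvPolynomial.aeval fun t => y t.1 t.2
  have hΦ : ∀ {S : Type u} [CommRing S] [Algebra k S] (φ : R →ₐ[k] S) (l : Fin r), Phi φ (cR l) =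
      (1 : S) ⊗ₜ sec (jF l) (Pi.single (al l) 1) +
        ∑ b, φ (MvPolynomial.X (l, b)) • ((1 : S) ⊗ₜ[k] kap (jF l) (Pi.single b 1)) := by
    intro S _ _ φ l
    simp [cR, Phi_smul]
  have hβc : ∀ l, Phi β₀ (cR l) = c l := fun l => by
    rw [hΦ, hy l]
    exact congrArg _ (Finset.sum_congr rfl fun b _ => by
      rw [show β₀ (MvPolynomial.X (l, b)) = y l b from MvPolynomial.aeval_X _ _])
  let h : R := ∏ i : Fin (n + 1), mnr (L i) (frame f g j cR i)
  have hβh : ∀ i : Fin (n + 1), β₀ (mnr (L i) (frame f g j cR i)) ≠ 0 := fun i => by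
    rw [← mnr_Phi]
    convert hfr i using 2
    funext l
    rw [Phi_frame]
    simp only [hβc]
  let ψ := IsScalarTower.toAlgHom k R (Localization.Away h)
  have hu' : ∀ i : Fin (n + 1), IsUnit (mnr (L i) (frame f g j (fun l => Phi ψ (cR l)) i)) := fun i => by
    rw [show frame f g j (fun l => Phi ψ (cR l)) i = fun l => Phi ψ (frame f g j cR i l) from
      funext fun l => (Phi_frame ψ j cR i l).symm, mnr_Phi]
    exact isUnit_of_dvd_unit (map_dvd ψ (show mnr (L i) (frame f g j cR i) ∣ h from
      Finset.dvd_prod_of_mem (fun i : Fin (n + 1) => mnr (L i) (frame f g j cR i)) (Finset.mem_univ i)))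
      (IsLocalization.Away.algebraMap_isUnit h)
  let β : Localization.Away h →ₐ[k] K := IsLocalization.liftAlgHom (M := Submonoid.powers h) (f := β₀) (by
    rintro ⟨_, m, rfl⟩
    simp only [map_pow, h, map_prod]
    exact ((Finset.prod_ne_zero_iff.2 fun i _ => hβh i).isUnit).pow m)
  have hβψ : β.comp ψ = β₀ := AlgHom.ext fun p => by simp [β, ψ]
  refine ⟨h, fun i => spanPt (hu' i), spanPt_frame_mem hI j _ hu', β, fun i => ?_, fun Lf _ _ σ φ hφ => ?_,
    fun A _ _ π hπ hπu uA huA hπA => ?_⟩
  · refine Module.Grassmannian.ext ?_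
    rw [map_eq_span β (spanPt (hu' i)) (fun b => Submodule.subset_span ⟨b, rfl⟩) ((hu' i).map _)]
    simp only [Phi_frame, Phi_comp, hβψ, hβc]
    exact (eq_span (u i) (fun b => (mem_val u i).le
      (tr_mem hF hG (hjc b).1 (Nat.le_of_lt_succ i.isLt) (hcmem b))) (hfr i).isUnit).symm
  · rintro ⟨l, b⟩
    let χ := φ.comp ψ
    have hmemW : Phi χ (cR l) ∈ (Module.Grassmannian.map φ (spanPt (hu' (jF l)))).toSubmodule := by
      rw [← Phi_comp]
      refine Phi_mem_map φ _ (Submodule.subset_span ⟨l, ?_⟩)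
      show tr _ _ (j l) (jF l : ℕ) _ = _
      rw [tr_self]
      rfl
    rw [hφ] at hmemW
    have hmemu : Phi σ (c l) ∈ (Module.Grassmannian.map σ (u (jF l))).toSubmodule :=
      Phi_mem_map σ _ ((mem_val u (jF l)).le (hcmem l))
    have heq : Phi χ (cR l) = Phi σ (c l) := by
      refine eq_of_crd_eq (L := L (jF l)) (M := fun b => Phi σ (basisOf (mem u (jF l)) (hdim (jF l)) b : E k d K))
        (fun b => Phi_mem_map σ _ ((mem_val u (jF l)).le (hmem _ b))) ?_ hmemW hmemu ?_
      · rw [mnr_Phi]; exact (hL (jF l)).isUnit.map σ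
      · ext a
        have hk : ∀ b, L (jF l) (kap (jF l) (Pi.single b 1)) = 0 := fun b =>
          LinearMap.mem_ker.1 ((hkrange (jF l)).le ⟨_, rfl⟩)
        have hs := congrFun (LinearMap.congr_fun (hsec (jF l)) (Pi.single (al l) 1)) a
        simp only [LinearMap.comp_apply, LinearMap.id_apply] at hs
        rw [hΦ, crd_Phi, ← hal, hbT']
        simp only [map_add, map_sum, map_smul, Pi.add_apply, Finset.sum_apply, Pi.smul_apply, crd_tmul, hk,
          hs, Pi.zero_apply, zero_smul, smul_zero, Finset.sum_const_zero, add_zero]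
        rcases eq_or_ne a (al l) with rfl | hne <;> simp [*]
    have hσc : Phi σ (c l) = Phi (σ.comp β₀) (cR l) := by rw [← Phi_comp, hβc]
    rw [hσc, hΦ, hΦ, add_right_inj] at heq
    let crd' : E k d Lf →ₗ[Lf] (Fin (d - r) → Lf) :=
      (TensorProduct.piScalarRight k Lf Lf (Fin (d - r))).toLinearMap ∘ₗ (L' (jF l)).baseChange Lf
    have hk' : ∀ b b', crd' ((1 : Lf) ⊗ₜ[k] kap (jF l) (Pi.single b 1)) b' = if b' = b then 1 else 0 := by
      intro b b'
      have := congrFun (LinearMap.congr_fun (hL' (jF l)) (Pi.single b 1)) b'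
      simp only [LinearMap.comp_apply, LinearMap.id_apply] at this
      simp [crd', this, Pi.single_apply]
    have h1 := congrFun (congrArg crd' heq) b
    simp only [map_sum, map_smul, Finset.sum_apply, Pi.smul_apply, hk', smul_eq_mul, mul_ite, mul_one, mul_zero,
      Finset.sum_ite_eq, Finset.mem_univ, if_true] at h1
    rw [← hβψ] at h1
    exact h1

  · obtain ⟨hFA, hGA⟩ := mem_linked huA
    have hlift : ∀ (i : Fin (n + 1)) (b : Fin r), ∃ w ∈ (uA i).toSubmodule,
        Phi π w = (basisOf (mem u i) (hdim i) b : E k d K) := fun i b => by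
      have h1 := (mem_val u i).le (hmem i b)
      rw [← hπA] at h1
      exact exists_mem_Phi_eq π hπ _ h1
    choose MA hMA hMA' using hlift
    have hMu : ∀ i, IsUnit (mnr (L i) (MA i)) := fun i => hπu _ (by
      rw [← mnr_Phi]; simp only [hMA']; exact hL i)
    choose zA hzA hzA' using fun l => exists_crd_eq (hMA (jF l)) (hMu (jF l)) (Pi.single (al l) (1 : A))
    have hπz : ∀ l, Phi π (zA l) = c l := fun l => by
      refine hinj (jF l) ?_ (hcmem l) ?_
      · have h1 := Phi_mem_map π _ (hzA l)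
        rw [hπA] at h1
        exact (mem_val u (jF l)).ge h1
      · ext a
        rw [crd_Phi, hzA', ← hal, hbT']
        rcases eq_or_ne a (al l) with rfl | hne <;> simp [*]
    choose yA hyA' using fun l => hyA A l (zA l) (hzA' l)
    let γ₀ : R →ₐ[k] A := MvPolynomial.aeval fun t => yA t.1 t.2
    have hγc : ∀ l, Phi γ₀ (cR l) = zA l := fun l => by
      rw [hΦ, hyA' l]
      exact congrArg _ (Finset.sum_congr rfl fun b _ => by
        rw [show γ₀ (MvPolynomial.X (l, b)) = yA l b from MvPolynomial.aeval_X _ _])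
    have hγh : ∀ i : Fin (n + 1), IsUnit (γ₀ (mnr (L i) (frame f g j cR i))) := fun i => hπu _ (by
      rw [← mnr_Phi, ← mnr_Phi]
      convert hfr i using 2
      funext l
      simp only [Phi_frame, hγc, hπz])
    let γ : Localization.Away h →ₐ[k] A := IsLocalization.liftAlgHom (M := Submonoid.powers h) (f := γ₀) (by
      rintro ⟨_, m, rfl⟩
      simp only [map_pow, h, map_prod]
      exact (IsUnit.prod_iff.2 fun i _ => hγh i).pow m)
    have hγψ : γ.comp ψ = γ₀ := AlgHom.ext fun p => by simp [γ, ψ]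
    refine ⟨γ, fun i => Module.Grassmannian.ext ?_⟩
    rw [map_eq_span γ (spanPt (hu' i)) (fun b => Submodule.subset_span ⟨b, rfl⟩) ((hu' i).map _)]
    simp only [Phi_frame, Phi_comp, hγψ, hγc]
    refine (eq_span (uA i) (L := L i) (M := frame f g j zA i) (fun b => (mem_val uA i).le
      (tr_mem hFA hGA (hjc b).1 (Nat.le_of_lt_succ i.isLt) ((mem_val uA (jF b)).ge (hzA b)))) ?_).symm
    have h1 := hγh i
    rw [← mnr_Phi] at h1
    simpa only [Phi_frame, hγc] using h1

end Groth.Agent.Lib.LinkGr
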