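import Groth.Agent.Lib.LinkGr.Chain
import Mathlib.LinearAlgebra.Dual.Lemmas
import Mathlib.LinearAlgebra.Projection

/-!
# Deforming a linked chain which is not exact
-/

universe u v

namespace Groth.Agent.Lib.LinkGr

variable {k : Type u} [Field k] {M : Type v} [AddCommGroup M] [Module k M] [FiniteDimensional k M]

theorem finrank_map_add_ker (φ : M →ₗ[k] M) (W : Submodule k M) :
    Module.finrank k (Submodule.map φ W) + Module.finrank k ↥(LinearMap.ker φ ⊓ W) = Module.finrank k W := by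
  have h := LinearMap.finrank_range_add_finrank_ker (φ.domRestrict W)
  rw [LinearMap.range_domRestrict] at h
  rw [← h]
  congr 1
  exact LinearEquiv.finrank_eq ((Submodule.comapSubtypeEquivOfLe (inf_le_right (a := LinearMap.ker φ)
    (b := W))).symm.trans (LinearEquiv.ofEq _ _ (SetLike.ext fun z => by simp)))

theorem ker_le_iff {φ ψ : M →ₗ[k] M} {V W : Submodule k M} {r : ℕ} (hψφ : ∀ z, ψ (φ z) = 0)
    (hφ : Submodule.map φ V ≤ W) (hW : Module.finrank k W = r) :
    LinearMap.ker ψ ⊓ W ≤ Submodule.map φ V ↔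
      r ≤ Module.finrank k (Submodule.map φ V) + Module.finrank k (Submodule.map ψ W) := by
  have h := finrank_map_add_ker ψ W
  have hle : Submodule.map φ V ≤ LinearMap.ker ψ ⊓ W := le_inf (by rintro _ ⟨z, -, rfl⟩; exact hψφ z) hφ
  constructor
  · intro h1
    have := Submodule.finrank_mono h1
    omega
  · intro h1
    exact (Submodule.eq_of_le_of_finrank_le hle (by omega)).ge

theorem exists_factor {P Q : Type v} [AddCommGroup P] [Module k P] [AddCommGroup Q] [Module k Q]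
    (h : P →ₗ[k] Q) (L : P →ₗ[k] M) (hle : LinearMap.ker h ≤ LinearMap.ker L) :
    ∃ ψ : Q →ₗ[k] M, ψ ∘ₗ h = L := by
  obtain ⟨σ, hσ⟩ := LinearMap.exists_rightInverse_of_surjective h.rangeRestrict
    (LinearMap.range_rangeRestrict h)
  obtain ⟨ψ, hψ⟩ := LinearMap.exists_extend (L ∘ₗ σ)
  refine ⟨ψ, LinearMap.ext fun z => ?_⟩
  have h1 := LinearMap.congr_fun hψ (h.rangeRestrict z)
  simp only [LinearMap.comp_apply, Submodule.subtype_apply] at h1 ⊢
  rw [show ψ (h z) = ψ (h.rangeRestrict z : Q) from rfl, h1, ← sub_eq_zero, ← map_sub]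
  refine LinearMap.mem_ker.1 (hle ?_)
  have h2 := congrArg Subtype.val (LinearMap.congr_fun hσ (h.rangeRestrict z))
  rw [LinearMap.mem_ker, map_sub, sub_eq_zero]
  exact h2

/-- A linked chain of scalar `0` which is not exact has an infinitesimal deformation increasing the rank of one
of the forward maps on it. -/
theorem exists_deform {F G : ℕ → M →ₗ[k] M} {n r : ℕ} {V : ℕ → Submodule k M}
    (hFG : ∀ i < n, ∀ z, F i (G i z) = 0) (hGF : ∀ i < n, ∀ z, G i (F i z) = 0)
    (hker : ∀ i < n, ∀ z, G i z = 0 → ∃ w, F i w = z)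
    (hdF : ∀ i, i + 1 < n → LinearMap.range (F i) ⊓ LinearMap.ker (F (i + 1)) = ⊥)
    (hdG : ∀ i, i + 1 < n → LinearMap.range (G (i + 1)) ⊓ LinearMap.ker (G i) = ⊥)
    (hF : ∀ i < n, (V i).map (F i) ≤ V (i + 1)) (hG : ∀ i < n, (V (i + 1)).map (G i) ≤ V i)
    (hdim : ∀ i ≤ n, Module.finrank k (V i) = r)
    (hne : ¬ ∀ i < n, LinearMap.ker (G i) ⊓ V (i + 1) ≤ (V i).map (F i) ∧
      LinearMap.ker (F i) ⊓ V i ≤ (V (i + 1)).map (G i)) :
    ∃ N : ℕ → M →ₗ[k] M,
      (∀ i < n, ∀ z ∈ V i, F i (N i z) - N (i + 1) (F i z) ∈ V (i + 1) ⊓ LinearMap.ker (N (i + 1))) ∧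
      (∀ i < n, ∀ z ∈ V (i + 1), G i (N (i + 1) z) - N i (G i z) ∈ V i ⊓ LinearMap.ker (N i)) ∧
      (∃ i < n, ∃ x ∈ V i, F i x = 0 ∧ F i (N i x) ∉ (V i).map (F i)) ∧
      ∀ i < n, ¬ (LinearMap.ker (G i) ⊓ V (i + 1) ≤ (V i).map (F i) ∧
          LinearMap.ker (F i) ⊓ V i ≤ (V (i + 1)).map (G i)) → ∀ l, i < l → N l = 0 := by
  classical
  push Not at hne
  let i₀ := Nat.find hne
  obtain ⟨hi₀, hbad⟩ : i₀ < n ∧ _ := Nat.find_spec hne
  have hle₀ : ∀ i < n, ¬ (LinearMap.ker (G i) ⊓ V (i + 1) ≤ (V i).map (F i) ∧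
      LinearMap.ker (F i) ⊓ V i ≤ (V (i + 1)).map (G i)) → i₀ ≤ i :=
    fun i hi h => Nat.find_le ⟨hi, fun h' h'' => h ⟨h', h''⟩⟩
  have hmin : ∀ j < i₀, LinearMap.ker (G j) ⊓ V (j + 1) ≤ (V j).map (F j) := fun j hj => by
    by_contra h
    exact Nat.find_min hne hj ⟨lt_trans hj hi₀, fun h' => absurd h' h⟩
  have hlt : ¬ r ≤ Module.finrank k ((V i₀).map (F i₀)) + Module.finrank k ((V (i₀ + 1)).map (G i₀)) := by
    intro h
    refine hbad ((ker_le_iff (hGF i₀ hi₀) (hF i₀ hi₀) (hdim _ hi₀)).2 h) ?_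
    exact (ker_le_iff (hFG i₀ hi₀) (hG i₀ hi₀) (hdim _ hi₀.le)).2 (by omega)
  obtain ⟨y, hy, hy'⟩ := SetLike.not_le_iff_exists.1 fun h =>
    hlt ((ker_le_iff (hGF i₀ hi₀) (hF i₀ hi₀) (hdim _ hi₀)).1 h)
  obtain ⟨x, hx, hx'⟩ := SetLike.not_le_iff_exists.1 fun h =>
    hlt (by have := (ker_le_iff (hFG i₀ hi₀) (hG i₀ hi₀) (hdim _ hi₀.le)).1 h; omega)
  obtain ⟨w, hw⟩ := hker i₀ hi₀ y hy.1
  let P : ℕ → Submodule k M := fun j => if j = 0 then ⊥ else (V (j - 1)).map (F (j - 1))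
  have hP : ∀ j, P (j + 1) = (V j).map (F j) := fun j => by simp [P]
  have hxQ : x ∉ P i₀ ⊔ (V (i₀ + 1)).map (G i₀) := by
    intro h
    obtain ⟨a, ha, b, hb, hab⟩ := Submodule.mem_sup.1 h
    apply hx'
    obtain ⟨v, hv, rfl⟩ := hb
    suffices ha0 : a = 0 by rw [← hab, ha0, zero_add]; exact Submodule.mem_map_of_mem hv
    rcases Nat.eq_zero_or_eq_succ_pred i₀ with h0 | h0
    · rw [h0] at ha; simpa [P] using ha
    · obtain ⟨c, -, hc⟩ : a ∈ (V (i₀ - 1)).map (F (i₀ - 1)) := by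
        rw [h0] at ha; simpa [P] using ha
      have hFa : F i₀ a = 0 := by
        have h1 := congrArg (F i₀) hab
        rw [map_add, hFG i₀ hi₀, add_zero] at h1
        rw [h1]; exact hx.1
      have h2 : a ∈ LinearMap.range (F (i₀ - 1)) ⊓ LinearMap.ker (F ((i₀ - 1) + 1)) :=
        ⟨⟨c, hc⟩, by rwa [show i₀ - 1 + 1 = i₀ by omega]⟩
      rw [hdF (i₀ - 1) (by omega)] at h2
      exact h2
  obtain ⟨φ, hφx, hφ⟩ := Submodule.exists_dual_map_eq_bot_of_notMem hxQ inferInstance
  let φ' := (φ x)⁻¹ • φ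
  have hφ'x : φ' x = 1 := by simp [φ', hφx]
  have hφ'0 : ∀ z ∈ P i₀ ⊔ (V (i₀ + 1)).map (G i₀), φ' z = 0 := fun z hz => by
    have : φ z ∈ (P i₀ ⊔ (V (i₀ + 1)).map (G i₀)).map φ := Submodule.mem_map_of_mem hz
    rw [hφ, Submodule.mem_bot] at this
    simp [φ', this]
  have hext : ∀ t, t ≤ i₀ → ∃ N : ℕ → M →ₗ[k] M, N i₀ = φ'.smulRight w ∧ (∀ j > i₀, N j = 0) ∧
      (∀ j, i₀ ≤ j + t → j ≤ i₀ → ∀ z ∈ P j, N j z = 0) ∧
      ∀ j, i₀ ≤ j + t → j < i₀ → (∀ z, F j (N j z) = 0) ∧ ∀ z ∈ V (j + 1), G j (N (j + 1) z) = N j (G j z) := by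
    intro t
    induction t with
    | zero =>
      intro _
      refine ⟨fun j => if j = i₀ then φ'.smulRight w else 0, by simp, fun j hj => by simp [hj.ne'],
        fun j hj hj' z hz => ?_, fun j hj hj' => by omega⟩
      obtain rfl : j = i₀ := by omega
      simp [hφ'0 z (Submodule.mem_sup_left hz)]
    | succ t ih =>
      intro ht
      obtain ⟨N, hN0, hNhi, hNP, hNc⟩ := ih (by omega)
      let j := i₀ - (t + 1)
      have hj : j + 1 + t = i₀ := by omega
      let h : V (j + 1) →ₗ[k] M ⧸ P j := (P j).mkQ ∘ₗ (G j).domRestrict (V (j + 1))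
      have hle : LinearMap.ker h ≤ LinearMap.ker ((N (j + 1)).domRestrict (V (j + 1))) := by
        rintro ⟨z, hz⟩ hz0
        rw [LinearMap.mem_ker] at hz0 ⊢
        simp only [h, LinearMap.comp_apply, LinearMap.domRestrict_apply, Submodule.mkQ_apply,
          Submodule.Quotient.mk_eq_zero] at hz0
        have hGz : G j z = 0 := by
          rcases Nat.eq_zero_or_eq_succ_pred j with h0 | h0
          · have h1 : G j z ∈ P 0 := by rwa [← h0]
            simpa [P] using h1
          · obtain ⟨c, -, hc⟩ : G j z ∈ (V (j - 1)).map (F (j - 1)) := by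
              have h1 : G j z ∈ P (j - 1).succ := by
                rw [show (j - 1).succ = j by omega]; exact hz0
              simpa [P] using h1
            have h2 : G j z ∈ LinearMap.range (G ((j - 1) + 1)) ⊓ LinearMap.ker (G (j - 1)) :=
              ⟨⟨z, by rw [show j - 1 + 1 = j by omega]⟩, by
                rw [SetLike.mem_coe, LinearMap.mem_ker, ← hc]; exact hGF (j - 1) (by omega) c⟩
            rw [hdG (j - 1) (by omega)] at h2
            exact h2
        simp only [LinearMap.domRestrict_apply]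
        refine hNP (j + 1) (by omega) (by omega) z ?_
        rw [hP]
        exact hmin j (by omega) ⟨hGz, hz⟩
      obtain ⟨ψ, hψ⟩ := exists_factor h _ hle
      refine ⟨Function.update N j (G j ∘ₗ ψ ∘ₗ (P j).mkQ), ?_, ?_, ?_, ?_⟩
      · rw [Function.update_of_ne (by omega)]; exact hN0
      · intro l hl; rw [Function.update_of_ne (by omega)]; exact hNhi l hl
      · intro l hl hl' z hz
        rcases eq_or_ne l j with rfl | hne'
        · simp [(Submodule.Quotient.mk_eq_zero _).2 hz]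
        · rw [Function.update_of_ne hne']; exact hNP l (by omega) hl' z hz
      · intro l hl hl'
        rcases eq_or_ne l j with rfl | hne'
        · rw [Function.update_self, Function.update_of_ne (by omega)]
          refine ⟨fun z => hFG _ (by omega) _, fun z hz => ?_⟩
          have h1 := LinearMap.congr_fun hψ ⟨z, hz⟩
          simp only [h, LinearMap.comp_apply, LinearMap.domRestrict_apply] at h1
          simp only [LinearMap.comp_apply, h1]
        · rw [Function.update_of_ne hne', Function.update_of_ne (by omega)]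
          exact hNc l (by omega) hl'
  obtain ⟨N, hN0, hNhi, hNP, hNc⟩ := hext i₀ le_rfl
  refine ⟨N, fun j hj z hz => ?_, fun j hj z hz => ?_, ⟨i₀, hi₀, x, hx.2, hx.1, ?_⟩,
    fun i hi h l hl => hNhi l (lt_of_le_of_lt (hle₀ i hi h) hl)⟩
  · rcases lt_trichotomy j i₀ with h | h | h
    · rw [(hNc j (by omega) h).1, hNP (j + 1) (by omega) h _ (by rw [hP]; exact Submodule.mem_map_of_mem hz),
        sub_zero]
      exact zero_mem _
    · subst h
      rw [hN0, hNhi (i₀ + 1) (Nat.lt_succ_self _)]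
      simp only [LinearMap.smulRight_apply, map_smul, hw, LinearMap.zero_apply, sub_zero, LinearMap.ker_zero,
        inf_top_eq]
      exact Submodule.smul_mem _ _ hy.2
    · rw [hNhi j h, hNhi (j + 1) (by omega)]; simp
  · rcases lt_trichotomy j i₀ with h | h | h
    · rw [(hNc j (by omega) h).2 z hz, sub_self]; exact zero_mem _
    · subst h
      rw [hN0, hNhi (i₀ + 1) (Nat.lt_succ_self _)]
      simp [hφ'0 _ (Submodule.mem_sup_right (Submodule.mem_map_of_mem hz))]
    · rw [hNhi j h, hNhi (j + 1) (by omega)]; simp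
  · rw [hN0]
    simpa [hφ'x, hw] using hy'

end Groth.Agent.Lib.LinkGr
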