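import Groth.Agent.Lib.LinkGr.Points
import Groth.Agent.Lib.LinkGr.Deform
import Mathlib.Algebra.Polynomial.AlgebraMap
import Mathlib.Algebra.Polynomial.Roots
import Mathlib.RingTheory.Flat.Basic

/-!
# Exactness through frames, and curves through points which are not exact
-/

open TensorProduct W4c1limliniiii Polynomial

universe u

namespace Groth.Agent.Lib.LinkGr

variable {k : Type u} [Field k] {d r n : ℕ} {f g : Fin n → ((Fin d → k) →ₗ[k] (Fin d → k))} {s : k}

section Frame

variable {R : Type u} [CommRing R] {M : Type u} [AddCommGroup M] [Module R M] (F G : ℕ → M →ₗ[R] M)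

theorem tr_succ_right {j i : ℕ} (h : j ≤ i) (z : M) : tr F G j (i + 1) z = F i (tr F G j i z) := by
  rw [tr, tr, if_pos (h.trans i.le_succ), if_pos h, show i + 1 - j = (i - j) + 1 by omega, up,
    show j + (i - j) = i by omega]
  rfl

theorem tr_pred_left {j i : ℕ} (h : i < j) (z : M) : tr F G j i z = G i (tr F G j (i + 1) z) := by
  rw [tr, tr, if_neg (not_le.2 h), show j - i = (j - (i + 1)) + 1 by omega, down, LinearMap.comp_apply]
  split
  · next h' => rw [show j - (i + 1) = 0 by omega, show i + 1 - j = 0 by omega]; rfl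
  · rfl

end Frame

theorem linearIndependent_of_mnr {A : Type u} [CommRing A] [Algebra k A] {m : ℕ}
    {L : (Fin d → k) →ₗ[k] (Fin m → k)} {M : Fin m → E k d A} (h : IsUnit (mnr L M)) :
    LinearIndependent A M := by
  obtain ⟨S, hS⟩ := exists_leftInverse h
  refine Fintype.linearIndependent_iff.2 fun c hc => congrFun ?_
  rw [← hS c, hc, map_zero]
  rfl

theorem exact_of_frame_aux {M : Type u} [AddCommGroup M] [Module k M] {F G : ℕ → M →ₗ[k] M} {σ : k}
    {V : ℕ → Submodule k M} {m : ℕ} {i : ℕ} (hFG : ∀ z, F i (G i z) = σ • z) (hGF : ∀ z, G i (F i z) = σ • z)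
    (j : Fin m → ℕ) (c : Fin m → M)
    (hmem : ∀ l, tr F G (j l) i (c l) ∈ V i ∧ tr F G (j l) (i + 1) (c l) ∈ V (i + 1))
    (hV : V i ≤ Submodule.span k (Set.range fun l => tr F G (j l) i (c l)))
    (hV' : V (i + 1) ≤ Submodule.span k (Set.range fun l => tr F G (j l) (i + 1) (c l)))
    (hli : LinearIndependent k fun l => tr F G (j l) i (c l))
    (hli' : LinearIndependent k fun l => tr F G (j l) (i + 1) (c l)) :
    LinearMap.ker (G i) ⊓ V (i + 1) ≤ (V i).map (F i) ∧ LinearMap.ker (F i) ⊓ V i ≤ (V (i + 1)).map (G i) := by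
  constructor
  · rintro z ⟨hz0, hz⟩
    obtain ⟨a, rfl⟩ := (Submodule.mem_span_range_iff_exists_fun k).1 (hV' hz)
    have hzero : ∑ l, (a l * if i < j l then 1 else σ) • tr F G (j l) i (c l) = 0 := by
      rw [← LinearMap.mem_ker.1 hz0, map_sum]
      refine Finset.sum_congr rfl fun l _ => ?_
      rw [map_smul, mul_smul]
      congr 1
      split
      · next h => rw [one_smul]; exact tr_pred_left _ _ h _
      · next h => rw [tr_succ_right _ _ (not_lt.1 h), hGF]
    refine Submodule.sum_mem _ fun l _ => ?_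
    by_cases h : i < j l
    · have h1 := Fintype.linearIndependent_iff.1 hli _ hzero l
      rw [if_pos h, mul_one] at h1
      rw [h1, zero_smul]
      exact zero_mem _
    · rw [tr_succ_right _ _ (not_lt.1 h)]
      exact Submodule.smul_mem _ _ (Submodule.mem_map_of_mem (hmem l).1)
  · rintro z ⟨hz0, hz⟩
    obtain ⟨a, rfl⟩ := (Submodule.mem_span_range_iff_exists_fun k).1 (hV hz)
    have hzero : ∑ l, (a l * if j l ≤ i then 1 else σ) • tr F G (j l) (i + 1) (c l) = 0 := by
      rw [← LinearMap.mem_ker.1 hz0, map_sum]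
      refine Finset.sum_congr rfl fun l _ => ?_
      rw [map_smul, mul_smul]
      congr 1
      split
      · next h => rw [one_smul]; exact tr_succ_right _ _ h _
      · next h => rw [tr_pred_left _ _ (not_le.1 h), hFG]
    refine Submodule.sum_mem _ fun l _ => ?_
    by_cases h : j l ≤ i
    · have h1 := Fintype.linearIndependent_iff.1 hli' _ hzero l
      rw [if_pos h, mul_one] at h1
      rw [h1, zero_smul]
      exact zero_mem _
    · rw [tr_pred_left _ _ (not_le.1 h)]
      exact Submodule.smul_mem _ _ (Submodule.mem_map_of_mem (hmem l).2)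

variable {K : Type u} [Field K] [Algebra k K]

theorem exact_of_frame (hI : ∀ i, (f i).comp (g i) = s • LinearMap.id ∧ (g i).comp (f i) = s • LinearMap.id)
    {u : Fin (n + 1) → Module.Grassmannian K (E k d K) (d - r)} (hu : u ∈ LGPoints k d r n f g K)
    (j : Fin r → ℕ) (c : Fin r → E k d K) (hjc : ∀ l, j l ≤ n ∧ c l ∈ mem u (j l))
    (hL : ∀ i ≤ n, ∃ L : (Fin d → k) →ₗ[k] (Fin r → k), mnr L (frame f g j c i) ≠ 0) :
    IsExact k d r n f g K u := by
  obtain ⟨hF, hG⟩ := mem_linked hu
  intro i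
  have hspan : ∀ l : ℕ, l ≤ n → mem u l = Submodule.span K (Set.range (frame f g j c l)) ∧
      LinearIndependent K (frame f g j c l) := fun l hl => by
    obtain ⟨L, hL'⟩ := hL l hl
    exact ⟨eq_span _ (fun b => tr_mem hF hG (hjc b).1 hl (hjc b).2) hL'.isUnit,
      linearIndependent_of_mnr hL'.isUnit⟩
  rw [← mem_val, ← mem_val, Fin.val_succ, Fin.val_castSucc, ← FA_apply, ← FA_apply]
  exact exact_of_frame_aux (F := FA K f) (G := FA K g) (V := mem u) (smul_eq (fun i => (hI i).1) K i.isLt)
    (smul_eq (f := g) (g := f) (fun i => (hI i).2) K i.isLt) j c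
    (fun l => ⟨tr_mem hF hG (hjc l).1 i.isLt.le (hjc l).2, tr_mem hF hG (hjc l).1 i.isLt (hjc l).2⟩)
    (hspan i i.isLt.le).1.le (hspan (i + 1) i.isLt).1.le (hspan i i.isLt.le).2 (hspan (i + 1) i.isLt).2

/-- The sum of the ranks of the forward maps on a tuple. -/
noncomputable def rk (f : Fin n → ((Fin d → k) →ₗ[k] (Fin d → k)))
    (u : Fin (n + 1) → Module.Grassmannian K (E k d K) (d - r)) : ℕ :=
  ∑ i ∈ Finset.range n, Module.finrank K ((mem u i).map (FA K f i))

theorem rk_le (hrd : r ≤ d) (u : Fin (n + 1) → Module.Grassmannian K (E k d K) (d - r)) : rk f u ≤ n * r := by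
  refine (Finset.sum_le_card_nsmul _ _ r fun i _ => ?_).trans (by simp)
  exact (Submodule.finrank_map_le _ _).trans (finrank_eq hrd _).le

theorem exists_witness {M : Type u} [AddCommGroup M] [Module K M] [FiniteDimensional K M] (φ : M →ₗ[K] M)
    (V : Submodule K M) : ∃ z : Fin (Module.finrank K (V.map φ)) → M,
      (∀ l, z l ∈ V) ∧ LinearIndependent K (fun l => φ (z l)) := by
  let b := Module.finBasis K (V.map φ)
  choose z hz hz' using fun l => Submodule.mem_map.1 (b l).2
  exact ⟨z, hz, by simp only [hz']; exact b.linearIndependent.map' _ (Submodule.ker_subtype _)⟩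

/-- `z + t N z` over `K[t]`. -/
noncomputable def line (N : E k d K →ₗ[K] E k d K) (z : E k d K) : E k d K[X] :=
  Phi (IsScalarTower.toAlgHom k K K[X]) z + (X : K[X]) • Phi (IsScalarTower.toAlgHom k K K[X]) (N z)

theorem line_zero (N : E k d K →ₗ[K] E k d K) : line N 0 = 0 := by simp [line]

theorem line_add (N : E k d K →ₗ[K] E k d K) (z w : E k d K) : line N (z + w) = line N z + line N w := by
  simp only [line, map_add, smul_add]
  abel

theorem line_smul (N : E k d K →ₗ[K] E k d K) (c : K) (z : E k d K) :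
    line N (c • z) = algebraMap K K[X] c • line N z := by
  have h : ∀ w : E k d K, Phi (IsScalarTower.toAlgHom k K K[X]) (c • w) =
      algebraMap K K[X] c • Phi (IsScalarTower.toAlgHom k K K[X]) w := fun w => Phi_smul _ c w
  rw [line, line, map_smul N, h, h, smul_add, smul_comm]

theorem Phi_id {A : Type u} [CommRing A] [Algebra k A] (z : E k d A) : Phi (AlgHom.id k A) z = z := by
  induction z using TensorProduct.induction_on with
  | zero => simp
  | tmul a v => simp
  | add x y hx hy => simp only [map_add, hx, hy]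

theorem Phi_eq_self {φ : k →ₐ[k] k} (z : E k d k) : Phi φ z = z := by
  obtain rfl : φ = AlgHom.id k k := Subsingleton.elim _ _
  exact Phi_id z

theorem Phi_line {L : Type u} [CommRing L] [Algebra k L] (N : E k d K →ₗ[K] E k d K) (z : E k d K)
    (φ : K[X] →ₐ[k] L) :
    Phi φ (line N z) = Phi (φ.comp (IsScalarTower.toAlgHom k K K[X])) z +
      φ X • Phi (φ.comp (IsScalarTower.toAlgHom k K K[X])) (N z) := by
  rw [line, map_add, Phi_smul, Phi_comp, Phi_comp]

theorem eval_mnr_line {m : ℕ} (L : (Fin d → k) →ₗ[k] (Fin m → k)) (v w : Fin m → E k d K) :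
    (mnr L fun l => Phi (IsScalarTower.toAlgHom k K K[X]) (v l) +
        (X : K[X]) • Phi (IsScalarTower.toAlgHom k K K[X]) (w l)).eval 0 = mnr L v := by
  let ε : K[X] →ₐ[k] K := ((aeval (0 : K)).restrictScalars k : K[X] →ₐ[k] K)
  have hε : ε.comp (IsScalarTower.toAlgHom k K K[X]) = AlgHom.id k K := by ext c; simp [ε]
  rw [show ∀ q : K[X], q.eval 0 = ε q from fun q => by simp [ε, coeff_zero_eq_eval_zero], ← mnr_Phi]
  congr 1
  funext l
  rw [map_add, Phi_smul, Phi_comp, Phi_comp, hε, Phi_id, Phi_id, show ε X = 0 by simp [ε], zero_smul, add_zero]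

theorem exists_semicont {m : ℕ} (v w : Fin m → E k d K) (hv : LinearIndependent K v) :
    ∃ q : K[X], q.eval 0 ≠ 0 ∧ ∀ (L : Type u) [Field L] [Algebra k L] (φ : K[X] →ₐ[k] L), φ q ≠ 0 →
      LinearIndependent L (fun l => Phi (φ.comp (IsScalarTower.toAlgHom k K K[X])) (v l) +
        φ X • Phi (φ.comp (IsScalarTower.toAlgHom k K K[X])) (w l)) := by
  obtain ⟨L, hL⟩ := exists_mnr_ne_zero hv
  refine ⟨mnr L fun l => Phi (IsScalarTower.toAlgHom k K K[X]) (v l) +
    (X : K[X]) • Phi (IsScalarTower.toAlgHom k K K[X]) (w l), by rw [eval_mnr_line]; exact hL,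
    fun L' _ _ φ hφ => linearIndependent_of_mnr (L := L) ?_⟩
  rw [← mnr_Phi] at hφ
  simp only [map_add, Phi_smul, Phi_comp] at hφ
  exact hφ.isUnit

theorem lid_FA (f : Fin n → ((Fin d → k) →ₗ[k] (Fin d → k))) (i : Fin n) (v : E k d k) :
    TensorProduct.lid k _ (FA k f i v) = f i (TensorProduct.lid k _ v) := by
  rw [FA_apply]
  induction v using TensorProduct.induction_on with
  | zero => simp
  | tmul a b => simp
  | add x y hx hy => simp only [map_add, hx, hy]

theorem exists_preimage_of_ker (hI : ∀ i, (g i).comp (f i) = (0 : k) • LinearMap.id)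
    (hII : ∀ i, d ≤ Module.finrank k (LinearMap.range (f i)) + Module.finrank k (LinearMap.range (g i)))
    (i : Fin n) (z : E k d K) (hz : FA K g i z = 0) : ∃ w, FA K f i w = z := by
  have h1 : LinearMap.range (f i) = LinearMap.ker (g i) := by
    refine Submodule.eq_of_le_of_finrank_le ?_ ?_
    · rintro _ ⟨w, rfl⟩
      rw [LinearMap.mem_ker, ← LinearMap.comp_apply, hI]
      simp
    · have := LinearMap.finrank_range_add_finrank_ker (g i)
      have := hII i
      rw [Module.finrank_fin_fun] at *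
      omega
  have hex : Function.Exact ((f i).lTensor K) ((g i).lTensor K) :=
    Module.Flat.lTensor_exact K (LinearMap.exact_iff.2 h1.symm)
  rw [FA_apply] at hz ⊢
  obtain ⟨w, hw⟩ := (hex z).1 hz
  exact ⟨w, hw⟩

theorem FA_disjoint (f : Fin n → ((Fin d → k) →ₗ[k] (Fin d → k))) (i j : Fin n)
    (h : LinearMap.range (f i) ⊓ LinearMap.ker (f j) = ⊥) :
    LinearMap.range (FA K f i) ⊓ LinearMap.ker (FA K f j) = ⊥ := by
  have h1 : LinearMap.ker (f j ∘ₗ f i) = LinearMap.ker (f i) := by
    refine le_antisymm (fun v hv => ?_) (fun v hv => ?_)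
    · rw [LinearMap.mem_ker, ← Submodule.mem_bot k, ← h]
      exact ⟨⟨v, rfl⟩, hv⟩
    · rw [LinearMap.mem_ker, LinearMap.comp_apply, LinearMap.mem_ker.1 hv, map_zero]
  have hex : Function.Exact ((LinearMap.ker (f i)).subtype.lTensor K) ((f j ∘ₗ f i).lTensor K) :=
    Module.Flat.lTensor_exact K (LinearMap.exact_iff.2 (by rw [h1, Submodule.range_subtype]))
  rw [Submodule.eq_bot_iff]
  rintro _ ⟨⟨w, rfl⟩, hz⟩
  rw [SetLike.mem_coe, LinearMap.mem_ker, FA_apply, FA_apply] at hz
  rw [FA_apply]
  obtain ⟨t, ht⟩ := (hex w).1 (by rw [LinearMap.lTensor_comp, LinearMap.comp_apply]; exact hz)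
  show (f i).lTensor K w = 0
  rw [← ht, ← LinearMap.comp_apply, ← LinearMap.lTensor_comp, LinearMap.comp_ker_subtype,
    LinearMap.lTensor_zero, LinearMap.zero_apply]

/-- A basis of a subspace of given dimension. -/
noncomputable def basisOf {M : Type u} [AddCommGroup M] [Module K M] [FiniteDimensional K M] (V : Submodule K M)
    {m : ℕ} (h : Module.finrank K V = m) : Module.Basis (Fin m) K V :=
  Module.finBasisOfFinrankEq K V h

theorem eq_sum_basisOf {M : Type u} [AddCommGroup M] [Module K M] [FiniteDimensional K M] {V : Submodule K M}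
    {m : ℕ} (h : Module.finrank K V = m) {z : M} (hz : z ∈ V) :
    ∃ c : Fin m → K, z = ∑ b, c b • (basisOf V h b : M) := by
  refine ⟨fun b => (basisOf V h).repr ⟨z, hz⟩ b, ?_⟩
  have := congrArg Subtype.val ((basisOf V h).sum_repr ⟨z, hz⟩)
  simp only [Submodule.coe_sum, Submodule.coe_smul] at this
  exact this.symm

theorem span_basisOf {M : Type u} [AddCommGroup M] [Module K M] [FiniteDimensional K M] (V : Submodule K M)
    {m : ℕ} (h : Module.finrank K V = m) :
    Submodule.span K (Set.range fun b => (basisOf V h b : M)) = V := by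
  have := congrArg (Submodule.map V.subtype) (basisOf V h).span_eq
  rwa [Submodule.map_span, ← Set.range_comp, Submodule.map_top, Submodule.range_subtype] at this

theorem linearIndependent_basisOf {M : Type u} [AddCommGroup M] [Module K M] [FiniteDimensional K M]
    (V : Submodule K M) {m : ℕ} (h : Module.finrank K V = m) :
    LinearIndependent K (fun b => (basisOf V h b : M)) :=
  (basisOf V h).linearIndependent.map' V.subtype (Submodule.ker_subtype _)

theorem card_le_finrank {L : Type u} [Field L] {M : Type u} [AddCommGroup M] [Module L M] [FiniteDimensional L M]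
    (V : Submodule L M) {m : ℕ} {v : Fin m → M} (hv : LinearIndependent L v) (hmem : ∀ l, v l ∈ V) :
    m ≤ Module.finrank L V := by
  have h : LinearIndependent L (fun l => (⟨v l, hmem l⟩ : V)) := LinearIndependent.of_comp V.subtype hv
  simpa using h.fintype_card_le_finrank

theorem rk_map_le {L : Type u} [Field L] [Algebra k L] (σ : K →ₐ[k] L)
    (u : Fin (n + 1) → Module.Grassmannian K (E k d K) (d - r)) :
    rk f (fun i => Module.Grassmannian.map σ (u i)) ≤ rk f u := by
  classical
  refine Finset.sum_le_sum fun i _ => ?_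
  let b := basisOf ((mem u i).map (FA K f i)) rfl
  let w : Fin (Module.finrank K ((mem u i).map (FA K f i))) → E k d L := fun l => Phi σ (b l : E k d K)
  have hle : (mem (fun i => Module.Grassmannian.map σ (u i)) i).map (FA L f i) ≤
      Submodule.span L (Set.range w) := by
    rw [Submodule.map_le_iff_le_comap]
    refine (map_le_span σ _).trans (Submodule.span_le.2 ?_)
    rintro _ ⟨z, hz, rfl⟩
    rw [SetLike.mem_coe, Submodule.mem_comap, ← Phi_FA]
    have hz' : FA K f i z ∈ (mem u i).map (FA K f i) := Submodule.mem_map_of_mem hz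
    have h1 : FA K f i z = ∑ l, b.repr ⟨_, hz'⟩ l • (b l : E k d K) := by
      have := congrArg Subtype.val (b.sum_repr ⟨_, hz'⟩)
      simp only [Submodule.coe_sum, Submodule.coe_smul] at this
      exact this.symm
    rw [h1, Phi_linearCombination]
    exact Submodule.sum_mem _ fun l _ => Submodule.smul_mem _ _ (Submodule.subset_span ⟨l, rfl⟩)
  exact (Submodule.finrank_mono hle).trans ((finrank_range_le_card w).trans (Fintype.card_fin _).le)

/-- A first order deformation compatible with the chain integrates to a line of linked tuples. -/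
theorem exists_line_point (hrd : r ≤ d)
    {u : Fin (n + 1) → Module.Grassmannian K (E k d K) (d - r)} (hu : u ∈ LGPoints k d r n f g K)
    (N : ℕ → E k d K →ₗ[K] E k d K)
    (hNF : ∀ i < n, ∀ z ∈ mem u i,
      FA K f i (N i z) - N (i + 1) (FA K f i z) ∈ mem u (i + 1) ⊓ LinearMap.ker (N (i + 1)))
    (hNG : ∀ i < n, ∀ z ∈ mem u (i + 1),
      FA K g i (N (i + 1) z) - N i (FA K g i z) ∈ mem u i ⊓ LinearMap.ker (N i)) :
    ∃ h : K[X], h.eval 0 ≠ 0 ∧ ∃ W ∈ LGPoints k d r n f g (Localization.Away h),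
      (∀ φ : Localization.Away h →ₐ[k] K, (∀ p : K[X], φ (algebraMap K[X] _ p) = p.eval 0) →
        ∀ i, Module.Grassmannian.map φ (W i) = u i) ∧
      (∀ (L : Type u) [Field L] [Algebra k L] (φ : Localization.Away h →ₐ[k] L) (i : Fin (n + 1)),
        N i = 0 → Module.Grassmannian.map φ (W i) = Module.Grassmannian.map
          (φ.comp ((IsScalarTower.toAlgHom k K[X] _).comp (IsScalarTower.toAlgHom k K K[X]))) (u i)) ∧
      ∀ (L : Type u) [Field L] [Algebra k L] (φ : Localization.Away h →ₐ[k] L) (i : Fin (n + 1))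
        (z : E k d K), z ∈ mem u i →
        Phi (φ.comp ((IsScalarTower.toAlgHom k K[X] _).comp (IsScalarTower.toAlgHom k K K[X]))) z +
          φ (algebraMap K[X] _ X) •
            Phi (φ.comp ((IsScalarTower.toAlgHom k K[X] _).comp (IsScalarTower.toAlgHom k K K[X]))) (N i z) ∈
              (Module.Grassmannian.map φ (W i)).toSubmodule := by
  classical
  obtain ⟨hF, hG⟩ := mem_linked hu
  have hdim : ∀ i : Fin (n + 1), Module.finrank K (mem u i) = r := fun i => finrank_eq hrd _
  let bv : Fin (n + 1) → Fin r → E k d K := fun i b => (basisOf (mem u i) (hdim i) b : E k d K)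
  choose Lm hL using fun i : Fin (n + 1) => exists_mnr_ne_zero (linearIndependent_basisOf (mem u i) (hdim i))
  let Mt : Fin (n + 1) → Fin r → E k d K[X] := fun i b => line (N i) (bv i b)
  let h : K[X] := ∏ i, mnr (Lm i) (Mt i)
  have h0 : h.eval 0 ≠ 0 := by
    rw [eval_prod]
    refine Finset.prod_ne_zero_iff.2 fun i _ => ?_
    rw [show Mt i = fun b => _ from rfl]
    simp only [line, eval_mnr_line]
    exact hL i
  let ψ := IsScalarTower.toAlgHom k K[X] (Localization.Away h)
  have hu' : ∀ i, IsUnit (mnr (Lm i) fun b => Phi ψ (Mt i b)) := fun i => by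
    rw [mnr_Phi]
    exact isUnit_of_dvd_unit (map_dvd ψ (show mnr (Lm i) (Mt i) ∣ h from
      Finset.dvd_prod_of_mem (fun i => mnr (Lm i) (Mt i)) (Finset.mem_univ i)))
      (IsLocalization.Away.algebraMap_isUnit h)
  have hline : ∀ (i : Fin (n + 1)) (z : E k d K), z ∈ mem u i →
      Phi ψ (line (N i) z) ∈ (spanPt (hu' i)).toSubmodule := fun i z hz => by
    obtain ⟨c, rfl⟩ := eq_sum_basisOf (hdim i) hz
    clear hz
    induction (Finset.univ : Finset (Fin r)) using Finset.induction_on with
    | empty => rw [Finset.sum_empty, line_zero, map_zero]; exact zero_mem _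
    | insert b t hb ih =>
      rw [Finset.sum_insert hb, line_add, map_add, line_smul, Phi_smul]
      exact add_mem (Submodule.smul_mem _ _ (Submodule.subset_span ⟨b, rfl⟩)) ih
  have hlk : ∀ (φ : Fin n → ((Fin d → k) →ₗ[k] (Fin d → k))) (i : ℕ) (a b : Fin (n + 1)),
      (∀ z ∈ mem u a, FA K φ i z ∈ mem u b) →
      (∀ z ∈ mem u a, FA K φ i (N a z) - N b (FA K φ i z) ∈ mem u b ⊓ LinearMap.ker (N b)) →
      Submodule.map (FA (Localization.Away h) φ i) (spanPt (hu' a)).toSubmodule ≤
        (spanPt (hu' b)).toSubmodule := by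
    intro φ i a b h1 h2
    rw [Submodule.map_le_iff_le_comap]
    refine Submodule.span_le.2 ?_
    rintro _ ⟨c, rfl⟩
    have hz : bv a c ∈ mem u a := (basisOf (mem u a) (hdim a) c).2
    obtain ⟨h3, h4⟩ := h2 _ hz
    have key : FA K[X] φ i (line (N a) (bv a c)) = line (N b) (FA K φ i (bv a c)) +
        (X : K[X]) • line (N b) (FA K φ i (N a (bv a c)) - N b (FA K φ i (bv a c))) := by
      simp only [line, LinearMap.mem_ker.1 h4, map_zero, smul_zero, add_zero, map_add, map_smul, ← Phi_FA,
        map_sub, smul_sub]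
      abel
    simp only [SetLike.mem_coe, Submodule.mem_comap, Mt]
    rw [← Phi_FA, key, map_add, Phi_smul]
    exact add_mem (hline b _ (h1 _ hz)) (Submodule.smul_mem _ _ (hline b _ h3))
  refine ⟨h, h0, fun i => spanPt (hu' i), fun i => ?_, ?_, ?_, ?_⟩
  · rw [← FA_apply, ← FA_apply]
    exact ⟨hlk f i i.castSucc i.succ (fun z hz => hF i i.isLt (Submodule.mem_map_of_mem hz))
      (fun z hz => hNF i i.isLt z hz),
      hlk g i i.succ i.castSucc (fun z hz => hG i i.isLt (Submodule.mem_map_of_mem hz))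
      (fun z hz => hNG i i.isLt z hz)⟩
  · intro φ hφ i
    have hid : (φ.comp ψ).comp (IsScalarTower.toAlgHom k K K[X]) = AlgHom.id k K := by
      ext c; simp [ψ, hφ]
    refine Module.Grassmannian.ext ?_
    rw [map_eq_span φ (spanPt (hu' i)) (fun b => Submodule.subset_span ⟨b, rfl⟩) ((hu' i).map _), ← mem_val,
      ← span_basisOf (mem u i) (hdim i)]
    congr 2
    funext b
    have hX : (φ.comp ψ) X = 0 := by simp [ψ, hφ]
    rw [Phi_comp, Phi_line, hid, Phi_id, Phi_id, hX, zero_smul, add_zero]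
  · intro L _ _ φ i hN
    refine Module.Grassmannian.ext ?_
    rw [map_eq_span φ (spanPt (hu' i)) (fun b => Submodule.subset_span ⟨b, rfl⟩) ((hu' i).map _),
      map_eq_span _ (u i) (fun b => (mem_val u i).le (basisOf (mem u i) (hdim i) b).2) ((hL i).isUnit.map _)]
    congr 2
    funext b
    rw [Phi_comp, Phi_line, hN, LinearMap.zero_apply, map_zero, smul_zero, add_zero]
    rfl
  · intro L _ _ φ i z hz
    have h1 := Phi_mem_map φ (spanPt (hu' i)) (hline i z hz)
    rw [Phi_comp, Phi_line] at h1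
    exact h1

theorem exists_curve (hrd : r ≤ d)
    (hI : ∀ i, (f i).comp (g i) = (0 : k) • LinearMap.id ∧ (g i).comp (f i) = (0 : k) • LinearMap.id)
    (hII : ∀ i, d ≤ Module.finrank k (LinearMap.range (f i)) + Module.finrank k (LinearMap.range (g i)))
    (hIII : ∀ i j : Fin n, i.val + 1 = j.val →
      LinearMap.range (f i) ⊓ LinearMap.ker (f j) = ⊥ ∧ LinearMap.range (g j) ⊓ LinearMap.ker (g i) = ⊥)
    {u : Fin (n + 1) → Module.Grassmannian K (E k d K) (d - r)} (hu : u ∈ LGPoints k d r n f g K)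
    (hex : ¬ IsExact k d r n f g K u) :
    ∃ h : K[X], h.eval 0 ≠ 0 ∧ ∃ W ∈ LGPoints k d r n f g (Localization.Away h), ∃ q : K[X], q ≠ 0 ∧
      (∀ φ : Localization.Away h →ₐ[k] K, (∀ p : K[X], φ (algebraMap K[X] _ p) = p.eval 0) →
        ∀ i, Module.Grassmannian.map φ (W i) = u i) ∧
      ∀ (L : Type u) [Field L] [Algebra k L] (φ : Localization.Away h →ₐ[k] L),
        φ (algebraMap K[X] _ q) ≠ 0 → rk f u < rk f (fun i => Module.Grassmannian.map φ (W i)) ∧
        ∀ i : Fin n, ¬ (LinearMap.ker (FA K g i) ⊓ mem u (i + 1) ≤ (mem u i).map (FA K f i) ∧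
            LinearMap.ker (FA K f i) ⊓ mem u i ≤ (mem u (i + 1)).map (FA K g i)) →
          ∀ l : Fin (n + 1), i.val < l.val → Module.Grassmannian.map φ (W l) = Module.Grassmannian.map
            (φ.comp ((IsScalarTower.toAlgHom k K[X] _).comp (IsScalarTower.toAlgHom k K K[X]))) (u l) := by
  classical
  obtain ⟨hF, hG⟩ := mem_linked hu
  obtain ⟨N, hNF, hNG, ⟨i₀, hi₀, x, hx, hx0, hxN⟩, hNzero⟩ := exists_deform (F := FA K f) (G := FA K g) (V := mem u)
    (n := n) (r := r)
    (fun i hi z => by rw [smul_eq (fun i => (hI i).1) K hi, map_zero, zero_smul])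
    (fun i hi z => by rw [smul_eq (f := g) (g := f) (fun i => (hI i).2) K hi, map_zero, zero_smul])
    (fun i hi z hz => exists_preimage_of_ker (fun i => (hI i).2) hII ⟨i, hi⟩ z hz)
    (fun i hi => FA_disjoint f ⟨i, by omega⟩ ⟨i + 1, hi⟩ (hIII ⟨i, by omega⟩ ⟨i + 1, hi⟩ rfl).1)
    (fun i hi => FA_disjoint g ⟨i + 1, hi⟩ ⟨i, by omega⟩ (hIII ⟨i, by omega⟩ ⟨i + 1, hi⟩ rfl).2)
    hF hG (fun i _ => finrank_eq hrd _) (fun h => hex fun i => by
      have h' := h i i.isLt
      rw [← mem_val, ← mem_val, Fin.val_succ, Fin.val_castSucc, ← FA_apply, ← FA_apply]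
      exact h')
  obtain ⟨h, h0, W, hW, hW0, hWfix, hWmem⟩ := exists_line_point hrd hu N hNF hNG
  choose zw hzw hzwi using fun i => exists_witness (FA K f i) (mem u i)
  choose q hq0 hq using fun i => exists_semicont (fun l => FA K f i (zw i l))
    (fun l => FA K f i (N i (zw i l))) (hzwi i)
  have hnotmem : FA K f i₀ (N i₀ x) ∉ Submodule.span K (Set.range fun l => FA K f i₀ (zw i₀ l)) := by
    refine fun hh => hxN (Submodule.span_le.2 ?_ hh)
    rintro _ ⟨l, rfl⟩
    exact Submodule.mem_map_of_mem (hzw i₀ l)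
  obtain ⟨q', hq'0, hq'⟩ := exists_semicont (Fin.snoc (fun l => FA K f i₀ (zw i₀ l)) (FA K f i₀ (N i₀ x)))
    (Fin.snoc (fun l => FA K f i₀ (N i₀ (zw i₀ l))) 0)
    (linearIndependent_finSnoc.2 ⟨hzwi i₀, hnotmem⟩)
  refine ⟨h, h0, W, hW, X * q' * ∏ i ∈ Finset.range n, q i, ?_, hW0, fun L _ _ φ hφ => ?_⟩
  · refine mul_ne_zero (mul_ne_zero X_ne_zero fun hh => hq'0 (by rw [hh, eval_zero])) ?_
    exact Finset.prod_ne_zero_iff.2 fun i _ hh => hq0 i (by rw [hh, eval_zero])
  · let ψ := IsScalarTower.toAlgHom k K[X] (Localization.Away h)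
    let χ := φ.comp ψ
    let σ := χ.comp (IsScalarTower.toAlgHom k K K[X])
    rw [show φ (algebraMap K[X] _ (X * q' * ∏ i ∈ Finset.range n, q i)) =
        χ X * χ q' * ∏ i ∈ Finset.range n, χ (q i) by
      rw [← map_prod, ← map_mul, ← map_mul]; rfl, mul_ne_zero_iff, mul_ne_zero_iff] at hφ
    obtain ⟨⟨ha0, hqa'⟩, hqa⟩ := hφ
    have hmem : ∀ (i : ℕ) (z : E k d K), i ≤ n → z ∈ mem u i →
        Phi σ (FA K f i z) + χ X • Phi σ (FA K f i (N i z)) ∈
          (mem (fun i => Module.Grassmannian.map φ (W i)) i).map (FA L f i) := by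
      intro i z hi hz
      refine ⟨Phi σ z + χ X • Phi σ (N i z), ?_, by rw [map_add, map_smul, Phi_FA, Phi_FA]⟩
      have h1 := hWmem L φ ⟨i, Nat.lt_succ_of_le hi⟩ z hz
      rw [← mem_val (fun i => Module.Grassmannian.map φ (W i)) ⟨i, Nat.lt_succ_of_le hi⟩] at h1
      exact h1
    refine ⟨?_, fun i hi l hl => hWfix L φ l (hNzero i i.isLt hi l hl)⟩
    refine Finset.sum_lt_sum (fun i hi => ?_) ⟨i₀, Finset.mem_range.2 hi₀, ?_⟩
    · exact card_le_finrank _ (hq i L χ (Finset.prod_ne_zero_iff.1 hqa i hi))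
        (fun l => hmem i _ (Finset.mem_range.1 hi).le (hzw i l))
    · refine Nat.lt_of_succ_le (card_le_finrank _ (hq' L χ hqa') fun l => ?_)
      induction l using Fin.lastCases with
      | last =>
        simp only [Fin.snoc_last, map_zero, smul_zero, add_zero]
        have h2 := hmem i₀ x hi₀.le hx
        rw [hx0, map_zero, zero_add] at h2
        have h3 := Submodule.smul_mem _ (χ X)⁻¹ h2
        rw [inv_smul_smul₀ ha0] at h3
        exact h3
      | cast l =>
        simp only [Fin.snoc_castSucc]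
        exact hmem i₀ _ hi₀.le (hzw i₀ l)

end Groth.Agent.Lib.LinkGr
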