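import Groth.Agent.Lib.LinkGr.Smooth
import Groth.Agent.Lib.LinkGr.Curve
import Mathlib.RingTheory.Jacobson.Ring
import Mathlib.FieldTheory.IsAlgClosed.Basic

/-!
# The exact locus of a linked Grassmannian is open and dense
-/

open AlgebraicGeometry CategoryTheory W4c1limliniiii

universe u

namespace Groth.Agent.Lib.LinkGr

variable {k : Type u} [Field k] {d r n : ℕ} {f g : Fin n → ((Fin d → k) →ₗ[k] (Fin d → k))}
  {X : Over (Spec (CommRingCat.of k))}
  (e : ∀ A : CommAlgCat.{u} k,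
    (Over.mk (Spec.map (CommRingCat.ofHom (algebraMap k A))) ⟶ X) ≃ LGPoints k d r n f g A)
  (he : ∀ (A B : CommAlgCat.{u} k) (φ : A ⟶ B)
      (x : Over.mk (Spec.map (CommRingCat.ofHom (algebraMap k A))) ⟶ X)
      (x' : Over.mk (Spec.map (CommRingCat.ofHom (algebraMap k B))) ⟶ X),
      x'.left = Spec.map (CommRingCat.ofHom φ.hom.toRingHom) ≫ x.left →
        ∀ i, (e B x').1 i = Module.Grassmannian.map φ.hom ((e A x).1 i))

theorem exists_algHom_of_range {U : X.left.Opens} (hU : IsAffineOpen U) [Algebra k Γ(X.left, U)]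
    (hj : hU.fromSpec ≫ X.hom = str k Γ(X.left, U)) (x : Spec (CommRingCat.of k) ⟶ X.left)
    (hx : x ≫ X.hom = str k k) (q : Spec (CommRingCat.of k)) (hq : x q ∈ U) :
    ∃ φ : Γ(X.left, U) →ₐ[k] k, x = Spec.map (CommRingCat.ofHom φ.toRingHom) ≫ hU.fromSpec ∧
      ∀ b, x q ∈ hU.fromSpec ''ᵁ PrimeSpectrum.basicOpen b ↔ φ b ≠ 0 := by
  have : IsOpenImmersion hU.fromSpec := hU.isOpenImmersion_fromSpec
  have hrange : Set.range x ⊆ Set.range hU.fromSpec := by
    rintro _ ⟨q', rfl⟩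
    rw [hU.range_fromSpec, Subsingleton.elim q' q]
    exact hq
  let θ := Spec.preimage (IsOpenImmersion.lift hU.fromSpec x hrange)
  have hθ : Spec.map θ ≫ hU.fromSpec = x := by rw [Spec.map_preimage]; exact IsOpenImmersion.lift_fac ..
  have hk : CommRingCat.ofHom (algebraMap k Γ(X.left, U)) ≫ θ = CommRingCat.ofHom (algebraMap k k) :=
    Spec.map_injective (by
      rw [Spec.map_comp]
      show Spec.map θ ≫ str k _ = str k k
      rw [← hj, ← Category.assoc, hθ, hx])
  let φ : Γ(X.left, U) →ₐ[k] k := { θ.hom with commutes' := fun c => congrArg (fun h => h.hom c) hk }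
  refine ⟨φ, hθ.symm, fun b => ?_⟩
  have hq' : q.asIdeal = ⊥ := (Ideal.eq_bot_or_top q.asIdeal).resolve_right q.isPrime.ne_top
  have hxq : x q = hU.fromSpec (Spec.map θ q) := by rw [← hθ]; rfl
  constructor
  · rintro ⟨y, hy, hy'⟩ hb
    obtain rfl : y = Spec.map θ q := hU.fromSpec.isOpenEmbedding.injective (hy'.trans hxq)
    refine hy ?_
    show θ.hom b ∈ q.asIdeal
    rw [hq']
    exact hb
  · intro hb
    refine ⟨Spec.map θ q, fun h => hb ?_, hxq.symm⟩
    have h' : θ.hom b ∈ q.asIdeal := h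
    rw [hq'] at h'
    exact h'

/-- The opens on which some family of sections is a frame. -/
def exactLocus : Set X.left :=
  {pt | ∃ (U : X.left.Opens) (hU : IsAffineOpen U),
    letI := (Spec.preimage (hU.fromSpec ≫ X.hom)).hom.toAlgebra
    ∃ (j : Fin r → ℕ) (c : Fin r → E k d Γ(X.left, U))
      (L : Fin (n + 1) → ((Fin d → k) →ₗ[k] (Fin r → k)))
      (hj : hU.fromSpec ≫ X.hom = str k Γ(X.left, U)),
      (∀ l, j l ≤ n ∧ c l ∈ mem (tuple e hU.fromSpec hj).1 (j l)) ∧
        pt ∈ hU.fromSpec ''ᵁ PrimeSpectrum.basicOpen (∏ i : Fin (n + 1), mnr (L i) (frame f g j c i))}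

theorem isOpen_exactLocus : IsOpen (exactLocus e) := by
  rw [isOpen_iff_forall_mem_open]
  rintro pt ⟨U, hU, j, c, L, hj, hc, hpt⟩
  exact ⟨_, fun y hy => ⟨U, hU, j, c, L, hj, hc, hy⟩, TopologicalSpace.Opens.isOpen _, hpt⟩

include he in
theorem mem_exactLocus_iff {s : k} (hrd : r ≤ d)
    (hI : ∀ i, (f i).comp (g i) = s • LinearMap.id ∧ (g i).comp (f i) = s • LinearMap.id)
    (hIII : ∀ i j : Fin n, i.val + 1 = j.val → LinearMap.range (f i) ⊓ LinearMap.ker (f j) = ⊥)
    (x : Spec (CommRingCat.of k) ⟶ X.left) (hx : x ≫ X.hom = str k k) (q : Spec (CommRingCat.of k)) :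
    x q ∈ exactLocus e ↔ IsExact k d r n f g k (tuple e x hx).1 := by
  classical
  constructor
  · rintro ⟨U, hU, j, c, L, hj, hc, hpt⟩
    let : Algebra k Γ(X.left, U) := (Spec.preimage (hU.fromSpec ≫ X.hom)).hom.toAlgebra
    obtain ⟨φ, hφ, hφ'⟩ := exists_algHom_of_range hU hj x hx q (by
      obtain ⟨y, -, hy⟩ := hpt
      rw [← hy]
      exact hU.range_fromSpec.le ⟨y, rfl⟩)
    have hne := (hφ' _).1 hpt
    rw [map_prod, Finset.prod_ne_zero_iff] at hne
    refine exact_of_frame hI (tuple e x hx).2 j (fun l => Phi φ (c l)) (fun l => ⟨(hc l).1, ?_⟩)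
      fun i hi => ⟨L ⟨i, by omega⟩, ?_⟩
    · rw [mem, tuple_map e he φ hU.fromSpec hj x hx hφ]
      exact Phi_mem_map φ _ (hc l).2
    · have h := hne ⟨i, by omega⟩ (Finset.mem_univ _)
      rw [← mnr_Phi] at h
      convert h using 2
      funext l
      rw [Phi_frame]
  · intro hex
    obtain ⟨_, ⟨U, hU, rfl⟩, hpU, -⟩ :=
      X.left.isBasis_affineOpens.exists_subset_of_mem_open (Set.mem_univ (x q)) isOpen_univ
    have hU : IsAffineOpen U := hU
    let : Algebra k Γ(X.left, U) := (Spec.preimage (hU.fromSpec ≫ X.hom)).hom.toAlgebra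
    have hj : hU.fromSpec ≫ X.hom = str k Γ(X.left, U) := (Spec.map_preimage _).symm
    obtain ⟨φ, hφ, hφ'⟩ := exists_algHom_of_range hU hj x hx q hpU
    obtain ⟨j, c, hjc, hL⟩ := exists_frame_exact hrd hI hIII (tuple e x hx).2 hex
    have hsurj : Function.Surjective φ := fun a => ⟨algebraMap k _ a, by simp⟩
    have hlift : ∀ l, ∃ w ∈ mem (tuple e hU.fromSpec hj).1 (j l), Phi φ w = c l := fun l => by
      have h := (hjc l).2
      rw [mem] at h ⊢
      rw [tuple_map e he φ hU.fromSpec hj x hx hφ] at h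
      exact exists_mem_Phi_eq φ hsurj _ h
    choose cB hcB hcB' using hlift
    choose L hL using fun i : Fin (n + 1) => hL i (Nat.le_of_lt_succ i.isLt)
    refine ⟨U, hU, j, cB, L, hj, fun l => ⟨(hjc l).1, hcB l⟩, (hφ' _).2 ?_⟩
    rw [map_prod]
    refine Finset.prod_ne_zero_iff.2 fun i _ => ?_
    rw [← mnr_Phi]
    convert hL i using 2
    funext l
    rw [Phi_frame]
    simp only [hcB']

include he in
theorem exists_rational (hrd : r ≤ d) [IsAlgClosed k] {O : Set X.left} (hO : IsOpen O) (hne : O.Nonempty) :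
    ∃ x : Spec (CommRingCat.of k) ⟶ X.left, x ≫ X.hom = str k k ∧ ∀ q, x q ∈ O := by
  obtain ⟨pt, hpt⟩ := hne
  obtain ⟨_, ⟨U, hU, rfl⟩, hpU, hUO⟩ := X.left.isBasis_affineOpens.exists_subset_of_mem_open hpt hO
  have hU : IsAffineOpen U := hU
  let : Algebra k Γ(X.left, U) := (Spec.preimage (hU.fromSpec ≫ X.hom)).hom.toAlgebra
  have hj : hU.fromSpec ≫ X.hom = str k Γ(X.left, U) := (Spec.map_preimage _).symm
  have : IsOpenImmersion hU.fromSpec := hU.isOpenImmersion_fromSpec
  have := locallyOfFiniteType e he hrd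
  have hft : LocallyOfFiniteType (str k Γ(X.left, U)) := by rw [← hj]; infer_instance
  have : Algebra.FiniteType k Γ(X.left, U) :=
    RingHom.finiteType_algebraMap.1 ((HasRingHomProperty.Spec_iff (P := @LocallyOfFiniteType)).1 hft)
  have : Nontrivial Γ(X.left, U) := (hU.primeIdealOf ⟨pt, hpU⟩).nontrivial
  obtain ⟨m, hm⟩ := Ideal.exists_maximal Γ(X.left, U)
  let := Ideal.Quotient.field m
  have : Algebra.FiniteType k (Γ(X.left, U) ⧸ m) :=
    .of_surjective (Ideal.Quotient.mkₐ k m) Ideal.Quotient.mk_surjective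
  have : Module.Finite k (Γ(X.left, U) ⧸ m) := finite_of_finite_type_of_isJacobsonRing k _
  let π : Γ(X.left, U) →ₐ[k] k :=
    (AlgEquiv.ofBijective (Algebra.ofId k (Γ(X.left, U) ⧸ m))
      IsAlgClosed.algebraMap_bijective_of_isIntegral).symm.toAlgHom.comp (Ideal.Quotient.mkₐ k m)
  refine ⟨Spec.map (CommRingCat.ofHom π.toRingHom) ≫ hU.fromSpec, ?_, fun q => hUO ?_⟩
  · rw [Category.assoc, hj]; exact str_comp π
  · exact hU.range_fromSpec.le ⟨Spec.map (CommRingCat.ofHom π.toRingHom) q, rfl⟩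

include he in
theorem dense_exactLocus (hrd : r ≤ d) [IsAlgClosed k] {s : k}
    (hI : ∀ i, (f i).comp (g i) = s • LinearMap.id ∧ (g i).comp (f i) = s • LinearMap.id)
    (hII : ∀ i, d ≤ Module.finrank k (LinearMap.range (f i)) + Module.finrank k (LinearMap.range (g i)))
    (hIII : ∀ i j : Fin n, i.val + 1 = j.val →
      LinearMap.range (f i) ⊓ LinearMap.ker (f j) = ⊥ ∧ LinearMap.range (g j) ⊓ LinearMap.ker (g i) = ⊥) :
    Dense (exactLocus e) := by
  classical
  rw [dense_iff_inter_open]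
  intro O hO hne
  let P : ℕ → Prop := fun m => ∃ (x : Spec (CommRingCat.of k) ⟶ X.left) (hx : x ≫ X.hom = str k k),
    (∀ q, x q ∈ O) ∧ m ≤ rk f (tuple e x hx).1
  obtain ⟨x₀, hx₀, hx₀O⟩ := exists_rational e he hrd hO hne
  let m := Nat.findGreatest P (n * r)
  obtain ⟨x, hx, hxO, hxm⟩ : P m :=
    Nat.findGreatest_spec (Nat.zero_le _) ⟨x₀, hx₀, hx₀O, Nat.zero_le _⟩
  by_cases hex : IsExact k d r n f g k (tuple e x hx).1
  · have q : Spec (CommRingCat.of k) := ⟨⊥, Ideal.isPrime_bot⟩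
    exact ⟨x q, hxO q, (mem_exactLocus_iff e he hrd hI (fun i j h => (hIII i j h).1) x hx q).2 hex⟩
  exfalso
  obtain ⟨hF, hG⟩ := mem_linked (tuple e x hx).2
  have hs : s = 0 := by
    by_contra hs
    refine hex fun i => ?_
    rw [← mem_val, ← mem_val, Fin.val_succ, Fin.val_castSucc, ← FA_apply, ← FA_apply]
    constructor
    · rintro z ⟨hz, -⟩
      have h := smul_eq (fun i => (hI i).1) k i.isLt z
      rw [LinearMap.mem_ker.1 hz, map_zero, eq_comm, smul_eq_zero, or_iff_right (by simpa using hs)] at h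
      rw [h]; exact zero_mem _
    · rintro z ⟨hz, -⟩
      have h := smul_eq (f := g) (g := f) (fun i => (hI i).2) k i.isLt z
      rw [LinearMap.mem_ker.1 hz, map_zero, eq_comm, smul_eq_zero, or_iff_right (by simpa using hs)] at h
      rw [h]; exact zero_mem _
  subst hs
  obtain ⟨h, h0, W, hW, q, hq, hW0, hWrk⟩ := exists_curve hrd hI hII hIII (tuple e x hx).2 hex
  obtain ⟨y, hy, hy'⟩ := exists_tuple e (⟨W, hW⟩ : LGPoints k d r n f g (Localization.Away h))
  let ev : ∀ a : k, h.eval a ≠ 0 → (Localization.Away h →ₐ[k] k) := fun a ha =>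
    IsLocalization.liftAlgHom (M := Submonoid.powers h) (f := Polynomial.aeval a) (by
      rintro ⟨_, m, rfl⟩
      simpa using (pow_ne_zero m ha).isUnit)
  have hev : ∀ a ha p, ev a ha (algebraMap (Polynomial k) _ p) = p.eval a := fun a ha p => by
    rw [IsLocalization.liftAlgHom_apply, IsLocalization.lift_eq]
    simp
  have h00 : ∀ i, Module.Grassmannian.map (ev 0 h0) (W i) = (tuple e x hx).1 i :=
    hW0 _ (fun p => hev 0 h0 p)
  have hy0 : Spec.map (CommRingCat.ofHom (ev 0 h0).toRingHom) ≫ y = x := by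
    have h1 : (Spec.map (CommRingCat.ofHom (ev 0 h0).toRingHom) ≫ y) ≫ X.hom = str k k := by
      rw [Category.assoc, hy]; exact str_comp _
    refine tuple_injective e (h := h1) (h' := hx) fun i => ?_
    rw [tuple_map e he (ev 0 h0) y hy _ h1 rfl i, hy']
    exact h00 i
  let q0 : PrimeSpectrum k := ⟨⊥, Ideal.isPrime_bot⟩
  have hp0 : (PrimeSpectrum.comap (ev 0 h0).toRingHom q0 : PrimeSpectrum (Localization.Away h)) ∈
      (y ⁻¹' O : Set _) := by
    have h1 := hxO q0
    rw [← hy0] at h1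
    exact h1
  obtain ⟨_, ⟨b, rfl⟩, hb, hbO⟩ := PrimeSpectrum.isTopologicalBasis_basic_opens.exists_subset_of_mem_open
    hp0 (hO.preimage y.continuous)
  obtain ⟨⟨p, _, m', rfl⟩, hp⟩ := IsLocalization.surj (Submonoid.powers h) b
  have hevp : ∀ a ha, p.eval a = ev a ha b * h.eval a ^ m' := fun a ha => by
    rw [← hev a ha p, ← hp, map_mul, hev a ha, Polynomial.eval_pow]
  have hp0' : p.eval 0 ≠ 0 := by
    rw [hevp 0 h0]
    exact mul_ne_zero (fun hh => hb (show ev 0 h0 b ∈ (⊥ : Ideal k) from hh)) (pow_ne_zero _ h0)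
  obtain ⟨a, ha⟩ : ∃ a : k, (h * p * q).eval a ≠ 0 := by
    by_contra! hall
    have h1 : h * p * q = 0 := Polynomial.zero_of_eval_zero _ hall
    rcases mul_eq_zero.1 h1 with h2 | h2
    · rcases mul_eq_zero.1 h2 with h3 | h3
      · exact h0 (by rw [h3, Polynomial.eval_zero])
      · exact hp0' (by rw [h3, Polynomial.eval_zero])
    · exact hq h2
  simp only [Polynomial.eval_mul, mul_ne_zero_iff] at ha
  obtain ⟨⟨ha, hap⟩, haq⟩ := ha
  let xa := Spec.map (CommRingCat.ofHom (ev a ha).toRingHom) ≫ y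
  have hxa : xa ≫ X.hom = str k k := by rw [Category.assoc, hy]; exact str_comp _
  have hxaO : ∀ q', xa q' ∈ O := fun q' => by
    obtain rfl : q' = q0 := Subsingleton.elim _ _
    refine hbO ?_
    show ev a ha b ∉ (⊥ : Ideal k)
    rw [Ideal.mem_bot]
    intro hh
    exact hap (by rw [hevp a ha, hh, zero_mul])
  have hlt : m < rk f (tuple e xa hxa).1 := by
    refine lt_of_le_of_lt hxm (lt_of_lt_of_le (hWrk k (ev a ha) (by rw [hev a ha]; exact haq)).1 (le_of_eq ?_))
    congr 1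
    funext i
    rw [tuple_map e he (ev a ha) y hy xa hxa rfl i, hy']
  have hle := rk_le (f := f) hrd (tuple e xa hxa).1
  exact absurd (Nat.le_findGreatest (P := P) hle ⟨xa, hxa, hxaO, le_rfl⟩) (not_le.2 hlt)

end Groth.Agent.Lib.LinkGr
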