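import Groth.Agent.Lib.LinkGr.BaseChange
import Mathlib.RingTheory.Valuation.LocalSubring
import Mathlib.RingTheory.Flat.TorsionFree
import Mathlib.RingTheory.LocalRing.Module

/-!
# Components of the linked Grassmannian over a domain

Every component is the closure of the image of the generic matrix of a frame, so it dominates the
base; by extension of tuples over valuation rings it surjects onto it.
-/

open AlgebraicGeometry CategoryTheory TensorProduct W4c1limliniiii

universe u

namespace Groth.Agent.Lib.LinkGr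

variable {R : Type u} [CommRing R] {d r n : ℕ} {f g : Fin n → ((Fin d → R) →ₗ[R] (Fin d → R))} {s : R}
  {X : Over (Spec (CommRingCat.of R))}
  (e : ∀ A : CommAlgCat.{u} R,
    (Over.mk (Spec.map (CommRingCat.ofHom (algebraMap R A))) ⟶ X) ≃ LGPoints R d r n f g A)
  (he : ∀ (A B : CommAlgCat.{u} R) (φ : A ⟶ B)
      (x : Over.mk (Spec.map (CommRingCat.ofHom (algebraMap R A))) ⟶ X)
      (x' : Over.mk (Spec.map (CommRingCat.ofHom (algebraMap R B))) ⟶ X),
      x'.left = Spec.map (CommRingCat.ofHom φ.hom.toRingHom) ≫ x.left →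
        ∀ i, (e B x').1 i = Module.Grassmannian.map φ.hom ((e A x).1 i))

theorem exists_frame_of_exact (hrd : r ≤ d)
    (hI : ∀ i, (f i).comp (g i) = s • LinearMap.id ∧ (g i).comp (f i) = s • LinearMap.id)
    {K : Type u} [Field K] [Algebra R K]
    (hdisj : ∀ i j : Fin n, i.val + 1 = j.val →
      LinearMap.range ((f i).baseChange K) ⊓ LinearMap.ker ((f j).baseChange K) = ⊥)
    {u : Fin (n + 1) → Module.Grassmannian K (E R d K) (d - r)} (hu : u ∈ LGPoints R d r n f g K)
    (hex : IsExact R d r n f g K u) :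
    ∃ (j : Fin r → ℕ) (c : Fin r → E R d K), (∀ l, j l ≤ n ∧ c l ∈ mem u (j l)) ∧
      ∀ i ≤ n, LinearIndependent K (frame f g j c i) := by
  obtain ⟨hF, hG⟩ := mem_linked hu
  exact exists_frame (F := FA K f) (G := FA K g) (V := mem u) (n := n) (r := r)
    (fun i hi => smul_eq (fun i => (hI i).1) K hi)
    (fun i hi => smul_eq (f := g) (g := f) (fun i => (hI i).2) K hi) hF hG (fun i _ => finrank_eq hrd _)
    (fun i hi => by
      have h := (hex ⟨i, hi⟩).2
      rw [← mem_val, ← mem_val, ← FA_apply, ← FA_apply] at h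
      exact h) (fun i hi => by
      have h := hdisj ⟨i, by omega⟩ ⟨i + 1, hi⟩ rfl
      rw [← FA_apply, ← FA_apply] at h
      exact h)

/-- The generic vectors. -/
noncomputable def genVec (R : Type u) [CommRing R] (d r : ℕ) (b : Fin r) :
    E R d (MvPolynomial (Fin r × Fin d) R) :=
  (TensorProduct.piScalarRight R (MvPolynomial (Fin r × Fin d) R) (MvPolynomial (Fin r × Fin d) R) (Fin d)).symm
    fun a => MvPolynomial.X (b, a)

theorem piScalarRight_Phi {A B : Type u} [CommRing A] [Algebra R A] [CommRing B] [Algebra R B] (φ : A →ₐ[R] B)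
    (z : E R d A) (t : Fin d) :
    TensorProduct.piScalarRight R B B (Fin d) (Phi φ z) t =
      φ (TensorProduct.piScalarRight R A A (Fin d) z t) := by
  induction z using TensorProduct.induction_on with
  | zero => simp
  | tmul a v => simp
  | add x y hx hy => simp only [map_add, Pi.add_apply, hx, hy]

theorem Phi_genVec {K : Type u} [CommRing K] [Algebra R K] (c : Fin r → E R d K) (b : Fin r) :
    Phi (MvPolynomial.aeval (R := R) fun p : Fin r × Fin d => TensorProduct.piScalarRight R K K (Fin d) (c p.1) p.2)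
      (genVec R d r b) = c b := by
  refine (TensorProduct.piScalarRight R K K (Fin d)).injective (funext fun t => ?_)
  rw [piScalarRight_Phi, genVec, LinearEquiv.apply_symm_apply, MvPolynomial.aeval_X]

variable [IsDomain R]

/-- The field of the generic matrix. -/
abbrev GenField (R : Type u) [CommRing R] [IsDomain R] (d r : ℕ) : Type u :=
  FractionRing (MvPolynomial (Fin r × Fin d) R)

variable (f g) in
/-- The frame of the generic matrix. -/
noncomputable def genFrame (j : Fin r → ℕ) (i : ℕ) : Fin r → E R d (GenField R d r) :=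
  frame f g j (fun b => Phi (IsScalarTower.toAlgHom R _ (GenField R d r)) (genVec R d r b)) i

include he in
theorem exists_generic_frame
    (hI : ∀ i, (f i).comp (g i) = s • LinearMap.id ∧ (g i).comp (f i) = s • LinearMap.id)
    {K : Type u} [Field K] [Algebra R K] (z : Spec (CommRingCat.of K) ⟶ X.left) (hz : z ≫ X.hom = str R K)
    (j : Fin r → ℕ) (c : Fin r → E R d K) (hjc : ∀ l, j l ≤ n ∧ c l ∈ mem (tuple e z hz).1 (j l))
    (hli : ∀ i ≤ n, LinearIndependent K (frame f g j c i)) (q : Spec (CommRingCat.of K)) :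
    ∃ (z₀ : Spec (CommRingCat.of (GenField R d r)) ⟶ X.left) (hz₀ : z₀ ≫ X.hom = str R (GenField R d r)),
      (∀ q₀, z₀ q₀ ⤳ z q) ∧ ∀ i : Fin (n + 1),
        ((tuple e z₀ hz₀).1 i).toSubmodule = Submodule.span _ (Set.range (genFrame f g j i)) := by
  classical
  choose L hL using fun i : Fin (n + 1) => exists_mnr_ne_zero (hli i (Nat.le_of_lt_succ i.isLt))
  let h := ∏ i : Fin (n + 1), mnr (L i) (frame f g j (genVec R d r) i)
  let φ : MvPolynomial (Fin r × Fin d) R →ₐ[R] K :=
    MvPolynomial.aeval (R := R) fun p => TensorProduct.piScalarRight R K K (Fin d) (c p.1) p.2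
  have hφ : φ h ≠ 0 := by
    rw [map_prod]
    refine Finset.prod_ne_zero_iff.2 fun i _ => ?_
    rw [← mnr_Phi]
    convert hL i using 2
    funext l
    rw [Phi_frame]
    simp only [φ, Phi_genVec]
  let ι := IsScalarTower.toAlgHom R (MvPolynomial (Fin r × Fin d) R) (Localization.Away h)
  have hu : ∀ i : Fin (n + 1), IsUnit (mnr (L i) (frame f g j (fun b => Phi ι (genVec R d r b)) i)) := fun i => by
    have h1 : IsUnit (ι (mnr (L i) (frame f g j (genVec R d r) i))) :=
      isUnit_of_dvd_unit (map_dvd ι (Finset.dvd_prod_of_mem (fun i : Fin (n + 1) =>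
        mnr (L i) (frame f g j (genVec R d r) i)) (Finset.mem_univ i)))
        (IsLocalization.Away.algebraMap_isUnit h)
    rw [← mnr_Phi] at h1
    convert h1 using 2
    funext l
    rw [Phi_frame]
  obtain ⟨y, hy, hy'⟩ := exists_tuple e (⟨_, spanPt_frame_mem hI j _ hu⟩ : LGPoints R d r n f g _)
  let φ' : Localization.Away h →ₐ[R] K := IsLocalization.liftAlgHom (M := Submonoid.powers h) (f := φ) (by
    rintro ⟨_, m, rfl⟩
    rw [map_pow]
    exact (IsUnit.mk0 _ hφ).pow m)
  have hφ' : ∀ p, φ' (ι p) = φ p := fun p => by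
    rw [IsLocalization.liftAlgHom_apply]; exact IsLocalization.lift_eq _ _
  have hzy : Spec.map (CommRingCat.ofHom φ'.toRingHom) ≫ y = z := by
    have h1 : (Spec.map (CommRingCat.ofHom φ'.toRingHom) ≫ y) ≫ X.hom = str R K := by
      rw [Category.assoc, hy]; exact str_comp _
    refine tuple_injective e (h := h1) (h' := hz) fun i => Module.Grassmannian.ext ?_
    rw [tuple_map e he φ' y hy _ h1 rfl i, hy',
      map_eq_span φ' (spanPt (hu i)) (fun b => Submodule.subset_span ⟨b, rfl⟩) ((hu i).map φ'),
      eq_span ((tuple e z hz).1 i) (fun b => ?_) (hL i).isUnit]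
    · congr 2
      funext b
      rw [Phi_frame]
      simp only [Phi_comp, AlgHom.ext hφ' (φ₁ := φ'.comp ι) (φ₂ := φ), φ, Phi_genVec]
    · rw [← mem_val]
      exact tr_mem (mem_linked (tuple e z hz).2).1 (mem_linked (tuple e z hz).2).2 (hjc b).1
        (Nat.le_of_lt_succ i.isLt) (hjc b).2
  have hh : h ≠ 0 := fun hh => hφ (by rw [hh, map_zero])
  let ψ : Localization.Away h →ₐ[R] GenField R d r := IsLocalization.liftAlgHom (M := Submonoid.powers h)
    (f := IsScalarTower.toAlgHom R _ (GenField R d r)) (by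
    rintro ⟨_, m, rfl⟩
    rw [map_pow]
    exact (IsUnit.mk0 _ (fun h0 => hh (IsFractionRing.injective _ _ (h0.trans (map_zero _).symm)))).pow m)
  have hψ : ∀ p, ψ (ι p) = algebraMap _ _ p := fun p => by
    rw [IsLocalization.liftAlgHom_apply]; exact IsLocalization.lift_eq _ _
  have hz₀ : (Spec.map (CommRingCat.ofHom ψ.toRingHom) ≫ y) ≫ X.hom = str R (GenField R d r) := by
    rw [Category.assoc, hy]; exact str_comp _
  refine ⟨_, hz₀, fun q₀ => ?_, fun i => ?_⟩
  · have hs : Spec.map (CommRingCat.ofHom ψ.toRingHom) q₀ ⤳ Spec.map (CommRingCat.ofHom φ'.toRingHom) q := by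
      refine (PrimeSpectrum.le_iff_specializes _ _).1 fun b hb => ?_
      have hb0 : ψ b = 0 := by
        have h0 : q₀.asIdeal = ⊥ := (Ideal.eq_bot_or_top q₀.asIdeal).resolve_right q₀.isPrime.ne_top
        have hb' : ψ b ∈ q₀.asIdeal := hb
        rwa [h0] at hb'
      obtain ⟨⟨p, _, m, rfl⟩, hp⟩ := IsLocalization.surj (Submonoid.powers h) b
      have h1 := congrArg ψ hp
      rw [map_mul, hb0, zero_mul] at h1
      have hp0 : p = 0 := IsFractionRing.injective _ (GenField R d r)
        ((hψ p).symm.trans (h1.symm.trans (map_zero _).symm))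
      have hb2 : b = 0 := ((IsLocalization.map_units (Localization.Away h)
        (⟨h ^ m, m, rfl⟩ : Submonoid.powers h)).mul_left_eq_zero).1 (by rw [hp, hp0, map_zero])
      rw [hb2]
      exact zero_mem _
    have h2 := hs.map y.continuous
    rw [← hzy]
    exact h2
  · rw [tuple_map e he ψ y hy _ hz₀ rfl i, hy',
      map_eq_span ψ (spanPt (hu i)) (fun b => Submodule.subset_span ⟨b, rfl⟩) ((hu i).map ψ)]
    congr 2
    funext b
    rw [Phi_frame, genFrame]
    simp only [Phi_comp, AlgHom.ext hψ (φ₁ := ψ.comp ι) (φ₂ := IsScalarTower.toAlgHom R _ (GenField R d r))]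

include he in
theorem extend_valuationRing (hrd : r ≤ d) {K : Type u} [Field K] [Algebra R K]
    (z : Spec (CommRingCat.of K) ⟶ X.left) (hz : z ≫ X.hom = str R K)
    {V : Type u} [CommRing V] [IsDomain V] [ValuationRing V] [Algebra R V] [Algebra V K] [IsFractionRing V K]
    [IsScalarTower R V K] :
    ∃ (v : Spec (CommRingCat.of V) ⟶ X.left), v ≫ X.hom = str R V ∧
      z = Spec.map (CommRingCat.ofHom (algebraMap V K)) ≫ v := by
  let φ := IsScalarTower.toAlgHom R V K
  let N := (tuple e z hz).1
  let Φ : E R d V →ₗ[V] E R d K :=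
    { Phi φ with map_smul' := fun a x => (Phi_smul φ a x).trans (algebraMap_smul K a _) }
  let NV : Fin (n + 1) → Submodule V (E R d V) := fun i => ((N i).toSubmodule.restrictScalars V).comap Φ
  have hmem : ∀ i x, x ∈ NV i ↔ Phi φ x ∈ (N i).toSubmodule := fun _ _ => Iff.rfl
  let Q : ∀ i, (E R d V ⧸ NV i) →ₗ[V] (E R d K ⧸ (N i).toSubmodule) := fun i =>
    Submodule.liftQ (NV i) (((N i).toSubmodule.mkQ.restrictScalars V).comp Φ)
      (fun x hx => (Submodule.Quotient.mk_eq_zero _).2 ((hmem i x).1 hx))
  have hQ : ∀ i, Function.Injective (Q i) := fun i => by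
    rw [← LinearMap.ker_eq_bot]
    refine Submodule.ker_liftQ_eq_bot _ _ _ fun x hx => ?_
    exact (hmem i x).2 ((Submodule.Quotient.mk_eq_zero _).1 hx)
  have htf : ∀ i, Module.IsTorsionFree V (E R d V ⧸ NV i) := fun i => by
    refine Module.IsTorsionFree.mk fun a ha x y hxy => hQ i ?_
    have h1 : a • Q i x = a • Q i y := by
      rw [← map_smul, ← map_smul]
      exact congrArg (Q i) hxy
    rw [← algebraMap_smul K a (Q i x), ← algebraMap_smul K a (Q i y)] at h1
    exact smul_right_injective _ ((map_ne_zero_iff _ (IsFractionRing.injective V K)).2 ha.ne_zero) h1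
  have hflat : ∀ i, Module.Flat V (E R d V ⧸ NV i) := fun i => by
    have := htf i
    rw [Module.Flat.flat_iff_torsion_eq_bot_of_isBezout, ← Submodule.isTorsionFree_iff_torsion_eq_bot]
    infer_instance
  have hfree : ∀ i, Module.Free V (E R d V ⧸ NV i) := fun i => by
    have := hflat i
    exact Module.free_of_flat_of_isLocalRing
  have hrank : ∀ i, Module.finrank V (E R d V ⧸ NV i) = d - r := fun i => by
    have := hfree i
    let b := Module.Free.chooseBasis V (E R d V ⧸ NV i)
    have hli : LinearIndependent K (Q i ∘ b) :=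
      (LinearIndependent.iff_fractionRing V K).1 (b.linearIndependent.map' (Q i) (LinearMap.ker_eq_bot.2 (hQ i)))
    have hsp : ⊤ ≤ Submodule.span K (Set.range (Q i ∘ b)) := by
      have h1 : ∀ x, Q i x ∈ Submodule.span K (Set.range (Q i ∘ b)) := fun x => by
        rw [← b.sum_repr x, map_sum]
        refine Submodule.sum_mem _ fun l _ => ?_
        rw [map_smul, ← algebraMap_smul K (b.repr x l)]
        exact Submodule.smul_mem _ _ (Submodule.subset_span ⟨l, rfl⟩)
      rintro x -
      obtain ⟨x, rfl⟩ := (N i).toSubmodule.mkQ_surjective x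
      induction x using TensorProduct.induction_on with
      | zero => simp
      | tmul a v =>
        rw [show a ⊗ₜ[R] v = a • ((1 : K) ⊗ₜ[R] v) by rw [smul_tmul', smul_eq_mul, mul_one], map_smul]
        refine Submodule.smul_mem _ _ ?_
        have h2 := h1 ((NV i).mkQ ((1 : V) ⊗ₜ v))
        rw [show Q i ((NV i).mkQ ((1 : V) ⊗ₜ v)) = (N i).toSubmodule.mkQ (Phi φ ((1 : V) ⊗ₜ v)) from rfl,
          Phi_tmul, map_one] at h2
        exact h2
      | add x y hx hy => rw [map_add]; exact add_mem hx hy
    have h3 := (Module.Basis.mk hli hsp)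
    have h4 := Module.finrank_eq_card_basis h3
    rw [Module.finrank_eq_card_chooseBasisIndex, ← h4]
    have h5 := (N i).rankAtStalk_eq ⟨⊥, Ideal.isPrime_bot⟩
    rw [Module.rankAtStalk_eq_finrank_of_free] at h5
    exact h5
  let W : Fin (n + 1) → Module.Grassmannian V (E R d V) (d - r) := fun i =>
    { toSubmodule := NV i
      finite_quotient := inferInstance
      projective_quotient := have := hfree i; inferInstance
      rankAtStalk_eq := fun p => by
        have := hfree i
        rw [Module.rankAtStalk_eq_finrank_of_free]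
        exact hrank i }
  have hW : W ∈ LGPoints R d r n f g V := fun i => by
    constructor <;>
    · rintro _ ⟨x, hx, rfl⟩
      rw [hmem, Phi_baseChange]
      first
        | exact ((tuple e z hz).2 i).1 (Submodule.mem_map_of_mem ((hmem _ x).1 hx))
        | exact ((tuple e z hz).2 i).2 (Submodule.mem_map_of_mem ((hmem _ x).1 hx))
  obtain ⟨v, hv, hv'⟩ := exists_tuple e (⟨W, hW⟩ : LGPoints R d r n f g V)
  have h1 : (Spec.map (CommRingCat.ofHom φ.toRingHom) ≫ v) ≫ X.hom = str R K := by
    rw [Category.assoc, hv]; exact str_comp _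
  refine ⟨v, hv, (tuple_injective e (h := h1) (h' := hz) fun i => Module.Grassmannian.ext ?_).symm⟩
  rw [tuple_map e he φ v hv _ h1 rfl i, hv']
  refine Submodule.eq_of_le_of_finrank_eq ((map_le_span φ _).trans (Submodule.span_le.2 ?_))
    (by rw [finrank_eq hrd, finrank_eq hrd])
  rintro _ ⟨x, hx, rfl⟩
  exact (hmem i x).1 hx

include he in
theorem image_component (hrd : r ≤ d)
    (hI : ∀ i, (f i).comp (g i) = s • LinearMap.id ∧ (g i).comp (f i) = s • LinearMap.id)
    (hII : ∀ (P : Ideal R) [P.IsPrime], ∀ i,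
      d ≤ Module.finrank P.ResidueField (LinearMap.range ((f i).baseChange P.ResidueField)) +
        Module.finrank P.ResidueField (LinearMap.range ((g i).baseChange P.ResidueField)))
    (hIII : ∀ (P : Ideal R) [P.IsPrime], ∀ i j : Fin n, i.val + 1 = j.val →
      LinearMap.range ((f i).baseChange P.ResidueField) ⊓
          LinearMap.ker ((f j).baseChange P.ResidueField) = ⊥ ∧
        LinearMap.range ((g j).baseChange P.ResidueField) ⊓
          LinearMap.ker ((g i).baseChange P.ResidueField) = ⊥)
    {ξ : X.left} (hξ : ∀ η : X.left, η ⤳ ξ → η = ξ) :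
    ∃ (L : Type u) (_ : Field L) (_ : Algebra R L) (z : Spec (CommRingCat.of L) ⟶ X.left)
      (_ : z ≫ X.hom = str R L), (∀ q, z q = ξ) ∧ Function.Injective (algebraMap R L) := by
  obtain ⟨L, _, _, z, hz, hzξ, hex⟩ := exists_exact_point e he hrd hI hII hIII hξ
  obtain ⟨j, c, hjc, hli⟩ := exists_frame_of_exact hrd hI
    (fun i j h => ((hyp_field hII hIII L).2 i j h).1) (tuple e z hz).2 hex
  obtain ⟨z₀, hz₀, hspec, -⟩ := exists_generic_frame e he hI z hz j c hjc hli (IsLocalRing.closedPoint L)
  refine ⟨GenField R d r, inferInstance, inferInstance, z₀, hz₀, fun q => hξ _ ?_, ?_⟩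
  · exact (hspec q).trans (specializes_of_eq (hzξ _))
  · rw [IsScalarTower.algebraMap_eq R (MvPolynomial (Fin r × Fin d) R) (GenField R d r)]
    exact (IsFractionRing.injective (MvPolynomial (Fin r × Fin d) R) (GenField R d r)).comp (MvPolynomial.C_injective _ _)

theorem specializes_generic {Z : Set X.left} {ξ : X.left} (hZ : Z ∈ irreducibleComponents X.left)
    (hξ : IsGenericPoint ξ Z) (η : X.left) (h : η ⤳ ξ) : η = ξ := by
  have h1 : Z ≤ closure ({η} : Set X.left) := by
    rw [← hξ.def]
    exact closure_minimal (Set.singleton_subset_iff.2 (specializes_iff_mem_closure.1 h)) isClosed_closure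
  have h2 := hZ.2 isIrreducible_singleton.closure h1
  exact (show IsGenericPoint η Z from le_antisymm h2 h1).eq hξ

include he in
theorem image_eq_univ (hrd : r ≤ d)
    (hI : ∀ i, (f i).comp (g i) = s • LinearMap.id ∧ (g i).comp (f i) = s • LinearMap.id)
    (hII : ∀ (P : Ideal R) [P.IsPrime], ∀ i,
      d ≤ Module.finrank P.ResidueField (LinearMap.range ((f i).baseChange P.ResidueField)) +
        Module.finrank P.ResidueField (LinearMap.range ((g i).baseChange P.ResidueField)))
    (hIII : ∀ (P : Ideal R) [P.IsPrime], ∀ i j : Fin n, i.val + 1 = j.val →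
      LinearMap.range ((f i).baseChange P.ResidueField) ⊓
          LinearMap.ker ((f j).baseChange P.ResidueField) = ⊥ ∧
        LinearMap.range ((g j).baseChange P.ResidueField) ⊓
          LinearMap.ker ((g i).baseChange P.ResidueField) = ⊥)
    {Z : Set X.left} (hZ : Z ∈ irreducibleComponents X.left) : X.hom.base '' Z = Set.univ := by
  rw [Set.eq_univ_iff_forall]
  intro P
  obtain ⟨ξ, hξ⟩ : ∃ ξ, IsGenericPoint ξ Z :=
    QuasiSober.sober hZ.1 (isClosed_of_mem_irreducibleComponents Z hZ)
  obtain ⟨L, _, _, z, hz, hzξ, hinj⟩ := image_component e he hrd hI hII hIII (specializes_generic hZ hξ)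
  let p : PrimeSpectrum R := P
  let f₀ : Localization.AtPrime p.asIdeal →+* L :=
    IsLocalization.lift (M := p.asIdeal.primeCompl) (g := algebraMap R L) (fun a =>
      IsUnit.mk0 _ fun h => a.2 (by rw [(hinj (h.trans (map_zero _).symm))]; exact zero_mem _))
  obtain ⟨V, hV, hloc⟩ := IsLocalRing.exists_factor_valuationRing f₀
  let j : R →+* V := (f₀.codRestrict V.toSubring hV).comp (algebraMap R _)
  let : Algebra R V := RingHom.toAlgebra (R := R) (S := ↥V) j
  have : IsScalarTower R V L := IsScalarTower.of_algebraMap_eq fun a => (IsLocalization.lift_eq _ a).symm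
  obtain ⟨v, hv, hzv⟩ := extend_valuationRing e he hrd z hz (V := V)
  let qV : Spec (CommRingCat.of V) := IsLocalRing.closedPoint V
  refine ⟨v qV, ?_, ?_⟩
  · have h1 : z (IsLocalRing.closedPoint L) ⤳ v qV := by
      rw [hzv]
      exact ((IsLocalRing.specializes_closedPoint _).map v.continuous)
    rw [← hξ.def]
    exact ((specializes_of_eq (hzξ _).symm).trans h1).mem_closure
  · show (v ≫ X.hom).base qV = P
    rw [hv]
    refine PrimeSpectrum.ext (Ideal.ext fun a => ?_)
    show j a ∈ IsLocalRing.maximalIdeal V ↔ a ∈ p.asIdeal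
    constructor
    · intro ha
      by_contra hna
      exact ha ((IsLocalization.map_units (Localization.AtPrime p.asIdeal)
        (⟨a, hna⟩ : p.asIdeal.primeCompl)).map (f₀.codRestrict V.toSubring hV))
    · intro ha hu
      exact (IsLocalization.AtPrime.isUnit_to_map_iff (Localization.AtPrime p.asIdeal) p.asIdeal a).1
        (hloc.map_nonunit _ hu) ha

theorem linearIndependent_frame_zero {K : Type u} [Field K] [Algebra R K] (hs : algebraMap R K s ≠ 0)
    (hI : ∀ i, (g i).comp (f i) = s • LinearMap.id) (c : Fin r → E R d K) (hc : LinearIndependent K c) :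
    ∀ i ≤ n, LinearIndependent K (frame f g (fun _ => 0) c i) := by
  intro i hi
  induction i with
  | zero =>
    rw [show frame f g (fun _ => 0) c 0 = c from funext fun l => by simp [frame]]
    exact hc
  | succ i ih =>
    have h1 := (ih (by omega)).map' (FA K f i) (LinearMap.ker_eq_bot'.2 fun z hz => by
      have h := smul_eq (f := g) (g := f) hI K (show i < n by omega) z
      rw [hz, map_zero, eq_comm, smul_eq_zero, or_iff_right hs] at h
      exact h)
    rw [show frame f g (fun _ => 0) c (i + 1) = FA K f i ∘ frame f g (fun _ => 0) c i from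
      funext fun l => tr_succ_right _ _ (Nat.zero_le i) _]
    exact h1

include he in
theorem irreducibleSpace (hrd : r ≤ d) (hs : s ≠ 0)
    (hI : ∀ i, (f i).comp (g i) = s • LinearMap.id ∧ (g i).comp (f i) = s • LinearMap.id)
    (hII : ∀ (P : Ideal R) [P.IsPrime], ∀ i,
      d ≤ Module.finrank P.ResidueField (LinearMap.range ((f i).baseChange P.ResidueField)) +
        Module.finrank P.ResidueField (LinearMap.range ((g i).baseChange P.ResidueField)))
    (hIII : ∀ (P : Ideal R) [P.IsPrime], ∀ i j : Fin n, i.val + 1 = j.val →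
      LinearMap.range ((f i).baseChange P.ResidueField) ⊓
          LinearMap.ker ((f j).baseChange P.ResidueField) = ⊥ ∧
        LinearMap.range ((g j).baseChange P.ResidueField) ⊓
          LinearMap.ker ((g i).baseChange P.ResidueField) = ⊥) :
    IrreducibleSpace X.left := by
  classical
  have key : ∀ Z ∈ irreducibleComponents X.left, ∀ ξ : X.left, IsGenericPoint ξ Z →
      ∃ (z₀ : Spec (CommRingCat.of (GenField R d r)) ⟶ X.left) (hz₀ : z₀ ≫ X.hom = str R (GenField R d r)),
      (∀ q₀, z₀ q₀ = ξ) ∧ ∀ i : Fin (n + 1),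
        ((tuple e z₀ hz₀).1 i).toSubmodule = Submodule.span _ (Set.range (genFrame f g (fun _ => 0) i)) := by
    intro Z hZ ξ hξ
    obtain ⟨L, _, _, z, hz, hzξ, hinj⟩ := image_component e he hrd hI hII hIII (specializes_generic hZ hξ)
    have hs' : algebraMap R L s ≠ 0 := fun h => hs (hinj (h.trans (map_zero _).symm))
    let b := basisOf _ (finrank_eq hrd ((tuple e z hz).1 0))
    have hli := linearIndependent_frame_zero (f := f) (g := g) hs' (fun i => (hI i).2)
      (fun l => (b l : E R d L)) (linearIndependent_basisOf _ _)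
    obtain ⟨z₀, hz₀, hspec, heq⟩ := exists_generic_frame e he hI z hz (fun _ => 0) (fun l => (b l : E R d L))
      (fun l => ⟨Nat.zero_le n, by show _ ∈ mem _ ((0 : Fin (n + 1)) : ℕ); rw [mem_val]; exact (b l).2⟩)
      hli (IsLocalRing.closedPoint L)
    exact ⟨z₀, hz₀, fun q₀ => specializes_generic hZ hξ _ ((hspec q₀).trans (specializes_of_eq (hzξ _))), heq⟩
  let K := FractionRing R
  have hs' : algebraMap R K s ≠ 0 := fun h => hs (IsFractionRing.injective R K (h.trans (map_zero _).symm))
  let bs : Module.Basis (Fin d) K (E R d K) := Algebra.TensorProduct.basis K (Pi.basisFun R (Fin d))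
  choose L hL using fun i : Fin (n + 1) => exists_mnr_ne_zero (linearIndependent_frame_zero (f := f) (g := g)
    hs' (fun i => (hI i).2) (fun l : Fin r => bs (Fin.castLE hrd l))
    (bs.linearIndependent.comp _ (Fin.castLE_injective hrd)) i (Nat.le_of_lt_succ i.isLt))
  obtain ⟨y, -, -⟩ := exists_tuple e
    (⟨_, spanPt_frame_mem hI _ _ fun i => (hL i).isUnit⟩ : LGPoints R d r n f g K)
  have : Nonempty X.left := ⟨y (IsLocalRing.closedPoint K)⟩
  obtain ⟨pt⟩ : Nonempty X.left := inferInstance
  have hZ₀ := irreducibleComponent_mem_irreducibleComponents pt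
  have hall : ∀ x : X.left, irreducibleComponent x = irreducibleComponent pt := by
    intro x
    have hZ₁ := irreducibleComponent_mem_irreducibleComponents x
    obtain ⟨ξ₁, hξ₁⟩ : ∃ ξ, IsGenericPoint ξ (irreducibleComponent x) :=
      QuasiSober.sober hZ₁.1 (isClosed_of_mem_irreducibleComponents _ hZ₁)
    obtain ⟨ξ₀, hξ₀⟩ : ∃ ξ, IsGenericPoint ξ (irreducibleComponent pt) :=
      QuasiSober.sober hZ₀.1 (isClosed_of_mem_irreducibleComponents _ hZ₀)
    obtain ⟨z₁, h₁, hq₁, heq₁⟩ := key _ hZ₁ ξ₁ hξ₁
    obtain ⟨z₀, h₀, hq₀, heq₀⟩ := key _ hZ₀ ξ₀ hξ₀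
    obtain rfl : z₁ = z₀ := tuple_injective e (h := h₁) (h' := h₀) fun i =>
      Module.Grassmannian.ext ((heq₁ i).trans (heq₀ i).symm)
    rw [← hξ₁.def, ← hξ₀.def, ← hq₁ (IsLocalRing.closedPoint _), ← hq₀ (IsLocalRing.closedPoint _)]
  have huniv : irreducibleComponent pt = Set.univ :=
    Set.eq_univ_of_forall fun x => hall x ▸ mem_irreducibleComponent
  exact { toPreirreducibleSpace := ⟨huniv ▸ hZ₀.1.2⟩, toNonempty := inferInstance }

end Groth.Agent.Lib.LinkGr
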