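import Groth.Agent.Lib.LinkGr.Dense
import Groth.Agent.Lib.LinkGr.Chart
import Groth.Agent.Lib.PointDim.Basic
import Mathlib.RingTheory.Localization.Integral
import Mathlib.FieldTheory.IntermediateField.Basic

/-!
# Components of the linked Grassmannian over a field have dimension `r (d - r)`
-/

open AlgebraicGeometry CategoryTheory W4c1limliniiii
open Groth.Agent.Lib.PointDim.Basic

universe u

namespace Groth.Agent.Lib.LinkGr

variable {k : Type u} [Field k] {d r n : ℕ} {f g : Fin n → ((Fin d → k) →ₗ[k] (Fin d → k))} {s : k}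
  {X : Over (Spec (CommRingCat.of k))}
  (e : ∀ A : CommAlgCat.{u} k,
    (Over.mk (Spec.map (CommRingCat.ofHom (algebraMap k A))) ⟶ X) ≃ LGPoints k d r n f g A)
  (he : ∀ (A B : CommAlgCat.{u} k) (φ : A ⟶ B)
      (x : Over.mk (Spec.map (CommRingCat.ofHom (algebraMap k A))) ⟶ X)
      (x' : Over.mk (Spec.map (CommRingCat.ofHom (algebraMap k B))) ⟶ X),
      x'.left = Spec.map (CommRingCat.ofHom φ.hom.toRingHom) ≫ x.left →
        ∀ i, (e B x').1 i = Module.Grassmannian.map φ.hom ((e A x).1 i))

/-- A field-valued point which is universal among those with the same image. -/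
structure IsResiduePt {K : Type u} [Field K] [Algebra k K] (i : Spec (CommRingCat.of K) ⟶ X.left) (pt : X.left) :
    Prop where
  str_eq : i ≫ X.hom = str k K
  apply_eq : ∀ q, i q = pt
  factor : ∀ {L : Type u} [Field L] (z : Spec (CommRingCat.of L) ⟶ X.left) (q : Spec (CommRingCat.of L)),
    z q = pt → ∃ τ : CommRingCat.of K ⟶ CommRingCat.of L, z = Spec.map τ ≫ i

theorem exists_residue_algHom {K : Type u} [Field K] [Algebra k K] {i : Spec (CommRingCat.of K) ⟶ X.left}
    {pt : X.left} (hi : IsResiduePt (k := k) i pt)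
    {L : Type u} [Field L] [Algebra k L] (z : Spec (CommRingCat.of L) ⟶ X.left) (hz : z ≫ X.hom = str k L)
    (q : Spec (CommRingCat.of L)) (hpt : z q = pt) :
    ∃ σ : K →ₐ[k] L, z = Spec.map (CommRingCat.ofHom σ.toRingHom) ≫ i := by
  obtain ⟨τ, hτ⟩ := hi.factor z q hpt
  have hc : CommRingCat.ofHom (algebraMap k K) ≫ τ = CommRingCat.ofHom (algebraMap k L) := Spec.map_injective (by
    rw [Spec.map_comp]
    show Spec.map τ ≫ str k _ = str k L
    rw [← hi.str_eq, ← Category.assoc, ← hτ, hz])
  exact ⟨{ τ.hom with commutes' := fun c => congrArg (fun h => h.hom c) hc }, hτ⟩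

theorem eq_of_specializes {Z : Set X.left} (hZ : Z ∈ irreducibleComponents X.left) {ξ η : X.left}
    (hξ : IsGenericPoint ξ Z) (h : η ⤳ ξ) : η = ξ := by
  have h1 : Z ≤ closure ({η} : Set X.left) := by
    rw [← hξ.def]
    exact closure_minimal (Set.singleton_subset_iff.2 (specializes_iff_mem_closure.1 h)) isClosed_closure
  have h2 := hZ.2 isIrreducible_singleton.closure h1
  exact (show IsGenericPoint η Z from le_antisymm h2 h1).eq hξ

include he in
theorem isExact_genericPoint (hrd : r ≤ d)
    (hI : ∀ i, (f i).comp (g i) = s • LinearMap.id ∧ (g i).comp (f i) = s • LinearMap.id)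
    (hII : ∀ i, d ≤ Module.finrank k (LinearMap.range (f i)) + Module.finrank k (LinearMap.range (g i)))
    (hIII : ∀ i j : Fin n, i.val + 1 = j.val →
      LinearMap.range (f i) ⊓ LinearMap.ker (f j) = ⊥ ∧ LinearMap.range (g j) ⊓ LinearMap.ker (g i) = ⊥)
    {Z : Set X.left} (hZ : Z ∈ irreducibleComponents X.left) {ξ : X.left} (hξ : IsGenericPoint ξ Z)
    {K : Type u} [Field K] [Algebra k K] {j : Spec (CommRingCat.of K) ⟶ X.left}
    (hj : IsResiduePt (k := k) j ξ) :
    IsExact k d r n f g K (tuple e j hj.str_eq).1 := by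
  classical
  by_contra hex
  have hs : s = 0 := by
    by_contra hs
    exact hex (isExact_of_ne_zero hI hs _)
  subst hs
  obtain ⟨h, h0, W, hW, q, hq, hW0, hWrk⟩ := exists_curve hrd hI hII hIII (tuple e j hj.str_eq).2 hex
  obtain ⟨y, hy, hy'⟩ := exists_tuple e (⟨W, hW⟩ : LGPoints k d r n f g (Localization.Away h))
  let P := Polynomial K
  let L := FractionRing P
  let ev : P →ₐ[k] K := (Polynomial.aeval (0 : K)).restrictScalars k
  let φ₀ : Localization.Away h →ₐ[k] K := IsLocalization.liftAlgHom (M := Submonoid.powers h) (f := ev) (by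
    rintro ⟨_, m, rfl⟩
    rw [map_pow]
    exact (IsUnit.mk0 _ (by simpa [ev] using h0)).pow m)
  let φη : Localization.Away h →ₐ[k] L := IsLocalization.liftAlgHom (M := Submonoid.powers h)
    (f := IsScalarTower.toAlgHom k P L) (by
    rintro ⟨_, m, rfl⟩
    have hh : algebraMap P L h ≠ 0 :=
      fun hh => h0 (by rw [(IsFractionRing.injective P L) (hh.trans (map_zero _).symm), Polynomial.eval_zero])
    rw [map_pow]
    exact (IsUnit.mk0 _ hh).pow m)
  have hφ₀ : ∀ p : P, φ₀ (algebraMap P _ p) = p.eval 0 := fun p => by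
    rw [IsLocalization.liftAlgHom_apply, IsLocalization.lift_eq]
    simp [ev]
  have hφη : ∀ p : P, φη (algebraMap P _ p) = algebraMap P L p := fun p => by
    rw [IsLocalization.liftAlgHom_apply, IsLocalization.lift_eq]
    rfl
  have hy0 : Spec.map (CommRingCat.ofHom φ₀.toRingHom) ≫ y = j := by
    have h1 : (Spec.map (CommRingCat.ofHom φ₀.toRingHom) ≫ y) ≫ X.hom = str k K := by
      rw [Category.assoc, hy]; exact str_comp _
    refine tuple_injective e (h := h1) (h' := hj.str_eq) fun i => ?_
    rw [tuple_map e he φ₀ y hy _ h1 rfl i, hy']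
    exact hW0 φ₀ hφ₀ i
  let zη := Spec.map (CommRingCat.ofHom φη.toRingHom) ≫ y
  have hzη : zη ≫ X.hom = str k L := by rw [Category.assoc, hy]; exact str_comp _
  have hspec : Spec.map (CommRingCat.ofHom φη.toRingHom) (IsLocalRing.closedPoint L) ⤳
      Spec.map (CommRingCat.ofHom φ₀.toRingHom) (IsLocalRing.closedPoint K) := by
    refine (PrimeSpectrum.le_iff_specializes _ _).1 fun b hb => ?_
    have hb' : φη b ∈ IsLocalRing.maximalIdeal L := hb
    rw [IsLocalRing.maximalIdeal_eq_bot, Ideal.mem_bot] at hb'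
    obtain ⟨⟨p, _, m, rfl⟩, hp⟩ := IsLocalization.surj (Submonoid.powers h) b
    have h1 := congrArg φη hp
    rw [map_mul, hb', zero_mul, hφη] at h1
    have hp0 : p = 0 := IsFractionRing.injective P L (h1.symm.trans (map_zero _).symm)
    have h2 := congrArg φ₀ hp
    rw [map_mul, hφ₀, hφ₀, hp0, Polynomial.eval_zero, mul_eq_zero,
      or_iff_left (by simpa using pow_ne_zero m h0)] at h2
    show φ₀ b ∈ IsLocalRing.maximalIdeal K
    rw [h2]; exact zero_mem _
  have hη : zη (IsLocalRing.closedPoint L) = ξ := by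
    refine eq_of_specializes hZ hξ ?_
    have h1 := hspec.map y.continuous
    have h2 : y (Spec.map (CommRingCat.ofHom φ₀.toRingHom) (IsLocalRing.closedPoint K)) = ξ := by
      show (Spec.map (CommRingCat.ofHom φ₀.toRingHom) ≫ y).base _ = ξ
      rw [hy0]
      exact hj.apply_eq _
    exact h2 ▸ h1
  obtain ⟨σ, hσ⟩ := exists_residue_algHom hj zη hzη _ hη
  have heq : (fun i => Module.Grassmannian.map φη (W i)) =
      fun i => Module.Grassmannian.map σ ((tuple e j hj.str_eq).1 i) := by
    funext i
    rw [← tuple_map e he σ j hj.str_eq zη hzη hσ i, tuple_map e he φη y hy zη hzη rfl i, hy']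
  have hlt := (hWrk L φη (by rw [hφη]; exact fun hh => hq (IsFractionRing.injective P L (hh.trans (map_zero _).symm)))).1
  rw [heq] at hlt
  exact absurd (rk_map_le σ _) (not_le.2 hlt)

include he in
theorem trdeg_genericPoint (hrd : r ≤ d)
    (hI : ∀ i, (f i).comp (g i) = s • LinearMap.id ∧ (g i).comp (f i) = s • LinearMap.id)
    (hII : ∀ i, d ≤ Module.finrank k (LinearMap.range (f i)) + Module.finrank k (LinearMap.range (g i)))
    (hIII : ∀ i j : Fin n, i.val + 1 = j.val →
      LinearMap.range (f i) ⊓ LinearMap.ker (f j) = ⊥ ∧ LinearMap.range (g j) ⊓ LinearMap.ker (g i) = ⊥)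
    {Z : Set X.left} (hZ : Z ∈ irreducibleComponents X.left) {ξ : X.left} (hξ : IsGenericPoint ξ Z)
    {K : Type u} [Field K] [Algebra k K] {j : Spec (CommRingCat.of K) ⟶ X.left}
    (hj : IsResiduePt (k := k) j ξ) :
    Algebra.trdeg k K = ((r * (d - r) : ℕ) : Cardinal.{u}) := by
  classical
  obtain ⟨h, W, hW, β, hβ, hchart, -⟩ := exists_affine_chart hrd hI (fun i j h => (hIII i j h).1) (tuple e j hj.str_eq).2
    (isExact_genericPoint e he hrd hI hII hIII hZ hξ hj)
  obtain ⟨y, hy, hy'⟩ := exists_tuple e (⟨W, hW⟩ : LGPoints k d r n f g (Localization.Away h))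
  let R := MvPolynomial (Fin r × Fin (d - r)) k
  let F := FractionRing R
  have hh : h ≠ 0 := fun hh => by
    have h1 := ((IsLocalization.Away.algebraMap_isUnit (S := Localization.Away h) h).map β).ne_zero
    exact h1 (by subst hh; simp)
  have hhF : algebraMap R F h ≠ 0 := fun h' => hh (IsFractionRing.injective R F (h'.trans (map_zero _).symm))
  let φ : Localization.Away h →ₐ[k] F := IsLocalization.liftAlgHom (M := Submonoid.powers h)
    (f := IsScalarTower.toAlgHom k R F) (by
    rintro ⟨_, m, rfl⟩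
    rw [map_pow]
    exact (IsUnit.mk0 _ hhF).pow m)
  have hφ : ∀ p : R, φ (algebraMap R _ p) = algebraMap R F p := fun p => by
    rw [IsLocalization.liftAlgHom_apply, IsLocalization.lift_eq]
    rfl
  let z := Spec.map (CommRingCat.ofHom φ.toRingHom) ≫ y
  have hz : z ≫ X.hom = str k F := by rw [Category.assoc, hy]; exact str_comp _
  have hβy : Spec.map (CommRingCat.ofHom β.toRingHom) ≫ y = j := by
    have h1 : (Spec.map (CommRingCat.ofHom β.toRingHom) ≫ y) ≫ X.hom = str k K := by
      rw [Category.assoc, hy]; exact str_comp _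
    refine tuple_injective e (h := h1) (h' := hj.str_eq) fun i => ?_
    rw [tuple_map e he β y hy _ h1 rfl i, hy']
    exact hβ i
  have hspec : Spec.map (CommRingCat.ofHom φ.toRingHom) (IsLocalRing.closedPoint F) ⤳
      Spec.map (CommRingCat.ofHom β.toRingHom) (IsLocalRing.closedPoint K) := by
    refine (PrimeSpectrum.le_iff_specializes _ _).1 fun b hb => ?_
    have hb' : φ b ∈ IsLocalRing.maximalIdeal F := hb
    rw [IsLocalRing.maximalIdeal_eq_bot, Ideal.mem_bot] at hb'
    obtain ⟨⟨p, _, m, rfl⟩, hp⟩ := IsLocalization.surj (Submonoid.powers h) b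
    have h1 := congrArg φ hp
    rw [map_mul, hb', zero_mul, hφ] at h1
    have hp0 : p = 0 := IsFractionRing.injective R F (h1.symm.trans (map_zero _).symm)
    have h2 := congrArg β hp
    simp only [hp0, map_mul, map_zero, map_pow, mul_eq_zero] at h2
    have h3 := ((IsLocalization.Away.algebraMap_isUnit (S := Localization.Away h) h).map β).ne_zero
    rw [or_iff_left (pow_ne_zero m h3)] at h2
    show β b ∈ IsLocalRing.maximalIdeal K
    rw [h2]; exact zero_mem _
  have hzξ : z (IsLocalRing.closedPoint F) = ξ := by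
    refine eq_of_specializes hZ hξ ?_
    have h1 := hspec.map y.continuous
    have h2 : y (Spec.map (CommRingCat.ofHom β.toRingHom) (IsLocalRing.closedPoint K)) = ξ := by
      show (Spec.map (CommRingCat.ofHom β.toRingHom) ≫ y) _ = ξ
      rw [hβy]
      exact hj.apply_eq _
    exact h2 ▸ h1
  obtain ⟨σ, hσ⟩ := exists_residue_algHom hj z hz _ hzξ
  have hx := hchart F σ φ fun i => by
    rw [← tuple_map e he σ j hj.str_eq z hz hσ i, tuple_map e he φ y hy z hz rfl i, hy']
  have hpoly : IsScalarTower.toAlgHom k R F = σ.comp (β.comp (IsScalarTower.toAlgHom k R _)) :=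
    MvPolynomial.algHom_ext fun t => by
      have h1 := hx t
      rw [hφ] at h1
      exact h1
  have hsurj : Function.Surjective σ := by
    intro a
    obtain ⟨p, q, -, rfl⟩ := IsFractionRing.div_surjective (A := R) a
    refine ⟨β (algebraMap R _ p) / β (algebraMap R _ q), ?_⟩
    rw [map_div₀]
    have hp := AlgHom.congr_fun hpoly p
    have hq := AlgHom.congr_fun hpoly q
    simp only [AlgHom.comp_apply, IsScalarTower.toAlgHom_apply] at hp hq
    rw [hp, hq]
  have h1 : Algebra.trdeg k K = Algebra.trdeg k F :=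
    (AlgEquiv.ofBijective σ ⟨σ.toRingHom.injective, hsurj⟩).trdeg_eq
  have : Algebra.IsAlgebraic R F := IsLocalization.isAlgebraic F (nonZeroDivisors R)
  have h2 := trdeg_add_eq k R (A := F)
  rw [trdeg_eq_zero (R := R), add_zero, MvPolynomial.trdeg_of_isDomain] at h2
  rw [h1, ← h2, Cardinal.mk_fintype]
  simp

include he in
theorem topologicalKrullDim_component (hrd : r ≤ d)
    (hI : ∀ i, (f i).comp (g i) = s • LinearMap.id ∧ (g i).comp (f i) = s • LinearMap.id)
    (hII : ∀ i, d ≤ Module.finrank k (LinearMap.range (f i)) + Module.finrank k (LinearMap.range (g i)))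
    (hIII : ∀ i j : Fin n, i.val + 1 = j.val →
      LinearMap.range (f i) ⊓ LinearMap.ker (f j) = ⊥ ∧ LinearMap.range (g j) ⊓ LinearMap.ker (g i) = ⊥)
    {Z : Set X.left} (hZ : Z ∈ irreducibleComponents X.left) :
    topologicalKrullDim Z = (r * (d - r) : ℕ) := by
  have := locallyOfFiniteType e he hrd
  obtain ⟨ξ, hξ⟩ := QuasiSober.sober hZ.1 (isClosed_of_mem_irreducibleComponents Z hZ)
  let alg : Algebra k (X.left.residueField ξ) := (kToRes X.hom ξ).hom.toAlgebra
  have hj : @IsResiduePt k _ X (X.left.residueField ξ) _ alg (X.left.fromSpecResidueField ξ) ξ :=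
    ⟨(specMap_kToRes X.hom ξ).symm, fun q => Scheme.fromSpecResidueField_apply _ q, fun {L} _ z q hq => by
      obtain rfl : q = IsLocalRing.closedPoint L := Subsingleton.elim _ _
      subst hq
      exact ⟨_, (Scheme.descResidueField_stalkClosedPointTo_fromSpecResidueField L X.left z).symm⟩⟩
  have h1 : natTdeg X.hom ξ = r * (d - r) := by
    rw [natTdeg]
    show (@Algebra.trdeg k (X.left.residueField ξ) _ _ alg).toNat = _
    rw [trdeg_genericPoint e he hrd hI hII hIII hZ hξ hj, Cardinal.toNat_natCast]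
  have h2 := topologicalKrullDim_closure_singleton X.hom ξ
  rw [h1, hξ.def] at h2
  exact h2

end Groth.Agent.Lib.LinkGr
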