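import Groth.Agent.Lib.LinkGr.Span
import Groth.Agent.Lib.GrassRep.Points
import Mathlib.RingTheory.Finiteness.Prod
import Mathlib.Algebra.Module.Projective
import Mathlib.LinearAlgebra.Prod

/-!
# Pairs of points of Grassmannians

Two points `N₁, N₂` give the point `{z | q₁ z ∈ N₁, q₂ z ∈ N₂}` of the Grassmannian of a module with
two jointly split projections; the condition `φ N₁ ≤ N₂` becomes the equality of two such points.
-/

open TensorProduct

universe u

namespace Groth.Agent.Lib.LinkGr.Pair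

open Groth.Agent.Lib.GrassRep (Gr push push_mem_map)

variable {R : Type u} [CommRing R] {M W : Type u} [AddCommGroup M] [Module R M] [AddCommGroup W] [Module R W]
  {A B : Type u} [CommRing A] [Algebra R A] [CommRing B] [Algebra R B]

theorem map_le_span' {k : ℕ} (φ : A →ₐ[R] B) (G : Gr R M k A) :
    (Module.Grassmannian.map φ G).toSubmodule ≤
      Submodule.span B (push M φ '' (G.toSubmodule : Set (A ⊗[R] M))) := by
  let : Algebra A B := φ.toAlgebra
  have : IsScalarTower R A B := IsScalarTower.of_algHom φ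
  intro z hz
  rw [Module.Grassmannian.map_toSubmodule, LinearMap.mem_ker] at hz
  rw [Module.Grassmannian.baseChangeMkQ, LinearMap.comp_apply] at hz
  obtain ⟨z', rfl⟩ := (AlgebraTensorModule.cancelBaseChange R A B B M).surjective z
  rw [LinearEquiv.coe_coe, LinearEquiv.symm_apply_apply, LinearMap.baseChange_eq_ltensor] at hz
  have hz' : z' ∈ LinearMap.ker (LinearMap.lTensor B G.toSubmodule.mkQ) := hz
  rw [lTensor_mkQ] at hz'
  obtain ⟨w, rfl⟩ := hz'
  have key : ∀ (b : B) (t : A ⊗[R] M),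
      AlgebraTensorModule.cancelBaseChange R A B B M (b ⊗ₜ[A] t) = b • push M φ t := by
    intro b t
    induction t using TensorProduct.induction_on with
    | zero => simp
    | tmul a v =>
      rw [AlgebraTensorModule.cancelBaseChange_tmul, push, LinearMap.rTensor_tmul, smul_tmul', smul_eq_mul,
        Algebra.smul_def, mul_comm]
      rfl
    | add x y hx hy => simp only [tmul_add, map_add, smul_add, hx, hy]
  clear hz
  induction w using TensorProduct.induction_on with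
  | zero => simp
  | tmul b g =>
    rw [LinearMap.lTensor_tmul, key]
    exact Submodule.smul_mem _ _ (Submodule.subset_span ⟨g.1, g.2, rfl⟩)
  | add x y hx hy => simp only [map_add]; exact add_mem hx hy

theorem eq_of_le {k : ℕ} {N N' : Gr R M k A} (h : N.toSubmodule ≤ N'.toSubmodule) : N = N' := by
  refine Module.Grassmannian.ext (le_antisymm h ?_)
  let K := N'.toSubmodule.map N.toSubmodule.mkQ
  let e := Submodule.quotientQuotientEquivQuotient _ _ h
  have : Module.Projective A (((A ⊗[R] M) ⧸ N.toSubmodule) ⧸ K) := Module.Projective.of_equiv e.symm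
  have hK := eq_bot_of_rank K fun p => by
    rw [congrFun (Module.rankAtStalk_eq_of_equiv e) p, N.rankAtStalk_eq, N'.rankAtStalk_eq]
  intro z hz
  have h1 : N.toSubmodule.mkQ z ∈ K := Submodule.mem_map_of_mem hz
  rw [hK, Submodule.mem_bot] at h1
  exact (Submodule.Quotient.mk_eq_zero _).1 h1

theorem push_baseChange (φ : A →ₐ[R] B) (q : W →ₗ[R] M) (z : A ⊗[R] W) :
    push M φ (q.baseChange A z) = q.baseChange B (push W φ z) := by
  induction z using TensorProduct.induction_on with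
  | zero => simp
  | tmul b v => simp [push]
  | add x y hx hy => simp only [map_add, hx, hy]

variable {k l : ℕ} (q₁ q₂ : W →ₗ[R] M) (s₁ s₂ : M →ₗ[R] W)

/-- The sections split the projections. -/
def IsSplit : Prop :=
  q₁ ∘ₗ s₁ = LinearMap.id ∧ q₂ ∘ₗ s₁ = 0 ∧ q₁ ∘ₗ s₂ = 0 ∧ q₂ ∘ₗ s₂ = LinearMap.id

variable {q₁ q₂ s₁ s₂} (hs : IsSplit q₁ q₂ s₁ s₂)

include hs in
theorem split_apply (x y : A ⊗[R] M) :
    q₁.baseChange A (s₁.baseChange A x + s₂.baseChange A y) = x ∧
      q₂.baseChange A (s₁.baseChange A x + s₂.baseChange A y) = y := by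
  constructor <;>
  · rw [map_add, ← LinearMap.comp_apply, ← LinearMap.comp_apply, ← LinearMap.baseChange_comp,
      ← LinearMap.baseChange_comp]
    simp [hs.1, hs.2.1, hs.2.2.1, hs.2.2.2]

/-- The map to the product of the quotients. -/
noncomputable def pairMap (q₁ q₂ : W →ₗ[R] M) (N₁ : Gr R M k A) (N₂ : Gr R M l A) :
    A ⊗[R] W →ₗ[A] ((A ⊗[R] M) ⧸ N₁.toSubmodule) × ((A ⊗[R] M) ⧸ N₂.toSubmodule) :=
  (N₁.toSubmodule.mkQ ∘ₗ q₁.baseChange A).prod (N₂.toSubmodule.mkQ ∘ₗ q₂.baseChange A)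

include hs in
theorem pairMap_surjective (N₁ : Gr R M k A) (N₂ : Gr R M l A) :
    Function.Surjective (pairMap q₁ q₂ N₁ N₂) := by
  rintro ⟨x, y⟩
  obtain ⟨x, rfl⟩ := Submodule.mkQ_surjective _ x
  obtain ⟨y, rfl⟩ := Submodule.mkQ_surjective _ y
  obtain ⟨h1, h2⟩ := split_apply hs x y
  exact ⟨s₁.baseChange A x + s₂.baseChange A y,
    Prod.ext (congrArg N₁.toSubmodule.mkQ h1) (congrArg N₂.toSubmodule.mkQ h2)⟩

/-- The point of a pair. -/
noncomputable def pairPt (N₁ : Gr R M k A) (N₂ : Gr R M l A) : Gr R W (k + l) A :=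
  let π := pairMap q₁ q₂ N₁ N₂
  let e := π.quotKerEquivOfSurjective (pairMap_surjective hs N₁ N₂)
  { toSubmodule := LinearMap.ker π
    finite_quotient := Module.Finite.equiv e.symm
    projective_quotient := Module.Projective.of_equiv e.symm
    rankAtStalk_eq := fun p => by
      rw [congrFun (Module.rankAtStalk_eq_of_equiv e) p, Module.rankAtStalk_prod, Pi.add_apply,
        N₁.rankAtStalk_eq, N₂.rankAtStalk_eq] }

theorem mem_pairPt (N₁ : Gr R M k A) (N₂ : Gr R M l A) (z : A ⊗[R] W) :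
    z ∈ (pairPt hs N₁ N₂).toSubmodule ↔
      q₁.baseChange A z ∈ N₁.toSubmodule ∧ q₂.baseChange A z ∈ N₂.toSubmodule := by
  simp [pairPt, pairMap, Prod.ext_iff]

theorem pairPt_map (φ : A →ₐ[R] B) (N₁ : Gr R M k A) (N₂ : Gr R M l A) :
    Module.Grassmannian.map φ (pairPt hs N₁ N₂) =
      pairPt hs (Module.Grassmannian.map φ N₁) (Module.Grassmannian.map φ N₂) := by
  refine eq_of_le ((map_le_span' φ _).trans (Submodule.span_le.2 ?_))
  rintro _ ⟨z, hz, rfl⟩
  rw [SetLike.mem_coe, mem_pairPt] at hz ⊢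
  rw [← push_baseChange, ← push_baseChange]
  exact ⟨push_mem_map φ _ hz.1, push_mem_map φ _ hz.2⟩

theorem pairPt_eq_iff (φ : M →ₗ[R] M) (hs' : IsSplit q₁ (q₂ - φ ∘ₗ q₁) (s₁ + s₂ ∘ₗ φ) s₂)
    (N₁ : Gr R M k A) (N₂ : Gr R M l A) :
    pairPt hs N₁ N₂ = pairPt hs' N₁ N₂ ↔ N₁.toSubmodule.map (φ.baseChange A) ≤ N₂.toSubmodule := by
  constructor
  · rintro h _ ⟨x, hx, rfl⟩
    obtain ⟨h1, h2⟩ := split_apply hs x 0
    have hz : s₁.baseChange A x + s₂.baseChange A 0 ∈ (pairPt hs N₁ N₂).toSubmodule :=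
      (mem_pairPt hs N₁ N₂ _).2 ⟨h1.symm ▸ hx, h2.symm ▸ zero_mem _⟩
    rw [h, mem_pairPt, LinearMap.baseChange_sub, LinearMap.sub_apply, LinearMap.baseChange_comp,
      LinearMap.comp_apply, h1, h2, zero_sub, neg_mem_iff] at hz
    exact hz.2
  · intro h
    refine eq_of_le fun z hz => ?_
    rw [mem_pairPt] at hz ⊢
    refine ⟨hz.1, ?_⟩
    rw [LinearMap.baseChange_sub, LinearMap.sub_apply, LinearMap.baseChange_comp, LinearMap.comp_apply]
    exact sub_mem hz.2 (h (Submodule.mem_map_of_mem hz.1))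

theorem isSplit_twist (φ : M →ₗ[R] M) : IsSplit q₁ q₂ s₁ s₂ → IsSplit q₁ (q₂ - φ ∘ₗ q₁) (s₁ + s₂ ∘ₗ φ) s₂ := by
  rintro ⟨h1, h2, h3, h4⟩
  have e1 : ∀ v, q₁ (s₁ v) = v := LinearMap.congr_fun h1
  have e2 : ∀ v, q₂ (s₁ v) = 0 := LinearMap.congr_fun h2
  have e3 : ∀ v, q₁ (s₂ v) = 0 := LinearMap.congr_fun h3
  have e4 : ∀ v, q₂ (s₂ v) = v := LinearMap.congr_fun h4
  refine ⟨?_, ?_, h3, ?_⟩ <;> ext v <;> simp [e1, e2, e3, e4]

end Groth.Agent.Lib.LinkGr.Pair
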