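import Groth.Prelude.Def_W4c1limliniiiiLG
import Mathlib.LinearAlgebra.Matrix.NonsingularInverse
import Mathlib.LinearAlgebra.TensorProduct.Pi
import Mathlib.LinearAlgebra.TensorProduct.RightExactness
import Mathlib.LinearAlgebra.Dimension.StrongRankCondition
import Mathlib.LinearAlgebra.Matrix.Rank

/-!
# Points of a Grassmannian given by spanning vectors

A point of the Grassmannian of rank `r` sub-bundles of `A ⊗ k^d` is spanned by any `r` of its vectors
having an invertible minor after a linear projection.
-/

open TensorProduct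

universe u

namespace Groth.Agent.Lib.LinkGr

variable {k : Type u} [CommRing k] {d r : ℕ}

/-- `A ⊗ k^d`. -/
abbrev E (k : Type u) [CommRing k] (d : ℕ) (A : Type u) [CommRing A] [Algebra k A] : Type u :=
  A ⊗[k] (Fin d → k)

variable {A B C : Type u} [CommRing A] [Algebra k A] [CommRing B] [Algebra k B] [CommRing C] [Algebra k C]

/-- Change of coefficients. -/
noncomputable def Phi (φ : A →ₐ[k] B) : E k d A →ₗ[k] E k d B := φ.toLinearMap.rTensor (Fin d → k)

@[simp]
theorem Phi_tmul (φ : A →ₐ[k] B) (a : A) (v : Fin d → k) : Phi φ (a ⊗ₜ v) = φ a ⊗ₜ v := rfl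

theorem Phi_smul (φ : A →ₐ[k] B) (a : A) (z : E k d A) : Phi φ (a • z) = φ a • Phi φ z := by
  induction z using TensorProduct.induction_on with
  | zero => simp
  | tmul b v => simp [smul_tmul']
  | add x y hx hy => simp only [smul_add, map_add, hx, hy]

theorem Phi_baseChange (φ : A →ₐ[k] B) (f : (Fin d → k) →ₗ[k] (Fin d → k)) (z : E k d A) :
    Phi φ (f.baseChange A z) = f.baseChange B (Phi φ z) := by
  induction z using TensorProduct.induction_on with
  | zero => simp
  | tmul b v => simp
  | add x y hx hy => simp only [map_add, hx, hy]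

theorem Phi_comp (φ : A →ₐ[k] B) (ψ : B →ₐ[k] C) (z : E k d A) : Phi ψ (Phi φ z) = Phi (ψ.comp φ) z := by
  induction z using TensorProduct.induction_on with
  | zero => simp
  | tmul b v => simp
  | add x y hx hy => simp only [map_add, hx, hy]

theorem Phi_surjective (φ : A →ₐ[k] B) (h : Function.Surjective φ) : Function.Surjective (Phi (d := d) φ) :=
  LinearMap.rTensor_surjective _ h

theorem Phi_injective (φ : A →ₐ[k] B) (h : Function.Injective φ) : Function.Injective (Phi (d := d) φ) :=
  Module.Flat.rTensor_preserves_injective_linearMap _ h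

theorem Phi_linearCombination {ι : Type*} [Fintype ι] (φ : A →ₐ[k] B) (M : ι → E k d A) (c : ι → A) :
    Phi φ (∑ i, c i • M i) = ∑ i, φ (c i) • Phi φ (M i) := by
  simp [Phi_smul]

variable (A) in
/-- The coordinates given by a linear map `k^d → k^r`. -/
noncomputable def crd (L : (Fin d → k) →ₗ[k] (Fin r → k)) : E k d A →ₗ[A] (Fin r → A) :=
  (TensorProduct.piScalarRight k A A (Fin r)).toLinearMap ∘ₗ L.baseChange A

theorem crd_tmul (L : (Fin d → k) →ₗ[k] (Fin r → k)) (a : A) (v : Fin d → k) (i : Fin r) :
    crd A L (a ⊗ₜ v) i = L v i • a := by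
  simp [crd]

theorem crd_Phi (L : (Fin d → k) →ₗ[k] (Fin r → k)) (φ : A →ₐ[k] B) (z : E k d A) (i : Fin r) :
    crd B L (Phi φ z) i = φ (crd A L z i) := by
  induction z using TensorProduct.induction_on with
  | zero => simp
  | tmul b v => simp [crd_tmul]
  | add x y hx hy => simp only [map_add, Pi.add_apply, hx, hy]

/-- The minor of a family of vectors. -/
noncomputable def mnr (L : (Fin d → k) →ₗ[k] (Fin r → k)) (M : Fin r → E k d A) : A :=
  (Matrix.of fun a b => crd A L (M b) a).det

theorem mnr_Phi (L : (Fin d → k) →ₗ[k] (Fin r → k)) (φ : A →ₐ[k] B) (M : Fin r → E k d A) :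
    mnr L (fun b => Phi φ (M b)) = φ (mnr L M) := by
  rw [mnr, mnr, AlgHom.map_det]
  congr 1
  ext a b
  simp [crd_Phi]

variable {L : (Fin d → k) →ₗ[k] (Fin r → k)} {M : Fin r → E k d A}

/-- A left inverse of the linear combination map of `M`. -/
theorem exists_leftInverse (h : IsUnit (mnr L M)) :
    ∃ S : E k d A →ₗ[A] (Fin r → A), ∀ c : Fin r → A, S (∑ b, c b • M b) = c := by
  classical
  let X : Matrix (Fin r) (Fin r) A := Matrix.of fun a b => crd A L (M b) a
  refine ⟨(Matrix.mulVecLin X⁻¹).comp (crd A L), fun c => ?_⟩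
  have h1 : crd A L (∑ b, c b • M b) = X.mulVec c := by
    ext a
    simp [X, Matrix.mulVec, dotProduct, mul_comm]
  rw [LinearMap.comp_apply, h1, Matrix.mulVecLin_apply, Matrix.mulVec_mulVec, Matrix.nonsing_inv_mul X h,
    Matrix.one_mulVec]

theorem exists_eq_sum_of_mem_span {z : E k d A} (h : z ∈ Submodule.span A (Set.range M)) :
    ∃ c : Fin r → A, ∑ b, c b • M b = z :=
  (Submodule.mem_span_range_iff_exists_fun A).1 h

theorem finite_quotient (M : Fin r → E k d A) :
    Module.Finite A (E k d A ⧸ Submodule.span A (Set.range M)) :=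
  Module.Finite.quotient A _

theorem projective_quotient (h : IsUnit (mnr L M)) :
    Module.Projective A (E k d A ⧸ Submodule.span A (Set.range M)) := by
  obtain ⟨S, hS⟩ := exists_leftInverse h
  let P := Fintype.linearCombination A M
  have hker : Submodule.span A (Set.range M) ≤ LinearMap.ker (LinearMap.id - P.comp S) := by
    intro z hz
    obtain ⟨c, rfl⟩ := exists_eq_sum_of_mem_span hz
    simp only [LinearMap.mem_ker, LinearMap.sub_apply, LinearMap.id_apply, LinearMap.comp_apply, hS]
    simp [P, Fintype.linearCombination_apply]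
  refine Module.Projective.of_split (Submodule.liftQ _ _ hker) (Submodule.mkQ _) ?_
  refine Submodule.linearMap_qext _ (LinearMap.ext fun z => ?_)
  simp only [LinearMap.comp_apply, Submodule.mkQ_apply, Submodule.liftQ_apply, LinearMap.sub_apply,
    LinearMap.id_apply, LinearMap.id_comp]
  rw [Submodule.Quotient.mk_sub, sub_eq_self, Submodule.Quotient.mk_eq_zero]
  exact (Submodule.mem_span_range_iff_exists_fun A).2 ⟨S z, by simp [P, Fintype.linearCombination_apply]⟩

theorem rankAtStalk_quotient (h : IsUnit (mnr L M)) (p : PrimeSpectrum A) :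
    Module.rankAtStalk (R := A) (E k d A ⧸ Submodule.span A (Set.range M)) p = d - r := by
  have : Nontrivial A := p.nontrivial
  have : Nontrivial k := (algebraMap k A).domain_nontrivial
  have := projective_quotient h
  obtain ⟨S, hS⟩ := exists_leftInverse h
  have hsum : ∀ z : E k d A, z ∈ Submodule.span A (Set.range M) → ∑ b, S z b • M b = z := by
    intro z hz
    obtain ⟨c, rfl⟩ := exists_eq_sum_of_mem_span hz
    rw [hS]
  let e : E k d A ≃ₗ[A] (Fin r → A) × (E k d A ⧸ Submodule.span A (Set.range M)) :=
    LinearEquiv.ofBijective (S.prod (Submodule.mkQ _)) ⟨by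
      rw [← LinearMap.ker_eq_bot, LinearMap.ker_prod, Submodule.ker_mkQ, Submodule.eq_bot_iff]
      rintro z ⟨h1, h2⟩
      have h3 := hsum z h2
      rw [LinearMap.mem_ker.1 h1] at h3
      simpa using h3.symm, by
      rintro ⟨v, q⟩
      obtain ⟨z, rfl⟩ := Submodule.mkQ_surjective _ q
      refine ⟨z - ∑ b, S z b • M b + ∑ b, v b • M b, ?_⟩
      have hm : ∀ c : Fin r → A, (Submodule.span A (Set.range M)).mkQ (∑ b, c b • M b) = 0 := fun c =>
        (Submodule.Quotient.mk_eq_zero _).2 ((Submodule.mem_span_range_iff_exists_fun A).2 ⟨c, rfl⟩)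
      refine Prod.ext ?_ ?_
      · show S _ = v
        rw [map_add, map_sub, hS, hS, sub_self, zero_add]
      · show Submodule.mkQ _ _ = Submodule.mkQ _ z
        rw [map_add, map_sub, hm, hm, sub_zero, add_zero]⟩
  have h1 := congrFun (Module.rankAtStalk_eq_of_equiv e) p
  rw [Module.rankAtStalk_prod, Pi.add_apply, Module.rankAtStalk_eq_finrank_of_free,
    Module.rankAtStalk_eq_finrank_of_free, Module.finrank_baseChange] at h1
  simp at h1
  omega

/-- The point of the Grassmannian spanned by a family with an invertible minor. -/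
noncomputable def spanPt (h : IsUnit (mnr L M)) : Module.Grassmannian A (E k d A) (d - r) where
  toSubmodule := Submodule.span A (Set.range M)
  finite_quotient := finite_quotient M
  projective_quotient := projective_quotient h
  rankAtStalk_eq := rankAtStalk_quotient h

/-- A submodule of a finite projective module with quotient of the same rank vanishes. -/
theorem eq_bot_of_rank {N : Type u} [AddCommGroup N] [Module A N] [Module.Finite A N] [Module.Projective A N]
    (K : Submodule A N) [Module.Projective A (N ⧸ K)]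
    (hk : ∀ p, Module.rankAtStalk (R := A) (N ⧸ K) p = Module.rankAtStalk (R := A) N p) : K = ⊥ := by
  obtain ⟨s, hs⟩ := Module.projective_lifting_property K.mkQ LinearMap.id K.mkQ_surjective
  have hker : ∀ z, z - s (K.mkQ z) ∈ K := fun z => by
    rw [← Submodule.Quotient.mk_eq_zero, ← Submodule.mkQ_apply, map_sub, ← LinearMap.comp_apply, hs]
    simp
  let q : N →ₗ[A] K := (LinearMap.id - s.comp K.mkQ).codRestrict K hker
  have hq : q.comp K.subtype = LinearMap.id := by
    ext ⟨z, hz⟩
    simp [q, (Submodule.Quotient.mk_eq_zero K).2 hz]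
  have hK1 : Module.Finite A K := Module.Finite.of_surjective q fun z => ⟨z, LinearMap.congr_fun hq z⟩
  have hK2 : Module.Projective A K := Module.Projective.of_split K.subtype q hq
  let e : N ≃ₗ[A] K × (N ⧸ K) := LinearEquiv.ofBijective (q.prod K.mkQ) ⟨by
      intro x y hxy
      have h1 := congrArg (fun w => ((w.1 : K) : N)) hxy
      have h2 := congrArg Prod.snd hxy
      simp [q] at h1 h2
      rw [h2] at h1
      exact sub_left_injective h1, by
      rintro ⟨⟨a, ha⟩, c⟩
      have hc : K.mkQ (s c) = c := LinearMap.congr_fun hs c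
      refine ⟨a + s c, Prod.ext (Subtype.ext ?_) ?_⟩
      · simp [q, (Submodule.Quotient.mk_eq_zero K).2 ha]
        simp only [Submodule.mkQ_apply] at hc
        simp [hc]
      · simpa [(Submodule.Quotient.mk_eq_zero K).2 ha] using hc⟩
  have h0 : Module.rankAtStalk (R := A) K = 0 := funext fun p => by
    have h1 := congrFun (Module.rankAtStalk_eq_of_equiv e) p
    rw [Module.rankAtStalk_prod, Pi.add_apply, hk p] at h1
    simpa using h1
  have := Module.rankAtStalk_eq_zero_iff_subsingleton.mp h0
  exact Submodule.eq_bot_of_subsingleton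

/-- A point of the Grassmannian is spanned by any family in it with an invertible minor. -/
theorem eq_span (G : Module.Grassmannian A (E k d A) (d - r)) (hM : ∀ b, M b ∈ G.toSubmodule)
    (h : IsUnit (mnr L M)) : G.toSubmodule = Submodule.span A (Set.range M) := by
  have hle : Submodule.span A (Set.range M) ≤ G.toSubmodule := Submodule.span_le.2 (by
    rintro _ ⟨b, rfl⟩; exact hM b)
  refine le_antisymm ?_ hle
  have hp := projective_quotient h
  let K := G.toSubmodule.map (Submodule.span A (Set.range M)).mkQ
  let e := Submodule.quotientQuotientEquivQuotient _ _ hle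
  have : Module.Projective A ((E k d A ⧸ Submodule.span A (Set.range M)) ⧸ K) := Module.Projective.of_equiv e.symm
  have hK := eq_bot_of_rank K fun p => by
    rw [congrFun (Module.rankAtStalk_eq_of_equiv e) p, G.rankAtStalk_eq, rankAtStalk_quotient h]
  intro z hz
  have h1 : (Submodule.span A (Set.range M)).mkQ z ∈ K := Submodule.mem_map_of_mem hz
  rw [hK, Submodule.mem_bot] at h1
  exact (Submodule.Quotient.mk_eq_zero _).1 h1

theorem Phi_mem_map (φ : A →ₐ[k] B) (G : Module.Grassmannian A (E k d A) (d - r)) {z : E k d A}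
    (hz : z ∈ G.toSubmodule) : Phi φ z ∈ (Module.Grassmannian.map φ G).toSubmodule := by
  rw [Module.Grassmannian.map_toSubmodule, LinearMap.mem_ker]
  let : Algebra A B := φ.toAlgebra
  have : IsScalarTower k A B := IsScalarTower.of_algHom φ
  suffices ∀ w : E k d A, Module.Grassmannian.baseChangeMkQ B G.toSubmodule (Phi φ w) =
      (1 : B) ⊗ₜ[A] G.toSubmodule.mkQ w by
    rw [this, Submodule.mkQ_apply, (Submodule.Quotient.mk_eq_zero _).2 hz, tmul_zero]
  intro w
  induction w using TensorProduct.induction_on with
  | zero => simp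
  | tmul a v =>
    simp only [Phi_tmul, Module.Grassmannian.baseChangeMkQ, LinearMap.comp_apply, LinearEquiv.coe_coe,
      AlgebraTensorModule.cancelBaseChange_symm_tmul, LinearMap.baseChange_tmul]
    rw [show φ a = a • (1 : B) from Algebra.algebraMap_eq_smul_one a, smul_tmul, ← map_smul, smul_tmul',
      smul_eq_mul, mul_one]
  | add x y hx hy => simp only [map_add, tmul_add, hx, hy]

theorem map_le_span (φ : A →ₐ[k] B) (G : Module.Grassmannian A (E k d A) (d - r)) :
    (Module.Grassmannian.map φ G).toSubmodule ≤
      Submodule.span B (Phi φ '' (G.toSubmodule : Set (E k d A))) := by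
  let : Algebra A B := φ.toAlgebra
  have : IsScalarTower k A B := IsScalarTower.of_algHom φ
  intro z hz
  rw [Module.Grassmannian.map_toSubmodule, LinearMap.mem_ker] at hz
  rw [Module.Grassmannian.baseChangeMkQ, LinearMap.comp_apply] at hz
  obtain ⟨z', rfl⟩ := (AlgebraTensorModule.cancelBaseChange k A B B (Fin d → k)).surjective z
  rw [LinearEquiv.coe_coe, LinearEquiv.symm_apply_apply, LinearMap.baseChange_eq_ltensor] at hz
  have hz' : z' ∈ LinearMap.ker (LinearMap.lTensor B G.toSubmodule.mkQ) := hz
  rw [lTensor_mkQ] at hz'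
  obtain ⟨w, rfl⟩ := hz'
  have key : ∀ (b : B) (t : E k d A),
      AlgebraTensorModule.cancelBaseChange k A B B (Fin d → k) (b ⊗ₜ[A] t) = b • Phi φ t := by
    intro b t
    induction t using TensorProduct.induction_on with
    | zero => simp
    | tmul a v =>
      rw [AlgebraTensorModule.cancelBaseChange_tmul, Phi_tmul, smul_tmul', smul_eq_mul, Algebra.smul_def,
        mul_comm]
      rfl
    | add x y hx hy => simp only [tmul_add, map_add, smul_add, hx, hy]
  clear hz
  induction w using TensorProduct.induction_on with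
  | zero => simp
  | tmul b g =>
    rw [LinearMap.lTensor_tmul, key]
    exact Submodule.smul_mem _ _ (Submodule.subset_span ⟨g.1, g.2, rfl⟩)
  | add x y hx hy => simp only [map_add]; exact add_mem hx hy

theorem map_eq_span (φ : A →ₐ[k] B) (G : Module.Grassmannian A (E k d A) (d - r))
    {M : Fin r → E k d A} (hM : ∀ b, M b ∈ G.toSubmodule) (h : IsUnit (φ (mnr L M))) :
    (Module.Grassmannian.map φ G).toSubmodule = Submodule.span B (Set.range fun b => Phi φ (M b)) :=
  eq_span _ (fun b => Phi_mem_map φ G (hM b)) (by rw [mnr_Phi]; exact h)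

end Groth.Agent.Lib.LinkGr
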