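import Groth.Agent.Lib.LinkGr.Chain
import Groth.Agent.Lib.LinkGr.Span
import Mathlib.RingTheory.LocalRing.ResidueField.Ideal
import Mathlib.RingTheory.Localization.Away.Basic
import Mathlib.RingTheory.Ideal.Quotient.Nilpotent
import Mathlib.RingTheory.Adjoin.FG
import Mathlib.RingTheory.FiniteType

/-!
# Points of a linked Grassmannian over a field

Infinitesimal lifting of points specializing to an exact rational point, and descent of points to
subalgebras of finite type, locally on the base.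
-/

open TensorProduct W4c1limliniiii

universe u

namespace Groth.Agent.Lib.LinkGr

section General

variable {k : Type u} [CommRing k] {d r n : ℕ}

/-- A chain indexed by `ℕ`. -/
noncomputable def extend (f : Fin n → ((Fin d → k) →ₗ[k] (Fin d → k))) (m : ℕ) :
    (Fin d → k) →ₗ[k] (Fin d → k) :=
  if h : m < n then f ⟨m, h⟩ else 0

/-- The base change of the extended chain. -/
noncomputable def FA (A : Type u) [CommRing A] [Algebra k A]
    (f : Fin n → ((Fin d → k) →ₗ[k] (Fin d → k))) (m : ℕ) : E k d A →ₗ[A] E k d A :=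
  (extend f m).baseChange A

theorem FA_apply {A : Type u} [CommRing A] [Algebra k A] {f : Fin n → ((Fin d → k) →ₗ[k] (Fin d → k))}
    (i : Fin n) : FA A f i = (f i).baseChange A := by
  rw [FA, extend, dif_pos i.isLt]

/-- The members of a tuple, indexed by `ℕ`. -/
def mem {A : Type u} [CommRing A] [Algebra k A]
    (u : Fin (n + 1) → Module.Grassmannian A (E k d A) (d - r)) (i : ℕ) : Submodule A (E k d A) :=
  (u ⟨min i n, by omega⟩).toSubmodule

theorem mem_val {A : Type u} [CommRing A] [Algebra k A]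
    (u : Fin (n + 1) → Module.Grassmannian A (E k d A) (d - r)) (i : Fin (n + 1)) :
    mem u i = (u i).toSubmodule := by
  rw [mem]
  congr 2
  exact Fin.ext (min_eq_left (Nat.le_of_lt_succ i.isLt))

variable {f g : Fin n → ((Fin d → k) →ₗ[k] (Fin d → k))}

theorem mem_linked {A : Type u} [CommRing A] [Algebra k A]
    {u : Fin (n + 1) → Module.Grassmannian A (E k d A) (d - r)} (hu : u ∈ LGPoints k d r n f g A) :
    (∀ i < n, (mem u i).map (FA A f i) ≤ mem u (i + 1)) ∧
      ∀ i < n, (mem u (i + 1)).map (FA A g i) ≤ mem u i := by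
  constructor <;> intro i hi <;>
    rw [show i = ((⟨i, hi⟩ : Fin n).castSucc : ℕ) from rfl, mem_val,
      show ((⟨i, hi⟩ : Fin n).castSucc : ℕ) + 1 = ((⟨i, hi⟩ : Fin n).succ : ℕ) from rfl, mem_val]
  · rw [show ((⟨i, hi⟩ : Fin n).castSucc : ℕ) = ((⟨i, hi⟩ : Fin n) : ℕ) from rfl, FA_apply]
    exact (hu ⟨i, hi⟩).1
  · rw [show ((⟨i, hi⟩ : Fin n).castSucc : ℕ) = ((⟨i, hi⟩ : Fin n) : ℕ) from rfl, FA_apply]
    exact (hu ⟨i, hi⟩).2

theorem smul_eq {s : k} (hI : ∀ i, (f i).comp (g i) = s • LinearMap.id)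
    (A : Type u) [CommRing A] [Algebra k A] {i : ℕ} (hi : i < n) (z : E k d A) :
    FA A f i (FA A g i z) = algebraMap k A s • z := by
  rw [show i = ((⟨i, hi⟩ : Fin n) : ℕ) from rfl, FA_apply, FA_apply, ← LinearMap.comp_apply,
    ← LinearMap.baseChange_comp, hI]
  simp [algebraMap_smul]

theorem Phi_FA {A B : Type u} [CommRing A] [Algebra k A] [CommRing B] [Algebra k B] (φ : A →ₐ[k] B)
    (f : Fin n → ((Fin d → k) →ₗ[k] (Fin d → k))) (i : ℕ) (z : E k d A) :
    Phi φ (FA A f i z) = FA B f i (Phi φ z) :=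
  Phi_baseChange φ _ z

variable (f g) in
/-- The vectors transported to the `i`-th place. -/
noncomputable def frame {A : Type u} [CommRing A] [Algebra k A] (j : Fin r → ℕ) (c : Fin r → E k d A)
    (i : ℕ) (l : Fin r) : E k d A :=
  tr (FA A f) (FA A g) (j l) i (c l)

theorem Phi_frame {A B : Type u} [CommRing A] [Algebra k A] [CommRing B] [Algebra k B] (φ : A →ₐ[k] B)
    (j : Fin r → ℕ) (c : Fin r → E k d A) (i : ℕ) (l : Fin r) :
    Phi φ (frame f g j c i l) = frame f g j (fun l => Phi φ (c l)) i l :=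
  map_tr (Phi φ) (Phi_FA φ f) (Phi_FA φ g) _ _ _

theorem exists_mem_Phi_eq {A B : Type u} [CommRing A] [Algebra k A] [CommRing B] [Algebra k B]
    (φ : A →ₐ[k] B) (hφ : Function.Surjective φ) (G : Module.Grassmannian A (E k d A) (d - r)) {z : E k d B}
    (hz : z ∈ (Module.Grassmannian.map φ G).toSubmodule) : ∃ w ∈ G.toSubmodule, Phi φ w = z := by
  have h := map_le_span φ G hz
  clear hz
  induction h using Submodule.span_induction with
  | mem x hx => exact hx
  | zero => exact ⟨0, zero_mem _, map_zero _⟩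
  | add x y _ _ hx hy =>
    obtain ⟨a, ha, rfl⟩ := hx
    obtain ⟨b, hb, rfl⟩ := hy
    exact ⟨a + b, add_mem ha hb, map_add _ _ _⟩
  | smul c x _ hx =>
    obtain ⟨a, ha, rfl⟩ := hx
    obtain ⟨c, rfl⟩ := hφ c
    exact ⟨c • a, Submodule.smul_mem _ _ ha, Phi_smul _ _ _⟩

theorem finrank_eq (hrd : r ≤ d) {K : Type u} [Field K] [Algebra k K]
    (G : Module.Grassmannian K (E k d K) (d - r)) : Module.finrank K G.toSubmodule = r := by
  have h1 := G.rankAtStalk_eq ⟨⊥, Ideal.isPrime_bot⟩
  rw [Module.rankAtStalk_eq_finrank_of_free] at h1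
  have h2 := G.toSubmodule.finrank_quotient_add_finrank
  have : Nontrivial k := (algebraMap k K).domain_nontrivial
  rw [Module.finrank_baseChange, Module.finrank_fin_fun] at h2
  simp at h1
  omega

theorem exists_mnr_ne_zero {K : Type u} [Field K] [Algebra k K] {M : Fin r → E k d K}
    (hM : LinearIndependent K M) : ∃ L : (Fin d → k) →ₗ[k] (Fin r → k), mnr L M ≠ 0 := by
  classical
  let co : E k d K ≃ₗ[K] (Fin d → K) := TensorProduct.piScalarRight k K K (Fin d)
  let X : Matrix (Fin d) (Fin r) K := Matrix.of fun a b => co (M b) a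
  have hX : X.rank = r := by
    rw [Matrix.rank_eq_finrank_span_cols, show X.col = co ∘ M from rfl]
    exact (finrank_span_eq_card (hM.map' co.toLinearMap co.ker)).trans (Fintype.card_fin r)
  have hrow : Module.finrank K (Submodule.span K (Set.range X.row)) = r := by
    rw [← Matrix.rank_eq_finrank_span_row, hX]
  obtain ⟨v, hv, -, hv2⟩ := Submodule.exists_fun_fin_finrank_span_eq K (Set.range X.row)
  choose σ hσ using hv
  refine ⟨LinearMap.funLeft k k (fun a : Fin r => σ (Fin.cast hrow.symm a)), ?_⟩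
  have hc : ∀ (z : E k d K) (a : Fin r),
      crd K (LinearMap.funLeft k k (fun a : Fin r => σ (Fin.cast hrow.symm a))) z a =
        co z (σ (Fin.cast hrow.symm a)) := by
    intro z a
    induction z using TensorProduct.induction_on with
    | zero => simp
    | tmul b w => simp [crd_tmul, co, LinearMap.funLeft]
    | add x y hx hy => simp only [map_add, Pi.add_apply, hx, hy]
  rw [mnr, ← isUnit_iff_ne_zero, ← Matrix.isUnit_iff_isUnit_det, ← Matrix.linearIndependent_rows_iff_isUnit]
  have hrows : (Matrix.of fun a b => crd K (LinearMap.funLeft k k fun a : Fin r =>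
      σ (Fin.cast hrow.symm a)) (M b) a).row = v ∘ Fin.cast hrow.symm := by
    funext a
    rw [Function.comp_apply, ← hσ]
    funext b
    exact hc (M b) a
  rw [hrows]
  exact hv2.comp (Fin.cast hrow.symm) (Fin.cast_injective _)

end General

variable {k : Type u} [Field k] {d r n : ℕ} {f g : Fin n → ((Fin d → k) →ₗ[k] (Fin d → k))}

theorem exists_frame_exact {s : k} (hrd : r ≤ d)
    (hI : ∀ i, (f i).comp (g i) = s • LinearMap.id ∧ (g i).comp (f i) = s • LinearMap.id)
    (hIII : ∀ i j : Fin n, i.val + 1 = j.val → LinearMap.range (f i) ⊓ LinearMap.ker (f j) = ⊥)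
    {u : Fin (n + 1) → Module.Grassmannian k (E k d k) (d - r)} (hu : u ∈ LGPoints k d r n f g k)
    (hex : IsExact k d r n f g k u) :
    ∃ (j : Fin r → ℕ) (c : Fin r → E k d k), (∀ l, j l ≤ n ∧ c l ∈ mem u (j l)) ∧
      ∀ i ≤ n, ∃ L : (Fin d → k) →ₗ[k] (Fin r → k), mnr L (frame f g j c i) ≠ 0 := by
  obtain ⟨hF, hG⟩ := mem_linked hu
  have hI1 := fun i hi => smul_eq (fun i => (hI i).1) k (i := i) hi
  have hI2 := fun i hi => smul_eq (f := g) (g := f) (fun i => (hI i).2) k (i := i) hi
  obtain ⟨j, c, h1, h2⟩ := exists_frame (F := FA k f) (G := FA k g) (V := mem u) (n := n) (r := r)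
    hI1 hI2 hF hG (fun i _ => finrank_eq hrd _) (fun i hi => by
      have h := (hex ⟨i, hi⟩).2
      rw [← mem_val, ← mem_val, ← FA_apply, ← FA_apply] at h
      exact h) (fun i hi => by
      rw [Submodule.eq_bot_iff]
      rintro z ⟨⟨w, rfl⟩, hz⟩
      have h3 := hIII ⟨i, by omega⟩ ⟨i + 1, hi⟩ rfl
      rw [FA, extend, dif_pos hi, SetLike.mem_coe, LinearMap.mem_ker, FA, extend, dif_pos (by omega)] at hz
      rw [FA, extend, dif_pos (show i < n by omega)]
      have key : ∀ (φ : (Fin d → k) →ₗ[k] (Fin d → k)) (v : E k d k),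
          TensorProduct.lid k _ (φ.baseChange k v) = φ (TensorProduct.lid k _ v) := by
        intro φ v
        induction v using TensorProduct.induction_on with
        | zero => simp
        | tmul a b => simp
        | add x y hx hy => simp only [map_add, hx, hy]
      apply (TensorProduct.lid k (Fin d → k)).injective
      rw [map_zero, ← Submodule.mem_bot k, ← h3, key]
      refine ⟨⟨_, rfl⟩, ?_⟩
      rw [SetLike.mem_coe, LinearMap.mem_ker, ← key, ← key, hz, map_zero])
  exact ⟨j, c, h1, fun i hi => exists_mnr_ne_zero (h2 i hi)⟩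

theorem exists_lift {s : k} (hrd : r ≤ d)
    (hI : ∀ i, (f i).comp (g i) = s • LinearMap.id ∧ (g i).comp (f i) = s • LinearMap.id)
    (hIII : ∀ i j : Fin n, i.val + 1 = j.val → LinearMap.range (f i) ⊓ LinearMap.ker (f j) = ⊥)
    {B : Type u} [CommRing B] [Algebra k B]
    {u : Fin (n + 1) → Module.Grassmannian B (E k d B) (d - r)} (hu : u ∈ LGPoints k d r n f g B)
    (φ₀ : B →ₐ[k] k) (u₀ : Fin (n + 1) → Module.Grassmannian k (E k d k) (d - r))
    (hu₀ : u₀ ∈ LGPoints k d r n f g k) (hφ₀ : ∀ i, Module.Grassmannian.map φ₀ (u i) = u₀ i)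
    (hex : IsExact k d r n f g k u₀)
    {C : Type u} [CommRing C] [Algebra k C] (I : Ideal C) (hI2 : I ^ 2 = ⊥) (β : B →ₐ[k] C ⧸ I)
    (hβ : ∀ b, φ₀ b ≠ 0 → IsUnit (β b)) :
    ∃ W : Fin (n + 1) → Module.Grassmannian C (E k d C) (d - r), W ∈ LGPoints k d r n f g C ∧
      ∀ i, Module.Grassmannian.map (Ideal.Quotient.mkₐ k I) (W i) = Module.Grassmannian.map β (u i) := by
  obtain ⟨j, c, hjc, hL⟩ := exists_frame_exact hrd hI hIII hu₀ hex
  have hsurj : Function.Surjective φ₀ := fun a => ⟨algebraMap k B a, by simp⟩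
  have hlift : ∀ l, ∃ w ∈ mem u (j l), Phi φ₀ w = c l := fun l => by
    have h := (hjc l).2
    rw [mem] at h ⊢
    rw [← hφ₀] at h
    exact exists_mem_Phi_eq φ₀ hsurj _ h
  choose cB hcB hcB' using hlift
  choose L hL using fun i : Fin (n + 1) => hL i (Nat.le_of_lt_succ i.isLt)
  have hB : ∀ i : Fin (n + 1), IsUnit (β (mnr (L i) (frame f g j cB i))) := fun i => hβ _ (by
    rw [← mnr_Phi]
    convert hL i using 2
    funext l
    rw [Phi_frame]
    simp only [hcB'])
  choose cC hcC using fun l => Phi_surjective (Ideal.Quotient.mkₐ k I) Ideal.Quotient.mk_surjective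
    (Phi β (cB l))
  have hfr : ∀ i : ℕ, (fun l => Phi (Ideal.Quotient.mkₐ k I) (frame f g j cC i l)) =
      fun l => Phi β (frame f g j cB i l) := fun i => by
    funext l
    rw [Phi_frame, Phi_frame]
    simp only [hcC]
  have hC : ∀ i : Fin (n + 1), IsUnit (mnr (L i) (frame f g j cC i)) := fun i => by
    have h := hB i
    rw [← mnr_Phi, ← hfr, mnr_Phi, Ideal.Quotient.mkₐ_eq_mk] at h
    exact (IsNilpotent.isUnit_quotient_mk_iff ⟨2, hI2⟩).1 h
  refine ⟨fun i => spanPt (hC i), fun i => ?_, fun i => ?_⟩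
  · constructor <;>
    · rw [Submodule.map_le_iff_le_comap]
      refine Submodule.span_le.2 ?_
      rintro _ ⟨l, rfl⟩
      simp only [SetLike.mem_coe, Submodule.mem_comap, spanPt, ← FA_apply, Fin.val_castSucc, Fin.val_succ,
        frame]
      first
        | obtain ⟨a, ha⟩ := forward_tr (G := FA C g) (smul_eq (fun i => (hI i).1) C i.isLt) (j l)
          rw [ha]
          exact Submodule.smul_mem _ _ (Submodule.subset_span ⟨l, rfl⟩)
        | obtain ⟨a, ha⟩ := backward_tr (F := FA C f) (smul_eq (f := g) (g := f) (fun i => (hI i).2) C i.isLt) (j l)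
          rw [ha]
          exact Submodule.smul_mem _ _ (Submodule.subset_span ⟨l, rfl⟩)
  · obtain ⟨hF, hG⟩ := mem_linked hu
    refine Module.Grassmannian.ext ?_
    rw [map_eq_span _ (spanPt (hC i)) (fun b => Submodule.subset_span ⟨b, rfl⟩) ((hC i).map _),
      map_eq_span β (u i) (fun b => ?_) (hB i), hfr]
    rw [← mem_val u i]
    exact tr_mem hF hG (hjc b).1 (Nat.le_of_lt_succ i.isLt) (hcB b)

theorem exists_chart (hrd : r ≤ d) {B : Type u} [CommRing B] [Algebra k B]
    (G : Module.Grassmannian B (E k d B) (d - r)) (p : Ideal B) [p.IsPrime] :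
    ∃ (L : (Fin d → k) →ₗ[k] (Fin r → k)) (M : Fin r → E k d B),
      (∀ b, M b ∈ G.toSubmodule) ∧ mnr L M ∉ p := by
  let φ := IsScalarTower.toAlgHom k B p.ResidueField
  have hspan : Submodule.span p.ResidueField (Phi φ '' (G.toSubmodule : Set (E k d B))) =
      (Module.Grassmannian.map φ G).toSubmodule :=
    le_antisymm (Submodule.span_le.2 (by rintro _ ⟨z, hz, rfl⟩; exact Phi_mem_map φ G hz)) (map_le_span φ G)
  have hfin : Module.finrank p.ResidueField
      (Submodule.span p.ResidueField (Phi φ '' (G.toSubmodule : Set (E k d B)))) = r := by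
    rw [hspan, finrank_eq hrd]
  obtain ⟨v, hv, -, hv2⟩ := Submodule.exists_fun_fin_finrank_span_eq p.ResidueField
    (Phi φ '' (G.toSubmodule : Set (E k d B)))
  choose w hw hw' using hv
  obtain ⟨L, hL⟩ := exists_mnr_ne_zero (hv2.comp (Fin.cast hfin.symm) (Fin.cast_injective _))
  refine ⟨L, fun b => w (Fin.cast hfin.symm b), fun b => hw _, fun h => hL ?_⟩
  have h2 : (v ∘ Fin.cast hfin.symm) = fun b => Phi φ (w (Fin.cast hfin.symm b)) := by
    funext b; exact (hw' _).symm
  rw [h2, mnr_Phi]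
  exact Ideal.algebraMap_residueField_eq_zero.2 h

theorem exists_descent (hrd : r ≤ d) {B : Type u} [CommRing B] [Algebra k B]
    {u : Fin (n + 1) → Module.Grassmannian B (E k d B) (d - r)} (hu : u ∈ LGPoints k d r n f g B)
    (p : Ideal B) [p.IsPrime] :
    ∃ a ∉ p, ∃ B₀ : Subalgebra k (Localization.Away a), B₀.FG ∧
      ∃ u₀ ∈ LGPoints k d r n f g B₀, ∀ i, Module.Grassmannian.map B₀.val (u₀ i) =
        Module.Grassmannian.map (IsScalarTower.toAlgHom k B (Localization.Away a)) (u i) := by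
  classical
  choose L M hM hLM using fun i => exists_chart hrd (u i) p
  refine ⟨∏ i, mnr (L i) (M i), fun h => ?_, ?_⟩
  · obtain ⟨i, -, hi⟩ := Ideal.IsPrime.prod_mem_iff.1 h
    exact hLM i hi
  set a := ∏ i, mnr (L i) (M i) with ha
  let R := Localization.Away a
  let ψ := IsScalarTower.toAlgHom k B R
  have hu' : ∀ i, IsUnit (ψ (mnr (L i) (M i))) := fun i =>
    isUnit_of_dvd_unit (map_dvd ψ (show mnr (L i) (M i) ∣ a from
      Finset.dvd_prod_of_mem (fun i => mnr (L i) (M i)) (Finset.mem_univ i)))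
      (IsLocalization.Away.algebraMap_isUnit a)
  have hspan := fun i => map_eq_span ψ (u i) (hM i) (hu' i)
  have hcoef : ∀ i : Fin n, ∀ b, ∃ x y : Fin r → R,
      ∑ c, x c • Phi ψ (M i.succ c) = (f i).baseChange R (Phi ψ (M i.castSucc b)) ∧
      ∑ c, y c • Phi ψ (M i.castSucc c) = (g i).baseChange R (Phi ψ (M i.succ b)) := by
    intro i b
    have h1 : (f i).baseChange R (Phi ψ (M i.castSucc b)) ∈ (Module.Grassmannian.map ψ (u i.succ)).toSubmodule := by
      rw [← Phi_baseChange]
      exact Phi_mem_map ψ _ ((hu i).1 (Submodule.mem_map_of_mem (hM _ b)))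
    have h2 : (g i).baseChange R (Phi ψ (M i.succ b)) ∈ (Module.Grassmannian.map ψ (u i.castSucc)).toSubmodule := by
      rw [← Phi_baseChange]
      exact Phi_mem_map ψ _ ((hu i).2 (Submodule.mem_map_of_mem (hM _ b)))
    rw [hspan] at h1 h2
    obtain ⟨x, hx⟩ := exists_eq_sum_of_mem_span h1
    obtain ⟨y, hy⟩ := exists_eq_sum_of_mem_span h2
    exact ⟨x, y, hx, hy⟩
  choose x y hx hy using hcoef
  let co : E k d R ≃ₗ[R] (Fin d → R) := TensorProduct.piScalarRight k R R (Fin d)
  let S : Finset R :=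
    (Finset.univ.image fun q : Fin (n + 1) × Fin r × Fin d => co (Phi ψ (M q.1 q.2.1)) q.2.2) ∪
    (Finset.univ.image fun i => ((hu' i).unit⁻¹ : Rˣ).val) ∪
    (Finset.univ.image fun q : Fin n × Fin r × Fin r => x q.1 q.2.1 q.2.2) ∪
    (Finset.univ.image fun q : Fin n × Fin r × Fin r => y q.1 q.2.1 q.2.2)
  let B₀ := Algebra.adjoin k (S : Set R)
  refine ⟨B₀, ⟨S, rfl⟩, ?_⟩
  have hS : ∀ {z : R}, z ∈ S → z ∈ B₀ := fun h => Algebra.subset_adjoin h
  have hinj : Function.Injective (Phi (d := d) B₀.val) := Phi_injective _ Subtype.val_injective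
  let co₀ : E k d B₀ ≃ₗ[B₀] (Fin d → B₀) := TensorProduct.piScalarRight k B₀ B₀ (Fin d)
  have hco : ∀ (z : E k d B₀) (t : Fin d), co (Phi B₀.val z) t = (co₀ z t : R) := by
    intro z t
    induction z using TensorProduct.induction_on with
    | zero => simp
    | tmul b w => simp [co, co₀]
    | add p q hp hq => simp only [map_add, Pi.add_apply, Subalgebra.coe_add, hp, hq]
  let M₀ : Fin (n + 1) → Fin r → E k d B₀ := fun i b => co₀.symm fun t =>
    ⟨co (Phi ψ (M i b)) t, hS (by simp [S])⟩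
  have hM₀ : ∀ i b, Phi B₀.val (M₀ i b) = Phi ψ (M i b) := fun i b => co.injective (funext fun t => by
    rw [hco]; simp [M₀])
  have hu₀ : ∀ i, IsUnit (mnr (L i) (M₀ i)) := fun i => by
    have h : B₀.val (mnr (L i) (M₀ i)) = ψ (mnr (L i) (M i)) := by
      rw [← mnr_Phi, ← mnr_Phi]; congr 1; funext b; exact hM₀ i b
    refine IsUnit.of_mul_eq_one ⟨((hu' i).unit⁻¹ : Rˣ).val, hS (by simp [S])⟩ (Subtype.ext ?_)
    rw [Subalgebra.coe_mul, Subalgebra.coe_one]
    change B₀.val (mnr (L i) (M₀ i)) * _ = 1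
    rw [h]
    exact (hu' i).mul_val_inv
  refine ⟨fun i => spanPt (hu₀ i), fun i => ?_, fun i => ?_⟩
  · constructor <;>
    · rw [Submodule.map_le_iff_le_comap]
      refine Submodule.span_le.2 ?_
      rintro _ ⟨b, rfl⟩
      simp only [SetLike.mem_coe, Submodule.mem_comap, spanPt, Submodule.mem_span_range_iff_exists_fun]
      first
        | refine ⟨fun c => ⟨x i b c, hS (by simp [S])⟩, hinj ?_⟩
          rw [Phi_linearCombination, Phi_baseChange, hM₀, ← hx]
          exact Finset.sum_congr rfl fun c _ => by rw [hM₀]; rfl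
        | refine ⟨fun c => ⟨y i b c, hS (by simp [S])⟩, hinj ?_⟩
          rw [Phi_linearCombination, Phi_baseChange, hM₀, ← hy]
          exact Finset.sum_congr rfl fun c _ => by rw [hM₀]; rfl
  · refine Module.Grassmannian.ext ?_
    rw [map_eq_span _ (spanPt (hu₀ i)) (fun b => Submodule.subset_span ⟨b, rfl⟩) ((hu₀ i).map _),
      hspan i]
    simp only [hM₀]
    rfl

end Groth.Agent.Lib.LinkGr
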