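import Groth.Agent.Lib.LinkGr.Pair
import Groth.Agent.Lib.GrassRep.AffinePoints
import Groth.Prelude.Def_W4c1limliniiiiLG
import Mathlib.AlgebraicGeometry.Morphisms.Proper
import Mathlib.CategoryTheory.Limits.Shapes.Equalizers

/-!
# The linked Grassmannian as a closed subscheme of a product of Grassmannians
-/

open AlgebraicGeometry CategoryTheory CategoryTheory.Limits W4c1limliniiii

universe u

namespace Groth.Agent.Lib.LinkGr.Repr

open Groth.Agent.Lib.GrassRep Pair

variable {R : Type u} [CommRing R]

/-- Powers of an object over the base. -/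
noncomputable def prodPow (G : Over (Spec (CommRingCat.of R))) : ℕ → Over (Spec (CommRingCat.of R))
  | 0 => Over.mk (𝟙 _)
  | m + 1 => Over.mk (pullback.fst (prodPow G m).hom G.hom ≫ (prodPow G m).hom)

/-- The projection to the lower power. -/
noncomputable def fstHom (G : Over (Spec (CommRingCat.of R))) (m : ℕ) : prodPow G (m + 1) ⟶ prodPow G m :=
  Over.homMk (pullback.fst (prodPow G m).hom G.hom) rfl

/-- The last projection. -/
noncomputable def sndHom (G : Over (Spec (CommRingCat.of R))) (m : ℕ) : prodPow G (m + 1) ⟶ G :=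
  Over.homMk (pullback.snd (prodPow G m).hom G.hom) pullback.condition.symm

/-- The morphism with given components. -/
noncomputable def mkHom {G T : Over (Spec (CommRingCat.of R))} {m : ℕ} (a : T ⟶ prodPow G m) (b : T ⟶ G) :
    T ⟶ prodPow G (m + 1) :=
  Over.homMk (pullback.lift a.left b.left ((Over.w a).trans (Over.w b).symm))
    ((pullback.lift_fst_assoc _ _ _ _).trans (Over.w a))

theorem mkHom_fst {G T : Over (Spec (CommRingCat.of R))} {m : ℕ} (a : T ⟶ prodPow G m) (b : T ⟶ G) :
    mkHom a b ≫ fstHom G m = a :=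
  Over.OverMorphism.ext (pullback.lift_fst _ _ _)

theorem mkHom_snd {G T : Over (Spec (CommRingCat.of R))} {m : ℕ} (a : T ⟶ prodPow G m) (b : T ⟶ G) :
    mkHom a b ≫ sndHom G m = b :=
  Over.OverMorphism.ext (pullback.lift_snd _ _ _)

theorem hom_ext_prod {G T : Over (Spec (CommRingCat.of R))} {m : ℕ} {z z' : T ⟶ prodPow G (m + 1)}
    (h₁ : z ≫ fstHom G m = z' ≫ fstHom G m) (h₂ : z ≫ sndHom G m = z' ≫ sndHom G m) : z = z' :=
  Over.OverMorphism.ext (pullback.hom_ext (congrArg CommaMorphism.left h₁) (congrArg CommaMorphism.left h₂))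

/-- Morphisms into a power. -/
noncomputable def prodPowEquiv (G T : Over (Spec (CommRingCat.of R))) :
    (m : ℕ) → (T ⟶ prodPow G m) ≃ (Fin m → (T ⟶ G))
  | 0 =>
    { toFun := fun _ i => i.elim0
      invFun := fun _ => Over.homMk T.hom (Category.comp_id _)
      left_inv := fun z => Over.OverMorphism.ext ((Category.comp_id z.left).symm.trans (Over.w z)).symm
      right_inv := fun _ => funext fun i => i.elim0 }
  | m + 1 =>
    { toFun := fun z => Fin.snoc (α := fun _ => T ⟶ G) (prodPowEquiv G T m (z ≫ fstHom G m)) (z ≫ sndHom G m)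
      invFun := fun v => mkHom ((prodPowEquiv G T m).symm (Fin.init v)) (v (Fin.last m))
      left_inv := fun z => hom_ext_prod (by rw [mkHom_fst, Fin.init_snoc, Equiv.symm_apply_apply])
        (by rw [mkHom_snd]; exact Fin.snoc_last _ _)
      right_inv := fun v => by
        simp only [mkHom_fst, mkHom_snd, Equiv.apply_symm_apply]
        exact Fin.snoc_init_self v }

theorem prodPowEquiv_comp (G : Over (Spec (CommRingCat.of R))) {T T' : Over (Spec (CommRingCat.of R))}
    (p : T' ⟶ T) : ∀ (m : ℕ) (z : T ⟶ prodPow G m) (i : Fin m),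
      prodPowEquiv G T' m (p ≫ z) i = p ≫ prodPowEquiv G T m z i
  | 0, _, i => i.elim0
  | m + 1, z, i => by
    refine Fin.lastCases ?_ (fun i => ?_) i
    · simp only [prodPowEquiv, Equiv.coe_fn_mk, Fin.snoc_last, Category.assoc]
    · simp only [prodPowEquiv, Equiv.coe_fn_mk, Fin.snoc_castSucc, Category.assoc]
      rw [prodPowEquiv_comp G p m]

theorem isProper_prodPow (G : Over (Spec (CommRingCat.of R))) [IsProper G.hom] :
    ∀ m, IsProper (prodPow G m).hom
  | 0 => inferInstanceAs (IsProper (𝟙 _))
  | m + 1 => by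
    have := isProper_prodPow G m
    exact inferInstanceAs (IsProper (pullback.fst (prodPow G m).hom G.hom ≫ (prodPow G m).hom))

variable (R) (d r n : ℕ)

/-- The Grassmannian of rank `r` sub-bundles of `R^d`. -/
noncomputable abbrev gr : Over (Spec (CommRingCat.of R)) := grass R (Fin d → R) (d - r)

/-- The Grassmannian of pairs. -/
noncomputable abbrev gr2 : Over (Spec (CommRingCat.of R)) := grass R (Fin (d + d) → R) ((d - r) + (d - r))

variable {R d r n}

/-- The first projection. -/
noncomputable def p₁ : (Fin (d + d) → R) →ₗ[R] (Fin d → R) := LinearMap.funLeft R R (Fin.castAdd d)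

/-- The second projection. -/
noncomputable def p₂ : (Fin (d + d) → R) →ₗ[R] (Fin d → R) := LinearMap.funLeft R R (Fin.natAdd d)

/-- The first injection. -/
noncomputable def i₁ : (Fin d → R) →ₗ[R] (Fin (d + d) → R) :=
  LinearMap.pi (Fin.append (fun a => LinearMap.proj a) (fun _ => 0))

/-- The second injection. -/
noncomputable def i₂ : (Fin d → R) →ₗ[R] (Fin (d + d) → R) :=
  LinearMap.pi (Fin.append (fun _ => 0) (fun a => LinearMap.proj a))

theorem isSplit_proj : IsSplit (p₁ (R := R) (d := d)) p₂ i₁ i₂ := by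
  exact ⟨LinearMap.ext fun v => funext fun a => LinearMap.congr_fun (Fin.append_left _ _ a) v,
    LinearMap.ext fun v => funext fun a => LinearMap.congr_fun (Fin.append_right _ _ a) v,
    LinearMap.ext fun v => funext fun a => LinearMap.congr_fun (Fin.append_left _ _ a) v,
    LinearMap.ext fun v => funext fun a => LinearMap.congr_fun (Fin.append_right _ _ a) v⟩

variable (f g : Fin n → ((Fin d → R) →ₗ[R] (Fin d → R)))

/-- The conditions on a tuple: sources, targets and maps. -/
def cond : Fin (n + n) → Fin (n + 1) × Fin (n + 1) × ((Fin d → R) →ₗ[R] (Fin d → R)) :=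
  Fin.append (fun i => (i.castSucc, i.succ, f i)) (fun i => (i.succ, i.castSucc, g i))

variable {A B : Type u} [CommRing A] [Algebra R A] [CommRing B] [Algebra R B]

/-- The tuple of a point of the product. -/
noncomputable def tup (z : pt R A ⟶ prodPow (gr R d r) (n + 1)) (i : Fin (n + 1)) :
    Gr R (Fin d → R) (d - r) A :=
  grassEquiv A (prodPowEquiv _ _ (n + 1) z i)

theorem tup_natural (φ : A →ₐ[R] B) (z : pt R A ⟶ prodPow (gr R d r) (n + 1))
    (z' : pt R B ⟶ prodPow (gr R d r) (n + 1)) (h : z'.left = Sp φ ≫ z.left) (i : Fin (n + 1)) :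
    tup z' i = Module.Grassmannian.map φ (tup z i) := by
  let p : pt R B ⟶ pt R A := Over.homMk (Sp φ) (Sp_str φ)
  obtain rfl : z' = p ≫ z := Over.OverMorphism.ext h
  rw [tup, prodPowEquiv_comp]
  exact grassEquiv_natural φ _ _ rfl

/-- The plain pairs. -/
noncomputable def pairs (v : Fin (n + 1) → Gr R (Fin d → R) (d - r) A) (c : Fin (n + n)) :
    Gr R (Fin (d + d) → R) ((d - r) + (d - r)) A :=
  pairPt isSplit_proj (v (cond f g c).1) (v (cond f g c).2.1)

/-- The twisted pairs. -/
noncomputable def twists (v : Fin (n + 1) → Gr R (Fin d → R) (d - r) A) (c : Fin (n + n)) :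
    Gr R (Fin (d + d) → R) ((d - r) + (d - r)) A :=
  pairPt (isSplit_twist (cond f g c).2.2 isSplit_proj) (v (cond f g c).1) (v (cond f g c).2.1)

theorem pairs_eq_twists_iff (v : Fin (n + 1) → Gr R (Fin d → R) (d - r) A) :
    pairs f g v = twists f g v ↔ v ∈ LGPoints R d r n f g A := by
  rw [funext_iff]
  simp only [pairs, twists, pairPt_eq_iff]
  constructor
  · intro h i
    have h1 := h (Fin.castAdd n i)
    have h2 := h (Fin.natAdd n i)
    rw [cond, Fin.append_left] at h1
    rw [cond, Fin.append_right] at h2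
    exact ⟨h1, h2⟩
  · intro h c
    refine Fin.addCases (fun i => ?_) (fun i => ?_) c
    · rw [cond, Fin.append_left]; exact (h i).1
    · rw [cond, Fin.append_right]; exact (h i).2

theorem pairs_map (φ : A →ₐ[R] B) (v : Fin (n + 1) → Gr R (Fin d → R) (d - r) A) (c : Fin (n + n)) :
    Module.Grassmannian.map φ (pairs f g v c) = pairs f g (fun i => Module.Grassmannian.map φ (v i)) c :=
  pairPt_map _ φ _ _

theorem twists_map (φ : A →ₐ[R] B) (v : Fin (n + 1) → Gr R (Fin d → R) (d - r) A) (c : Fin (n + n)) :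
    Module.Grassmannian.map φ (twists f g v c) = twists f g (fun i => Module.Grassmannian.map φ (v i)) c :=
  pairPt_map _ φ _ _

theorem exists_hom_of_family
    (F : ∀ (A : Type u) [CommRing A] [Algebra R A], (Fin (n + 1) → Gr R (Fin d → R) (d - r) A) →
      Fin (n + n) → Gr R (Fin (d + d) → R) ((d - r) + (d - r)) A)
    (hF : ∀ (A B : Type u) [CommRing A] [Algebra R A] [CommRing B] [Algebra R B] (φ : A →ₐ[R] B) v c,
      Module.Grassmannian.map φ (F A v c) = F B (fun i => Module.Grassmannian.map φ (v i)) c) :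
    ∃ Φ : prodPow (gr R d r) (n + 1) ⟶ prodPow (gr2 R d r) (n + n),
      ∀ (A : Type u) [CommRing A] [Algebra R A] (z : pt R A ⟶ prodPow (gr R d r) (n + 1)) (c : Fin (n + n)),
        grassEquiv A (prodPowEquiv _ _ _ (z ≫ Φ) c) = F A (tup z) c := by
  obtain ⟨Φ, hΦ⟩ := exists_hom (X := prodPow (gr R d r) (n + 1)) (Y := prodPow (gr2 R d r) (n + n))
    (fun A _ _ z => (prodPowEquiv _ _ (n + n)).symm fun c => (grassEquiv A).symm (F A (tup z) c)) (by
      intro A B _ _ _ _ φ z z' h
      let p : pt R B ⟶ pt R A := Over.homMk (Sp φ) (Sp_str φ)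
      refine (congrArg CommaMorphism.left (?_ : p ≫ _ = _)).symm
      refine (prodPowEquiv _ _ _).injective (funext fun c => (grassEquiv B).injective ?_)
      rw [prodPowEquiv_comp, Equiv.apply_symm_apply, Equiv.apply_symm_apply, Equiv.apply_symm_apply,
        show tup z' = fun i => Module.Grassmannian.map φ (tup z i) from funext (tup_natural φ z z' h), ← hF]
      exact (grassEquiv_natural φ ((grassEquiv A).symm _) _ rfl).trans (by rw [Equiv.apply_symm_apply]))
  refine ⟨Φ, fun A _ _ z c => ?_⟩
  rw [hΦ, Equiv.apply_symm_apply, Equiv.apply_symm_apply]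

theorem exists_representation [IsProper (gr R d r).hom] [IsProper (gr2 R d r).hom] :
    ∃ (X : Over (Spec (CommRingCat.of R)))
      (e : ∀ A : CommAlgCat.{u} R,
        (Over.mk (Spec.map (CommRingCat.ofHom (algebraMap R A))) ⟶ X) ≃ LGPoints R d r n f g A),
      (∀ (A B : CommAlgCat.{u} R) (φ : A ⟶ B)
        (x : Over.mk (Spec.map (CommRingCat.ofHom (algebraMap R A))) ⟶ X)
        (x' : Over.mk (Spec.map (CommRingCat.ofHom (algebraMap R B))) ⟶ X),
        x'.left = Spec.map (CommRingCat.ofHom φ.hom.toRingHom) ≫ x.left →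
          ∀ i, (e B x').1 i = Module.Grassmannian.map φ.hom ((e A x).1 i)) ∧
      IsProper X.hom := by
  obtain ⟨a, ha⟩ := exists_hom_of_family (fun A _ _ => pairs f g (r := r) (A := A))
    (fun A B _ _ _ _ φ v c => pairs_map f g φ v c)
  obtain ⟨b, hb⟩ := exists_hom_of_family (fun A _ _ => twists f g (r := r) (A := A))
    (fun A B _ _ _ _ φ v c => twists_map f g φ v c)
  have key : ∀ (A : Type u) [CommRing A] [Algebra R A] (z : pt R A ⟶ prodPow (gr R d r) (n + 1)),
      z ≫ a = z ≫ b ↔ tup z ∈ LGPoints R d r n f g A := by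
    intro A _ _ z
    rw [← pairs_eq_twists_iff, funext_iff, ← (prodPowEquiv _ _ _).injective.eq_iff, funext_iff]
    refine forall_congr' fun c => ?_
    rw [← (grassEquiv A).injective.eq_iff, ha, hb]
  let ι := equalizer.ι a b
  let e : ∀ A : CommAlgCat.{u} R,
      (pt R A ⟶ equalizer a b) ≃ LGPoints R d r n f g A := fun A =>
    { toFun := fun x => ⟨tup (x ≫ ι), (key A _).1
        ((Category.assoc _ _ _).trans ((congrArg (x ≫ ·) (equalizer.condition a b)).trans
          (Category.assoc _ _ _).symm))⟩
      invFun := fun v => equalizer.lift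
        ((prodPowEquiv _ _ _).symm fun i => (grassEquiv A).symm (v.1 i)) ((key A _).2 (by
          rw [show tup ((prodPowEquiv _ _ (n + 1)).symm fun i => (grassEquiv A).symm (v.1 i)) = v.1 from
            funext fun i => by simp [tup]]
          exact v.2))
      left_inv := fun x => equalizer.hom_ext ((equalizer.lift_ι _ _).trans
        ((prodPowEquiv _ _ _).injective (by simp [tup, ι])))
      right_inv := fun v => Subtype.ext (funext fun i => by simp [tup, ι]) }
  refine ⟨equalizer a b, e, fun A B φ x x' h i => tup_natural φ.hom (x ≫ ι) (x' ≫ ι) ?_ i, ?_⟩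
  · rw [Over.comp_left, Over.comp_left, h, Category.assoc]
  · have := isProper_prodPow (gr R d r) (n + 1)
    have := isProper_prodPow (gr2 R d r) (n + n)
    rw [← Over.w ι]
    infer_instance

end Groth.Agent.Lib.LinkGr.Repr
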