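import Groth.Agent.Lib.LinkGr.Points
import Mathlib.AlgebraicGeometry.Stalk
import Mathlib.AlgebraicGeometry.Noetherian
import Mathlib.AlgebraicGeometry.Morphisms.Smooth
import Mathlib.RingTheory.RingHom.Smooth

/-!
# Smoothness of the linked Grassmannian at exact rational points
-/

open AlgebraicGeometry CategoryTheory W4c1limliniiii

universe u

namespace Groth.Agent.Lib.LinkGr

section General

variable {k : Type u} [CommRing k] {d r n : ℕ} {f g : Fin n → ((Fin d → k) →ₗ[k] (Fin d → k))}
  {X : Over (Spec (CommRingCat.of k))}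

/-- The structure map of the spectrum of a `k`-algebra. -/
noncomputable abbrev str (k : Type u) [CommRing k] (A : Type u) [CommRing A] [Algebra k A] :
    Spec (CommRingCat.of A) ⟶ Spec (CommRingCat.of k) :=
  Spec.map (CommRingCat.ofHom (algebraMap k A))

theorem str_comp {A B : Type u} [CommRing A] [Algebra k A] [CommRing B] [Algebra k B] (φ : A →ₐ[k] B) :
    Spec.map (CommRingCat.ofHom φ.toRingHom) ≫ str k A = str k B := by
  rw [str, str, ← Spec.map_comp, ← CommRingCat.ofHom_comp]
  congr 2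
  exact φ.comp_algebraMap

variable
  (e : ∀ A : CommAlgCat.{u} k,
    (Over.mk (Spec.map (CommRingCat.ofHom (algebraMap k A))) ⟶ X) ≃ LGPoints k d r n f g A)

/-- The tuple of a morphism from an affine scheme. -/
noncomputable def tuple {A : Type u} [CommRing A] [Algebra k A] (z : Spec (CommRingCat.of A) ⟶ X.left)
    (h : z ≫ X.hom = str k A) : LGPoints k d r n f g A :=
  e (CommAlgCat.of k A) (Over.homMk z h)

variable (he : ∀ (A B : CommAlgCat.{u} k) (φ : A ⟶ B)
      (x : Over.mk (Spec.map (CommRingCat.ofHom (algebraMap k A))) ⟶ X)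
      (x' : Over.mk (Spec.map (CommRingCat.ofHom (algebraMap k B))) ⟶ X),
      x'.left = Spec.map (CommRingCat.ofHom φ.hom.toRingHom) ≫ x.left →
        ∀ i, (e B x').1 i = Module.Grassmannian.map φ.hom ((e A x).1 i))

include he in
theorem tuple_map {A B : Type u} [CommRing A] [Algebra k A] [CommRing B] [Algebra k B] (φ : A →ₐ[k] B)
    (z : Spec (CommRingCat.of A) ⟶ X.left) (h : z ≫ X.hom = str k A)
    (z' : Spec (CommRingCat.of B) ⟶ X.left) (h' : z' ≫ X.hom = str k B)
    (hz : z' = Spec.map (CommRingCat.ofHom φ.toRingHom) ≫ z) (i : Fin (n + 1)) :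
    (tuple e z' h').1 i = Module.Grassmannian.map φ ((tuple e z h).1 i) :=
  he (CommAlgCat.of k A) (CommAlgCat.of k B) (CommAlgCat.ofHom φ) _ _ hz i

theorem tuple_injective {A : Type u} [CommRing A] [Algebra k A] {z z' : Spec (CommRingCat.of A) ⟶ X.left}
    {h : z ≫ X.hom = str k A} {h' : z' ≫ X.hom = str k A}
    (heq : ∀ i, (tuple e z h).1 i = (tuple e z' h').1 i) : z = z' :=
  congrArg (fun q : Over.mk _ ⟶ X => q.left)
    ((e (CommAlgCat.of k A)).injective (Subtype.ext (funext heq)))

theorem exists_tuple {A : Type u} [CommRing A] [Algebra k A] (W : LGPoints k d r n f g A) :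
    ∃ (z : Spec (CommRingCat.of A) ⟶ X.left) (h : z ≫ X.hom = str k A), tuple e z h = W :=
  ⟨((e (CommAlgCat.of k A)).symm W).left, Over.w _, (e (CommAlgCat.of k A)).apply_symm_apply W⟩

end General

variable {k : Type u} [Field k] {d r n : ℕ} {f g : Fin n → ((Fin d → k) →ₗ[k] (Fin d → k))}
  {X : Over (Spec (CommRingCat.of k))}
  (e : ∀ A : CommAlgCat.{u} k,
    (Over.mk (Spec.map (CommRingCat.ofHom (algebraMap k A))) ⟶ X) ≃ LGPoints k d r n f g A)
  (he : ∀ (A B : CommAlgCat.{u} k) (φ : A ⟶ B)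
      (x : Over.mk (Spec.map (CommRingCat.ofHom (algebraMap k A))) ⟶ X)
      (x' : Over.mk (Spec.map (CommRingCat.ofHom (algebraMap k B))) ⟶ X),
      x'.left = Spec.map (CommRingCat.ofHom φ.hom.toRingHom) ≫ x.left →
        ∀ i, (e B x').1 i = Module.Grassmannian.map φ.hom ((e A x).1 i))

include he in
theorem locallyOfFiniteType (hrd : r ≤ d) : LocallyOfFiniteType X.hom := by
  have key : ∀ pt : X.left, ∃ W : X.left.Opens, pt ∈ W ∧ LocallyOfFiniteType (W.ι ≫ X.hom) := by
    intro pt
    obtain ⟨_, ⟨U, hU, rfl⟩, hpU, -⟩ :=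
      X.left.isBasis_affineOpens.exists_subset_of_mem_open (Set.mem_univ pt) isOpen_univ
    have hU : IsAffineOpen U := hU
    have : IsOpenImmersion hU.fromSpec := hU.isOpenImmersion_fromSpec
    let ρ := Spec.preimage (hU.fromSpec ≫ X.hom)
    let : Algebra k Γ(X.left, U) := ρ.hom.toAlgebra
    have hj : hU.fromSpec ≫ X.hom = str k Γ(X.left, U) := (Spec.map_preimage _).symm
    let p := hU.primeIdealOf ⟨pt, hpU⟩
    let u := tuple e hU.fromSpec hj
    obtain ⟨a, ha, B₀, hB₀, u₀, hu₀, hmap⟩ := exists_descent hrd u.2 p.asIdeal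
    let R := Localization.Away a
    let ψ := IsScalarTower.toAlgHom k Γ(X.left, U) R
    have : Algebra.FiniteType k B₀ := B₀.fg_iff_finiteType.1 hB₀
    let jr : Spec (CommRingCat.of R) ⟶ X.left := Spec.map (CommRingCat.ofHom ψ.toRingHom) ≫ hU.fromSpec
    have hjr : jr ≫ X.hom = str k R := by rw [Category.assoc, hj]; exact str_comp ψ
    have hloc : IsOpenImmersion (Spec.map (CommRingCat.ofHom ψ.toRingHom)) :=
      IsOpenImmersion.of_isLocalization (S := R) a
    obtain ⟨y, hy, hy'⟩ := exists_tuple e (⟨u₀, hu₀⟩ : LGPoints k d r n f g B₀)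
    have heq : jr = Spec.map (CommRingCat.ofHom B₀.val.toRingHom) ≫ y := by
      have h2 : (Spec.map (CommRingCat.ofHom B₀.val.toRingHom) ≫ y) ≫ X.hom = str k R := by
        rw [Category.assoc, hy]; exact str_comp B₀.val
      refine tuple_injective e (h := hjr) (h' := h2) fun i => ?_
      rw [tuple_map e he ψ hU.fromSpec hj jr hjr rfl i, tuple_map e he B₀.val y hy _ h2 rfl i, hy']
      exact (hmap i).symm
    refine ⟨jr.opensRange, ⟨⟨p.asIdeal.map (algebraMap _ R),
      IsLocalization.isPrime_of_isPrime_disjoint (Submonoid.powers a) R p.asIdeal p.isPrime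
        ((Ideal.disjoint_powers_iff_notMem a p.isPrime.isRadical).2 ha)⟩, ?_⟩, ?_⟩
    · show hU.fromSpec (Spec.map (CommRingCat.ofHom ψ.toRingHom) _) = pt
      refine (congrArg _ ?_).trans (hU.fromSpec_primeIdealOf ⟨pt, hpU⟩)
      exact PrimeSpectrum.ext (IsLocalization.under_map_of_isPrime_disjoint (Submonoid.powers a) R p.isPrime
        ((Ideal.disjoint_powers_iff_notMem a p.isPrime.isRadical).2 ha))
    · have hB₀lft : LocallyOfFiniteType (str k B₀) :=
        (HasRingHomProperty.Spec_iff (P := @LocallyOfFiniteType)).2 (RingHom.finiteType_algebraMap.2 this)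
      let V : (Spec (CommRingCat.of B₀)).Opens := y ⁻¹ᵁ jr.opensRange
      have hs : Set.range (Spec.map (CommRingCat.ofHom B₀.val.toRingHom)) ⊆ Set.range V.ι := by
        rintro _ ⟨q, rfl⟩
        rw [Scheme.Opens.range_ι]
        show y (Spec.map _ q) ∈ Set.range jr
        exact ⟨q, by rw [heq]; rfl⟩
      have hr : Set.range (V.ι ≫ y) ⊆ Set.range jr := by
        rintro _ ⟨q, rfl⟩
        exact q.2
      let s := IsOpenImmersion.lift V.ι _ hs
      let t := IsOpenImmersion.lift jr _ hr
      have hst : s ≫ t = 𝟙 _ := by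
        rw [← cancel_mono jr, Category.assoc, IsOpenImmersion.lift_fac, Category.id_comp, ← Category.assoc,
          IsOpenImmersion.lift_fac, ← heq]
      have : LocallyOfFiniteType (s ≫ t) := by rw [hst]; infer_instance
      have := locallyOfFiniteType_of_comp s t
      have hR : LocallyOfFiniteType (jr ≫ X.hom) := by
        have h : jr ≫ X.hom = s ≫ V.ι ≫ str k B₀ := by
          rw [hjr, ← Category.assoc, IsOpenImmersion.lift_fac, str_comp]
        rw [h]; infer_instance
      rw [show jr.opensRange.ι = jr.isoOpensRange.inv ≫ jr from (Scheme.Hom.isoOpensRange_inv_comp jr).symm,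
        Category.assoc]
      infer_instance
  choose W hW hWP using key
  have : IsZariskiLocalAtSource (@LocallyOfFiniteType.{u}) :=
    HasRingHomProperty.instIsZariskiLocalAtSource (Q := RingHom.FiniteType)
  refine IsZariskiLocalAtSource.of_iSup_eq_top (P := @LocallyOfFiniteType) W ?_ hWP
  exact eq_top_iff.2 fun pt _ => TopologicalSpace.Opens.mem_iSup.2 ⟨pt, hW pt⟩

include he in
theorem formallySmooth {s : k} (hrd : r ≤ d)
    (hI : ∀ i, (f i).comp (g i) = s • LinearMap.id ∧ (g i).comp (f i) = s • LinearMap.id)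
    (hIII : ∀ i j : Fin n, i.val + 1 = j.val → LinearMap.range (f i) ⊓ LinearMap.ker (f j) = ⊥)
    (x : Spec (CommRingCat.of k) ⟶ X.left) (hx : x ≫ X.hom = str k k)
    (hex : IsExact k d r n f g k (tuple e x hx).1) (q : Spec (CommRingCat.of k)) :
    (X.hom.stalkMap (x q)).hom.FormallySmooth := by
  obtain ⟨_, ⟨U, hU, rfl⟩, hpU, -⟩ :=
    X.left.isBasis_affineOpens.exists_subset_of_mem_open (Set.mem_univ (x q)) isOpen_univ
  have hU : IsAffineOpen U := hU
  have : IsOpenImmersion hU.fromSpec := hU.isOpenImmersion_fromSpec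
  let ρ := Spec.preimage (hU.fromSpec ≫ X.hom)
  let : Algebra k Γ(X.left, U) := ρ.hom.toAlgebra
  have hj : hU.fromSpec ≫ X.hom = str k Γ(X.left, U) := (Spec.map_preimage _).symm
  let u := tuple e hU.fromSpec hj
  have hrange : Set.range x ⊆ Set.range hU.fromSpec := by
    rintro _ ⟨q', rfl⟩
    rw [hU.range_fromSpec, Subsingleton.elim q' q]
    exact hpU
  let z₀ := IsOpenImmersion.lift hU.fromSpec x hrange
  let θ₀ := Spec.preimage z₀
  have hθ₀ : Spec.map θ₀ ≫ hU.fromSpec = x := by rw [Spec.map_preimage]; exact IsOpenImmersion.lift_fac ..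
  have hk : ρ ≫ θ₀ = CommRingCat.ofHom (algebraMap k k) := Spec.map_injective (by
    rw [Spec.map_comp, Spec.map_preimage, Spec.map_preimage, ← Category.assoc, IsOpenImmersion.lift_fac, hx])
  let φ₀ : Γ(X.left, U) →ₐ[k] k :=
    { θ₀.hom with commutes' := fun c => congrArg (fun h => h.hom c) hk }
  -- the stalk
  let θ := X.left.presheaf.germ U (x q) hpU
  let O := X.left.presheaf.stalk (x q)
  let : Algebra Γ(X.left, U) O := θ.hom.toAlgebra
  let : Algebra k O := (θ.hom.comp ρ.hom).toAlgebra
  have : IsScalarTower k Γ(X.left, U) O := IsScalarTower.of_algebraMap_eq fun _ => rfl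
  have hloc : IsLocalization.AtPrime O (hU.primeIdealOf ⟨x q, hpU⟩).asIdeal :=
    hU.isLocalization_stalk ⟨x q, hpU⟩
  have hp : ∀ b, b ∈ (hU.primeIdealOf ⟨x q, hpU⟩).asIdeal → φ₀ b = 0 := by
    intro b hb
    have h : hU.primeIdealOf ⟨x q, hpU⟩ = Spec.map θ₀ q := by
      refine hU.fromSpec.isOpenEmbedding.injective ?_
      rw [hU.fromSpec_primeIdealOf]
      show x q = (Spec.map θ₀ ≫ hU.fromSpec) q
      rw [hθ₀]
    rw [h] at hb
    have hq : q.asIdeal = ⊥ := (Ideal.eq_bot_or_top q.asIdeal).resolve_right q.isPrime.ne_top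
    have : θ₀.hom b ∈ q.asIdeal := hb
    rw [hq] at this
    exact this
  have hbot : ∀ i, Module.Grassmannian.map φ₀ (u.1 i) = (tuple e x hx).1 i := fun i =>
    (tuple_map e he φ₀ hU.fromSpec hj x hx (hθ₀.symm.trans rfl) i).symm
  have hsmooth : Algebra.FormallySmooth k O := by
    refine Algebra.FormallySmooth.of_comp_surjective fun C _ _ I hI2 ψ => ?_
    let β : Γ(X.left, U) →ₐ[k] C ⧸ I := ψ.comp (IsScalarTower.toAlgHom k Γ(X.left, U) O)
    have hβ : ∀ b, φ₀ b ≠ 0 → IsUnit (β b) := fun b hb =>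
      (IsLocalization.map_units O (⟨b, fun h => hb (hp b h)⟩ :
        (hU.primeIdealOf ⟨x q, hpU⟩).asIdeal.primeCompl)).map ψ
    obtain ⟨W, hW, hWmap⟩ := exists_lift hrd hI hIII u.2 φ₀ _ (tuple e x hx).2 hbot hex I hI2 β hβ
    obtain ⟨z, hz, hzW⟩ := exists_tuple e (⟨W, hW⟩ : LGPoints k d r n f g C)
    let π := Ideal.Quotient.mkₐ k I
    have h1 : (Spec.map (CommRingCat.ofHom π.toRingHom) ≫ z) ≫ X.hom = str k (C ⧸ I) := by
      rw [Category.assoc, hz]; exact str_comp π
    have h2 : (Spec.map (CommRingCat.ofHom β.toRingHom) ≫ hU.fromSpec) ≫ X.hom = str k (C ⧸ I) := by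
      rw [Category.assoc, hj]; exact str_comp β
    have heq : Spec.map (CommRingCat.ofHom π.toRingHom) ≫ z =
        Spec.map (CommRingCat.ofHom β.toRingHom) ≫ hU.fromSpec := by
      refine tuple_injective e (h := h1) (h' := h2) fun i => ?_
      rw [tuple_map e he π z hz _ h1 rfl i, tuple_map e he β hU.fromSpec hj _ h2 rfl i, hzW]
      exact hWmap i
    have hrangez : Set.range z ⊆ Set.range hU.fromSpec := by
      rintro _ ⟨c, rfl⟩
      have hc : c ∈ Set.range (PrimeSpectrum.comap (π.toRingHom)) := by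
        rw [range_comap_of_surjective _ π.toRingHom Ideal.Quotient.mk_surjective]
        intro i hi
        have hi' : i ∈ I := Ideal.Quotient.eq_zero_iff_mem.1 hi
        refine c.isPrime.mem_of_pow_mem 2 ?_
        have h : i ^ 2 ∈ I ^ 2 := Ideal.pow_mem_pow hi' 2
        rw [hI2, Ideal.mem_bot] at h
        rw [h]; exact zero_mem _
      obtain ⟨c', rfl⟩ := hc
      refine ⟨Spec.map (CommRingCat.ofHom β.toRingHom) c', ?_⟩
      show (Spec.map (CommRingCat.ofHom β.toRingHom) ≫ hU.fromSpec) c' = _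
      rw [← heq]
      rfl
    let θC := Spec.preimage (IsOpenImmersion.lift hU.fromSpec z hrangez)
    have hθC : Spec.map θC ≫ hU.fromSpec = z := by rw [Spec.map_preimage]; exact IsOpenImmersion.lift_fac ..
    have hkC : ρ ≫ θC = CommRingCat.ofHom (algebraMap k C) := Spec.map_injective (by
      rw [Spec.map_comp, Spec.map_preimage, Spec.map_preimage, ← Category.assoc, IsOpenImmersion.lift_fac, hz])
    let βC : Γ(X.left, U) →ₐ[k] C :=
      { θC.hom with commutes' := fun c => congrArg (fun h => h.hom c) hkC }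
    have hβC : θC ≫ CommRingCat.ofHom π.toRingHom = CommRingCat.ofHom β.toRingHom := Spec.map_injective (by
      rw [Spec.map_comp, ← cancel_mono hU.fromSpec, Category.assoc, hθC, heq])
    have hβC' : ∀ b, π (βC b) = β b := fun b => congrArg (fun h => h.hom b) hβC
    have hunit : ∀ y : (hU.primeIdealOf ⟨x q, hpU⟩).asIdeal.primeCompl, IsUnit (βC y) := fun y =>
      (IsNilpotent.isUnit_quotient_mk_iff ⟨2, hI2⟩).1 (by
        rw [← Ideal.Quotient.mkₐ_eq_mk k, hβC']
        exact (IsLocalization.map_units O y).map ψ)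
    refine ⟨IsLocalization.liftAlgHom (f := βC) hunit, ?_⟩
    refine AlgHom.coe_ringHom_injective (IsLocalization.ringHom_ext
      (hU.primeIdealOf ⟨x q, hpU⟩).asIdeal.primeCompl (RingHom.ext fun b => ?_))
    simp only [RingHom.coe_comp, AlgHom.coe_toRingHom, Function.comp_apply, AlgHom.comp_apply,
      IsLocalization.liftAlgHom_apply, IsLocalization.lift_eq]
    exact hβC' b
  -- the source of the stalk map
  let T : CommRingCat.of k ⟶ (Spec (CommRingCat.of k)).presheaf.stalk (X.hom (x q)) :=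
    StructureSheaf.toStalk (CommRingCat.of k) _
  have hT : T ≫ X.hom.stalkMap (x q) = ρ ≫ θ := Spec.map_injective (by
    rw [Spec.map_comp, Spec.map_comp, Spec.map_preimage, ← Category.assoc,
      show Spec.map T = (Spec (CommRingCat.of k)).fromSpecStalk (X.hom (x q)) from
        (Spec.fromSpecStalk_eq' (CommRingCat.of k) (X.hom (x q))).symm,
      Scheme.SpecMap_stalkMap_fromSpecStalk,
      ← hU.fromSpecStalk_eq_fromSpecStalk hpU]
    rfl)
  let S := (Spec (CommRingCat.of k)).presheaf.stalk (X.hom (x q))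
  let q' : PrimeSpectrum k := X.hom (x q)
  let : Algebra S O := (X.hom.stalkMap (x q)).hom.toAlgebra
  let : Algebra k S := T.hom.toAlgebra
  have : IsScalarTower k S O := IsScalarTower.of_algebraMap_eq fun c => (congrArg (fun h => h.hom c) hT).symm
  have : IsLocalization.AtPrime S q'.asIdeal := StructureSheaf.IsLocalization.to_stalk _ _
  have hsurj : Function.Surjective (algebraMap k S) := by
    intro y
    obtain ⟨⟨a, c⟩, hc⟩ := IsLocalization.surj q'.asIdeal.primeCompl y
    have hc0 : (c : k) ≠ 0 := fun h => c.2 (by rw [h]; exact zero_mem _)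
    refine ⟨a * (c : k)⁻¹, ?_⟩
    rw [map_mul, ← hc, mul_assoc, ← map_mul, mul_inv_cancel₀ hc0, map_one, mul_one]
  have : Algebra.FormallyUnramified k S := Algebra.FormallyUnramified.of_surjective (Algebra.ofId k S) hsurj
  exact Algebra.FormallySmooth.of_restrictScalars k S O

end Groth.Agent.Lib.LinkGr
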