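import Groth.Agent.Lib.LinkGr.Two

/-!
# A rational point is exact iff it lies on one component
-/

open AlgebraicGeometry CategoryTheory W4c1limliniiii TensorProduct

universe u

namespace Groth.Agent.Lib.LinkGr

variable {k : Type u} [Field k] {d r n : ℕ} {f g : Fin n → ((Fin d → k) →ₗ[k] (Fin d → k))} {s : k}
  {X : Over (Spec (CommRingCat.of k))}
  (e : ∀ A : CommAlgCat.{u} k,
    (Over.mk (Spec.map (CommRingCat.ofHom (algebraMap k A))) ⟶ X) ≃ LGPoints k d r n f g A)
  (he : ∀ (A B : CommAlgCat.{u} k) (φ : A ⟶ B)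
      (x : Over.mk (Spec.map (CommRingCat.ofHom (algebraMap k A))) ⟶ X)
      (x' : Over.mk (Spec.map (CommRingCat.ofHom (algebraMap k B))) ⟶ X),
      x'.left = Spec.map (CommRingCat.ofHom φ.hom.toRingHom) ≫ x.left →
        ∀ i, (e B x').1 i = Module.Grassmannian.map φ.hom ((e A x).1 i))

/-- The reversed chain. -/
def revMaps (h : Fin n → ((Fin d → k) →ₗ[k] (Fin d → k))) (i : Fin n) : (Fin d → k) →ₗ[k] (Fin d → k) :=
  h (Fin.rev i)

/-- Reversal of linked tuples. -/
def revEquiv (A : Type u) [CommRing A] [Algebra k A] :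
    LGPoints k d r n f g A ≃ LGPoints k d r n (revMaps g) (revMaps f) A where
  toFun W := ⟨fun i => W.1 (Fin.rev i), fun i => by
    have h := W.2 (Fin.rev i)
    simp only [Fin.rev_succ, Fin.rev_castSucc, revMaps]
    exact ⟨h.2, h.1⟩⟩
  invFun W := ⟨fun i => W.1 (Fin.rev i), fun i => by
    have h := W.2 (Fin.rev i)
    simp only [revMaps, Fin.rev_rev] at h
    simp only [Fin.rev_succ, Fin.rev_castSucc]
    exact ⟨h.2, h.1⟩⟩
  left_inv W := by ext i; simp
  right_inv W := by ext i; simp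

/-- The representation of the reversed functor. -/
noncomputable def revRep (A : CommAlgCat.{u} k) :
    (Over.mk (Spec.map (CommRingCat.ofHom (algebraMap k A))) ⟶ X) ≃
      LGPoints k d r n (revMaps g) (revMaps f) A :=
  (e A).trans (revEquiv A)

theorem ptRank_rev (φ₀ : (Fin d → k) →ₗ[k] (Fin d → k)) (l : Fin (n + 1)) (pt : X.left) :
    ptRank (revRep e) φ₀ l pt = ptRank e φ₀ (Fin.rev l) pt := rfl

include he in
theorem exists_chart_covering (hrd : r ≤ d)
    (hI : ∀ i, (f i).comp (g i) = s • LinearMap.id ∧ (g i).comp (f i) = s • LinearMap.id)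
    (hIII : ∀ i j : Fin n, i.val + 1 = j.val → LinearMap.range (f i) ⊓ LinearMap.ker (f j) = ⊥)
    (x : Spec (CommRingCat.of k) ⟶ X.left) (hx : x ≫ X.hom = str k k)
    (hex : IsExact k d r n f g k (tuple e x hx).1) (q : Spec (CommRingCat.of k)) :
    ∃ ξ : X.left, ∀ η, η ⤳ x q → ξ ⤳ η := by
  classical
  let D := lpt (X := X) (x q)
  obtain ⟨σ, hσ⟩ := exists_residue_algHom D.res x hx q rfl
  obtain ⟨h, W, hW, β, hβ, -, hlift⟩ := exists_affine_chart hrd hI hIII (tuple e x hx).2 hex
  obtain ⟨y, hy, hy'⟩ := exists_tuple e (⟨W, hW⟩ : LGPoints k d r n f g (Localization.Away h))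
  have hmap : ∀ i, Module.Grassmannian.map (σ.comp D.π) ((tuple e D.iA D.hA).1 i) = (tuple e x hx).1 i := fun i =>
    (tuple_map e he (σ.comp D.π) D.iA D.hA x hx (by
      exact hσ.trans (by rw [← Category.assoc, ← Spec.map_comp, ← CommRingCat.ofHom_comp]; rfl)) i).symm
  obtain ⟨βA, hβA⟩ := hlift D.A (σ.comp D.π) (fun a => ⟨algebraMap k _ a, by simp⟩)
    (fun a ha => D.units a fun h0 => ha (by rw [AlgHom.comp_apply, h0, map_zero]))
    (tuple e D.iA D.hA).1 (tuple e D.iA D.hA).2 hmap
  have heq : Spec.map (CommRingCat.ofHom βA.toRingHom) ≫ y = D.iA := by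
    have h1 : (Spec.map (CommRingCat.ofHom βA.toRingHom) ≫ y) ≫ X.hom = str k D.A := by
      rw [Category.assoc, hy]; exact str_comp _
    refine tuple_injective e (h := h1) (h' := D.hA) fun i => ?_
    rw [tuple_map e he βA y hy _ h1 rfl i, hy']
    exact hβA i
  let R := MvPolynomial (Fin r × Fin (d - r)) k
  have hh : h ≠ 0 := fun hh => by
    have h1 := ((IsLocalization.Away.algebraMap_isUnit (S := Localization.Away h) h).map β).ne_zero
    exact h1 (by subst hh; simp)
  have hdom : IsDomain (Localization.Away h) :=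
    IsLocalization.isDomain_localization (powers_le_nonZeroDivisors_of_noZeroDivisors hh)
  let η₀ : Spec (CommRingCat.of (Localization.Away h)) := (⟨⊥, Ideal.isPrime_bot⟩ : PrimeSpectrum (Localization.Away h))
  refine ⟨y η₀, fun η hη => ?_⟩
  obtain ⟨q', hq'⟩ := D.gen η hη
  have h1 : η₀ ⤳ Spec.map (CommRingCat.ofHom βA.toRingHom) q' :=
    (PrimeSpectrum.le_iff_specializes (R := Localization.Away h) ⟨⊥, Ideal.isPrime_bot⟩ _).1 bot_le
  have h2 := h1.map y.continuous
  have h3 : y (Spec.map (CommRingCat.ofHom βA.toRingHom) q') = η := by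
    show (Spec.map (CommRingCat.ofHom βA.toRingHom) ≫ y).base q' = η
    rw [heq]
    exact hq'
  rwa [h3] at h2

theorem exists_generic {Z : Set X.left} (hZ : Z ∈ irreducibleComponents X.left) : ∃ ξ, IsGenericPoint ξ Z :=
  QuasiSober.sober hZ.1 (isClosed_of_mem_irreducibleComponents Z hZ)

include he in
theorem not_exact_iff (hrd : r ≤ d)
    (hI : ∀ i, (f i).comp (g i) = s • LinearMap.id ∧ (g i).comp (f i) = s • LinearMap.id)
    (hII : ∀ i, d ≤ Module.finrank k (LinearMap.range (f i)) + Module.finrank k (LinearMap.range (g i)))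
    (hIII : ∀ i j : Fin n, i.val + 1 = j.val →
      LinearMap.range (f i) ⊓ LinearMap.ker (f j) = ⊥ ∧ LinearMap.range (g j) ⊓ LinearMap.ker (g i) = ⊥)
    (x : Spec (CommRingCat.of k) ⟶ X.left) (hx : x ≫ X.hom = str k k) :
    ¬ IsExact k d r n f g k (tuple e x hx).1 ↔
      ∃ Z₁ ∈ irreducibleComponents X.left, ∃ Z₂ ∈ irreducibleComponents X.left,
        Z₁ ≠ Z₂ ∧ Set.range x ⊆ Z₁ ∩ Z₂ := by
  classical
  let q : Spec (CommRingCat.of k) := (⟨⊥, Ideal.isPrime_bot⟩ : PrimeSpectrum k)
  constructor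
  · intro hex
    by_contra hno
    have hs : s = 0 := by
      by_contra hs
      exact hex (isExact_of_ne_zero hI hs _)
    subst hs
    let Z := irreducibleComponent (x q)
    have hZ : Z ∈ irreducibleComponents X.left := irreducibleComponent_mem_irreducibleComponents _
    obtain ⟨ξ, hξ⟩ := exists_generic hZ
    have hgen : ∀ η, η ⤳ x q → ξ ⤳ η := by
      intro η hη
      have h1 : x q ∈ irreducibleComponent η :=
        hη.mem_closed isClosed_irreducibleComponent mem_irreducibleComponent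
      have h2 : irreducibleComponent η = Z := by
        by_contra hne
        exact hno ⟨_, irreducibleComponent_mem_irreducibleComponents η, Z, hZ, hne, by
          rintro _ ⟨q', rfl⟩
          obtain rfl : q' = q := Subsingleton.elim _ _
          exact ⟨h1, mem_irreducibleComponent⟩⟩
      exact hξ.specializes (h2 ▸ mem_irreducibleComponent)
    obtain ⟨i, hfail⟩ : ∃ i : Fin n, imrk (f i) ((tuple e x hx).1 i.castSucc) +
        imrk (g i) ((tuple e x hx).1 i.succ) < r := by
      by_contra! hall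
      refine hex fun i => ?_
      have h2 := hall i
      obtain ⟨hF, hG⟩ := mem_linked (tuple e x hx).2
      have hle1 := (ker_le_iff (φ := FA k f i) (ψ := FA k g i)
        (fun z => by rw [smul_eq (f := g) (g := f) (fun i => (hI i).2) k i.isLt, map_zero, zero_smul])
        (hF i i.isLt) (finrank_eq hrd _)).2
      have hle2 := (ker_le_iff (φ := FA k g i) (ψ := FA k f i)
        (fun z => by rw [smul_eq (fun i => (hI i).1) k i.isLt, map_zero, zero_smul])
        (hG i i.isLt) (finrank_eq hrd _)).2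
      rw [imrk_eq_FA, imrk_eq_FA, ← mem_val, ← mem_val, Fin.val_castSucc, Fin.val_succ] at h2
      rw [← mem_val, ← mem_val, Fin.val_succ, Fin.val_castSucc, ← FA_apply, ← FA_apply]
      exact ⟨hle1 h2, hle2 (by omega)⟩
    have hb := rank_generic_eq e he hrd hI hII hIII hgen i
    have ha := rank_generic_eq (revRep e) (fun A B φ x' x'' h i => he A B φ x' x'' h (Fin.rev i)) hrd
      (fun i => ⟨(hI (Fin.rev i)).2, (hI (Fin.rev i)).1⟩)
      (fun i => by have := hII (Fin.rev i); rw [add_comm] at this; exact this)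
      (fun i j h => by
        have h' : (Fin.rev j).val + 1 = (Fin.rev i).val := by simp only [Fin.val_rev]; omega
        exact ⟨(hIII _ _ h').2, (hIII _ _ h').1⟩) hgen (Fin.rev i)
    simp only [ptRank_rev, Fin.rev_succ, Fin.rev_castSucc, Fin.rev_rev, revMaps] at ha
    have hbx := ptRank_eq e he x hx q rfl (g i) i.succ
    have hax := ptRank_eq e he x hx q rfl (f i) i.castSucc
    omega
  · rintro ⟨Z₁, hZ₁, Z₂, hZ₂, hne, hsub⟩ hex
    obtain ⟨ξ, hξ⟩ := exists_chart_covering e he hrd hI (fun i j h => (hIII i j h).1) x hx hex q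
    obtain ⟨ξ₁, hξ₁⟩ := exists_generic hZ₁
    obtain ⟨ξ₂, hξ₂⟩ := exists_generic hZ₂
    have h1 := eq_of_specializes hZ₁ hξ₁ (hξ ξ₁ (hξ₁.specializes (hsub ⟨q, rfl⟩).1))
    have h2 := eq_of_specializes hZ₂ hξ₂ (hξ ξ₂ (hξ₂.specializes (hsub ⟨q, rfl⟩).2))
    exact hne (by rw [← hξ₁.def, ← hξ₂.def, ← h1, ← h2])

end Groth.Agent.Lib.LinkGr
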